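import Mathlib.Algebra.Group.Defs

set_option autoImplicit false

/-!
The lists of orbits with their coefficients at the norm sixteen which fit (owner: helper25; generator:
`notes/u34_cert_helper25`).
-/

namespace CfsgLib.Recog.UFourSylow.Cert

/-- The lists. -/
def keys : List (List (ℕ × ℤ)) := [
  [(49, 1), (50, 0), (50, 1), (50, 1), (72, 0), (72, 1), (72, 1), (72, 1)],
  [(49, 2), (50, (-1)), (50, 1), (50, 1), (72, 0), (72, 0), (72, 1), (72, 1)],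
  [(49, 2), (50, 0), (50, 0), (50, 1), (72, 0), (72, 0), (72, 1), (72, 1)],
  [(49, 3), (50, (-1)), (50, 0), (50, 1), (72, 0), (72, 0), (72, 0), (72, 1)],
  [(49, 3), (50, 0), (50, 0), (50, 0), (72, 0), (72, 0), (72, 0), (72, 1)],
  [(49, 2), (50, (-1)), (50, 0), (50, 2), (70, 0), (71, 1)],
  [(49, 2), (50, (-1)), (50, 1), (50, 1), (70, (-1)), (71, 1)],
  [(49, 2), (50, (-1)), (50, 1), (50, 1), (70, 0), (71, 1)],
  [(49, 2), (50, (-1)), (50, 1), (50, 1), (70, 1), (71, 1)],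
  [(49, 2), (50, 0), (50, 0), (50, 1), (70, (-1)), (71, 1)],
  [(49, 2), (50, 0), (50, 0), (50, 1), (70, 0), (71, 1)],
  [(49, 2), (50, 0), (50, 0), (50, 1), (70, 1), (71, 1)],
  [(49, 1), (50, 0), (50, 0), (50, 2), (69, 0), (73, 1), (73, 2)],
  [(49, 1), (50, 0), (50, 1), (50, 1), (69, 0), (73, 1), (73, 2)],
  [(49, 2), (50, (-1)), (50, 0), (50, 2), (69, 0), (73, 1), (73, 1)],
  [(49, 2), (50, (-1)), (50, 1), (50, 1), (69, (-1)), (73, 1), (73, 1)],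
  [(49, 2), (50, (-1)), (50, 1), (50, 1), (69, 0), (73, 0), (73, 2)],
  [(49, 2), (50, (-1)), (50, 1), (50, 1), (69, 0), (73, 1), (73, 1)],
  [(49, 2), (50, (-1)), (50, 1), (50, 1), (69, 1), (73, 1), (73, 1)],
  [(49, 2), (50, 0), (50, 0), (50, 1), (69, (-1)), (73, 1), (73, 1)],
  [(49, 2), (50, 0), (50, 0), (50, 1), (69, 0), (73, 0), (73, 2)],
  [(49, 2), (50, 0), (50, 0), (50, 1), (69, 0), (73, 1), (73, 1)],
  [(49, 2), (50, 0), (50, 0), (50, 1), (69, 1), (73, 1), (73, 1)],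
  [(49, 3), (50, (-1)), (50, 0), (50, 1), (69, 0), (73, 0), (73, 1)],
  [(49, 3), (50, 0), (50, 0), (50, 0), (69, (-1)), (73, 0), (73, 1)],
  [(49, 3), (50, 0), (50, 0), (50, 0), (69, 0), (73, 0), (73, 1)],
  [(49, 3), (50, 0), (50, 0), (50, 0), (69, 1), (73, 0), (73, 1)],
  [(49, 2), (50, (-1)), (50, 0), (50, 2), (61, 1)],
  [(49, 2), (50, (-1)), (50, 1), (50, 1), (61, 1)],
  [(49, 2), (50, 0), (50, 0), (50, 1), (61, 1)],
  [(49, 2), (50, (-1)), (50, 0), (50, 2), (60, 1)],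
  [(49, 2), (50, (-1)), (50, 1), (50, 1), (60, 1)],
  [(49, 2), (50, 0), (50, 0), (50, 1), (60, 1)],
  [(45, 1), (50, (-1)), (50, 2), (71, 1), (72, 0), (72, 1)],
  [(45, 1), (50, 0), (50, 1), (71, 1), (72, 0), (72, 1)],
  [(45, 2), (50, (-1)), (50, 0), (71, 1), (72, 0), (72, 0)],
  [(45, 1), (50, (-1)), (50, 2), (69, 0), (73, 1), (74, 2)],
  [(45, 1), (50, 0), (50, 1), (69, (-1)), (73, 1), (74, 2)],
  [(45, 1), (50, 0), (50, 1), (69, 0), (73, 0), (74, 3)],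
  [(45, 1), (50, 0), (50, 1), (69, 0), (73, 1), (74, 2)],
  [(45, 1), (50, 0), (50, 1), (69, 0), (73, 2), (74, 1)],
  [(45, 1), (50, 0), (50, 1), (69, 1), (73, 1), (74, 2)],
  [(45, 2), (50, (-1)), (50, 0), (69, 0), (73, 0), (74, 2)],
  [(45, 2), (50, (-1)), (50, 0), (69, 0), (73, 1), (74, 1)]]

end CfsgLib.Recog.UFourSylow.Cert
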