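import Cfsg.Agent.Lib.Recog.UFourSylow.Cert.Key
import Cfsg.Agent.Lib.Recog.UFourSylow.Cert.Keys
import Mathlib.Algebra.Order.Ring.Abs
import Mathlib.Tactic.Linarith

set_option autoImplicit false
set_option maxRecDepth 100000

/-!
The search for all lists of orbits with the prescribed products (owner: helper25).
-/

namespace CfsgLib.Recog.UFourSylow.Cert

/-- The coefficients at the norm sixteen tried. -/
def betas : List ℤ := [-3, -2, -1, 0, 1, 2, 3]

/-- The search of the coefficients at the norm sixteen. -/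
def goB : List ℕ → ℕ → ℤ → ℤ → ℤ → ℤ → Key → Bool
  | [], _, _, _, x, y, acc => !(decide (x = 0 ∧ y = 0)) || keys.any fun k => decide (k = acc)
  | t :: ts, pt, pb, q, x, y, acc =>
    decide (3 * ((t :: ts).map fun i => |(typ i).s0|).sum < |x|) ||
    (decide (3 * ((t :: ts).map fun i => |(typ i).s1|).sum < |y|) ||
    betas.all fun b => (decide (t = pt) && decide (b < pb)) || (decide (q < ((typ t).n : ℤ) * b * b) ||
      goB ts t b (q - ((typ t).n : ℤ) * b * b) (x - b * (typ t).s0) (y - b * (typ t).s1) (acc ++ [(t, b)])))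

/-- The first type without the coefficient zero. -/
def firstZero : ℕ := 51

/-- The search of the types. -/
def goT : ℕ → ℕ → ℤ → ℤ → ℤ → ℤ → ℤ → List ℕ → Bool
  | 0, _, _, _, _, _, _, _ => false
  | f + 1, i, r0, r1, r2, r3, r4, acc =>
    if r0 = 0 ∧ r1 = 0 then !(decide (r2 = 0 ∧ r3 = 0 ∧ r4 = 0)) || goB acc 75 0 15 3 4 []
    else if 75 ≤ i ∨ (r0 ≠ 0 ∧ firstZero ≤ i) then true
    else goT f (i + 1) r0 r1 r2 r3 r4 acc &&
      (decide (r0 < (typ i).gram.1) || (decide (r1 < (typ i).gram.2.1) ||
        goT f i (r0 - (typ i).gram.1) (r1 - (typ i).gram.2.1) (r2 - (typ i).gram.2.2.1) (r3 - (typ i).gram.2.2.2.1)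
          (r4 - (typ i).gram.2.2.2.2) (acc ++ [i])))

theorem goT_ok : goT 100 0 4 5 1 1 1 [] = true := by decide +kernel

/-- What the search uses of a type. -/
def typFacts (i : ℕ) : Bool :=
  decide (0 ≤ (typ i).gram.1 ∧ 0 ≤ (typ i).gram.2.1 ∧ 0 < (typ i).gram.1 + (typ i).gram.2.1 ∧ 1 ≤ (typ i).n ∧
    (firstZero ≤ i → (typ i).gram.1 = 0))

theorem typFacts_ok : (List.range 75).all typFacts = true := by decide +kernel

theorem typ_facts {i : ℕ} (h : i < 75) : 0 ≤ (typ i).gram.1 ∧ 0 ≤ (typ i).gram.2.1 ∧
    0 < (typ i).gram.1 + (typ i).gram.2.1 ∧ 1 ≤ (typ i).n ∧ (firstZero ≤ i → (typ i).gram.1 = 0) := by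
  have := List.all_eq_true.1 typFacts_ok i (List.mem_range.2 h)
  exact of_decide_eq_true this

theorem sum_nonneg_map {α : Type*} (g : α → ℤ) : ∀ l : List α, (∀ x ∈ l, 0 ≤ g x) → 0 ≤ (l.map g).sum
  | [], _ => le_refl _
  | x :: l, h => by
    have := sum_nonneg_map g l fun y hy => h y (List.mem_cons_of_mem _ hy)
    have := h x (List.mem_cons_self ..)
    simp only [List.map_cons, List.sum_cons]
    omega

theorem abs_bound (g : ℕ → ℤ) : ∀ l : List (ℕ × ℤ), (∀ e ∈ l, |e.2| ≤ 3) →
    |(l.map fun e => e.2 * g e.1).sum| ≤ 3 * ((l.map Prod.fst).map fun i => |g i|).sum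
  | [], _ => by simp
  | e :: l, h => by
    have h1 := abs_bound g l fun y hy => h y (List.mem_cons_of_mem _ hy)
    have h2 := h e (List.mem_cons_self ..)
    simp only [List.map_cons, List.sum_cons]
    have h3 := abs_add_le (e.2 * g e.1) (l.map fun e => e.2 * g e.1).sum
    have h4 : |e.2 * g e.1| ≤ 3 * |g e.1| := by rw [abs_mul]; exact mul_le_mul_of_nonneg_right h2 (abs_nonneg _)
    linarith

theorem beta_bound {n : ℕ} {b : ℤ} (hn : 1 ≤ n) (h : (n : ℤ) * b * b ≤ 15) : -3 ≤ b ∧ b ≤ 3 := by
  have : (1 : ℤ) ≤ n := by exact_mod_cast hn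
  constructor <;> by_contra hc <;> push Not at hc <;> nlinarith [mul_self_nonneg b]

theorem goB_sound : ∀ (ts : List ℕ) (pt : ℕ) (pb q x y : ℤ) (acc l : Key), goB ts pt pb q x y acc = true →
    l.map Prod.fst = ts → (∀ e ∈ l, e.1 < 75) → q ≤ 15 →
    l.Pairwise (fun a b => a.1 = b.1 → a.2 ≤ b.2) → (∀ e ∈ l, e.1 = pt → pb ≤ e.2) →
    (l.map fun e => ((typ e.1).n : ℤ) * e.2 * e.2).sum ≤ q →
    (l.map fun e => e.2 * (typ e.1).s0).sum = x → (l.map fun e => e.2 * (typ e.1).s1).sum = y →
    acc ++ l ∈ keys
  | [], pt, pb, q, x, y, acc, l, h, hl, _, _, _, _, _, hx, hy => by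
    rw [List.map_eq_nil_iff] at hl
    subst hl
    simp only [List.map_nil, List.sum_nil] at hx hy
    subst hx hy
    simp only [goB, and_self, decide_true, Bool.not_true, Bool.false_or, List.any_eq_true, decide_eq_true_iff] at h
    obtain ⟨k, hk, rfl⟩ := h
    rwa [List.append_nil]
  | t :: ts, pt, pb, q, x, y, acc, [], _, hl, _, _, _, _, _, _, _ => by simp at hl
  | t :: ts, pt, pb, q, x, y, acc, (t', b) :: l, h, hl, hlt, hq15, hpw, hpb, hq, hx, hy => by
    simp only [List.map_cons, List.cons.injEq] at hl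
    obtain ⟨rfl, rfl⟩ := hl
    have hn := fun e he => (typ_facts (hlt e he)).2.2.2.1
    have hbound : ∀ e ∈ (t', b) :: l, |e.2| ≤ 3 := fun e he => by
      obtain ⟨u, v⟩ := beta_bound (b := e.2) (hn e he) (by
        refine le_trans (le_trans ?_ hq) hq15
        exact List.single_le_sum (fun z hz => by
          obtain ⟨e', -, rfl⟩ := List.mem_map.1 hz
          have := mul_self_nonneg e'.2
          rw [mul_assoc]
          positivity) _ (List.mem_map.2 ⟨e, he, rfl⟩))
      exact abs_le.2 ⟨u, v⟩
    simp only [goB, Bool.or_eq_true, decide_eq_true_iff, List.all_eq_true, Bool.and_eq_true] at h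
    rcases h with h | h | h
    · exfalso
      have := abs_bound (fun i => (typ i).s0) _ hbound
      rw [hx] at this
      simp only [List.map_cons] at this h
      omega
    · exfalso
      have := abs_bound (fun i => (typ i).s1) _ hbound
      rw [hy] at this
      simp only [List.map_cons] at this h
      omega
    · obtain ⟨hb1, hb2⟩ := abs_le.1 (hbound _ (List.mem_cons_self ..))
      simp only at hb1 hb2
      have hrest := sum_nonneg_map (fun e : ℕ × ℤ => ((typ e.1).n : ℤ) * e.2 * e.2) l fun e _ => by
        have := mul_self_nonneg e.2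
        rw [mul_assoc]
        positivity
      simp only [List.map_cons, List.sum_cons] at hq hx hy
      have hbmem : b ∈ betas := by
        simp only [betas, List.mem_cons, List.not_mem_nil, or_false]
        omega
      rcases h b hbmem with ⟨ht, hlt'⟩ | h' | h'
      · exfalso
        have := hpb (t', b) (List.mem_cons_self ..) ht
        simp only at this
        omega
      · exfalso; omega
      · have hsnoc : acc ++ (t', b) :: l = (acc ++ [(t', b)]) ++ l := by simp
        rw [hsnoc]
        refine goB_sound _ _ _ _ _ _ _ l h' rfl (fun e he => hlt e (List.mem_cons_of_mem _ he)) ?_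
          (List.pairwise_cons.1 hpw).2 (fun e he ht => (List.pairwise_cons.1 hpw).1 e he ht.symm) (by omega) (by omega)
          (by omega)
        have := mul_self_nonneg b
        have : 0 ≤ ((typ t').n : ℤ) * b * b := by rw [mul_assoc]; positivity
        omega

theorem goT_sound : ∀ (f i : ℕ) (r0 r1 r2 r3 r4 : ℤ) (acc l : List ℕ),
    goT f i r0 r1 r2 r3 r4 acc = true → (∀ t ∈ l, i ≤ t ∧ t < 75) → l.Pairwise (· ≤ ·) →
    (l.map fun t => (typ t).gram.1).sum = r0 → (l.map fun t => (typ t).gram.2.1).sum = r1 →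
    (l.map fun t => (typ t).gram.2.2.1).sum = r2 → (l.map fun t => (typ t).gram.2.2.2.1).sum = r3 →
    (l.map fun t => (typ t).gram.2.2.2.2).sum = r4 →
    goB (acc ++ l) 75 0 15 3 4 [] = true
  | 0, i, r0, r1, r2, r3, r4, acc, l, h, _, _, _, _, _, _, _ => by simp [goT] at h
  | f + 1, i, r0, r1, r2, r3, r4, acc, l, h, hl, hpw, e0, e1, e2, e3, e4 => by
    simp only [goT] at h
    have hpos : ∀ t ∈ l, 0 ≤ (typ t).gram.1 ∧ 0 ≤ (typ t).gram.2.1 := fun t ht =>
      ⟨(typ_facts (hl t ht).2).1, (typ_facts (hl t ht).2).2.1⟩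
    split_ifs at h with hz hstop
    · cases l with
      | nil =>
        simp only [List.map_nil, List.sum_nil] at e2 e3 e4
        subst e2 e3 e4
        simpa using h
      | cons t l =>
        exfalso
        have h1 := sum_nonneg_map (fun t => (typ t).gram.1) l fun u hu => (hpos u (List.mem_cons_of_mem _ hu)).1
        have h2 := sum_nonneg_map (fun t => (typ t).gram.2.1) l fun u hu => (hpos u (List.mem_cons_of_mem _ hu)).2
        have h3 := (typ_facts (hl t (List.mem_cons_self ..)).2).2.2.1
        have := hpos t (List.mem_cons_self ..)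
        simp only [List.map_cons, List.sum_cons] at e0 e1
        omega
    · exfalso
      rcases hstop with hi | ⟨hr, hi⟩
      · cases l with
        | nil => simp only [List.map_nil, List.sum_nil] at e0 e1; omega
        | cons t l => have := hl t (List.mem_cons_self ..); omega
      · refine hr (e0 ▸ List.sum_eq_zero fun z hz => ?_)
        obtain ⟨t, ht, rfl⟩ := List.mem_map.1 hz
        exact (typ_facts (hl t ht).2).2.2.2.2 (le_trans hi (hl t ht).1)
    · simp only [Bool.and_eq_true, Bool.or_eq_true, decide_eq_true_iff] at h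
      by_cases hi : ∀ t ∈ l, i + 1 ≤ t
      · exact goT_sound f (i + 1) _ _ _ _ _ acc l h.1 (fun t ht => ⟨hi t ht, (hl t ht).2⟩) hpw e0 e1 e2 e3 e4
      · push Not at hi
        obtain ⟨t, ht, hti⟩ := hi
        cases l with
        | nil => simp at ht
        | cons u l =>
          have hu : u = i := by
            have := (hl u (List.mem_cons_self ..)).1
            rcases List.mem_cons.1 ht with rfl | ht'
            · omega
            · have := (List.pairwise_cons.1 hpw).1 t ht'; omega
          subst hu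
          simp only [List.map_cons, List.sum_cons] at e0 e1 e2 e3 e4
          have h1 := sum_nonneg_map (fun t => (typ t).gram.1) l fun v hv => (hpos v (List.mem_cons_of_mem _ hv)).1
          have h2 := sum_nonneg_map (fun t => (typ t).gram.2.1) l fun v hv => (hpos v (List.mem_cons_of_mem _ hv)).2
          rcases h.2 with h' | h' | h'
          · omega
          · omega
          · rw [show acc ++ u :: l = (acc ++ [u]) ++ l by simp]
            exact goT_sound f u _ _ _ _ _ _ l h' (fun v hv => ⟨(List.pairwise_cons.1 hpw).1 v hv,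
              (hl v (List.mem_cons_of_mem _ hv)).2⟩) (List.pairwise_cons.1 hpw).2 (by omega) (by omega) (by omega)
              (by omega) (by omega)

/-- The keys are complete. -/
theorem keyOf_mem {L : List Blk} (hB : Blocks L) : keyOf L ∈ keys := by
  have hT : (keyOf L).map Prod.fst = L.map Blk.t := by simp [keyOf, List.map_map, Function.comp_def]
  have := goT_sound 100 0 4 5 1 1 1 [] (L.map Blk.t) goT_ok
    (fun t ht => by obtain ⟨B, hL, rfl⟩ := List.mem_map.1 ht; exact ⟨Nat.zero_le _, hB.idx B hL⟩)
    (List.pairwise_map.2 (hB.sorted.imp fun {B C} h => by rcases h with h | ⟨h, -⟩ <;> omega))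
    (by simpa [List.map_map, Function.comp_def] using hB.gram.1)
    (by simpa [List.map_map, Function.comp_def] using hB.gram.2.1)
    (by simpa [List.map_map, Function.comp_def] using hB.gram.2.2.1)
    (by simpa [List.map_map, Function.comp_def] using hB.gram.2.2.2.1)
    (by simpa [List.map_map, Function.comp_def] using hB.gram.2.2.2.2)
  rw [List.nil_append] at this
  refine (List.nil_append (keyOf L)) ▸ goB_sound _ _ _ _ _ _ [] (keyOf L) this hT ?_ le_rfl ?_ ?_ ?_ ?_ ?_
  · intro e he
    obtain ⟨B, hL, rfl⟩ := List.mem_map.1 he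
    exact hB.idx B hL
  · refine List.pairwise_map.2 (hB.sorted.imp fun {B C} h => fun (e : B.t = C.t) => ?_)
    rcases h with h | ⟨-, h⟩
    · omega
    · exact h
  · intro e he h75
    obtain ⟨B, hL, rfl⟩ := List.mem_map.1 he
    have := hB.idx B hL
    simp only at h75
    omega
  · simpa [keyOf, List.map_map, Function.comp_def] using hB.gbb
  · simpa [keyOf, List.map_map, Function.comp_def] using hB.gb0
  · simpa [keyOf, List.map_map, Function.comp_def] using hB.gb1

end CfsgLib.Recog.UFourSylow.Cert
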