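import Cfsg.Agent.Lib.Recog.UFourSylow.Cert.Key
import Cfsg.Agent.Lib.Recog.UFourSylow.Cert.Keys

set_option autoImplicit false
set_option maxRecDepth 100000

/-!
Certificates, part 1 (owner: helper25; generator: `notes/u34_cert_helper25`).
-/

namespace CfsgLib.Recog.UFourSylow.Cert

/-- A certificate. -/
def tree14_1 : Tree :=
  .cut 5 10 (.cut 6 10 (.cut 0 9 (.cut 3 9 (.cut 5 9 (.cut 6 9 (.cut 0 1 (.cut 3 1 (.cut 5 1 (.cut 6 1 (.cut 5 0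
  (.cut 3 0 (.cut 0 0 (.cut 6 0 (.req 0 true) (.lin 1 false)) (.lin 0 true)) (.req 0 true)) (.cut 6 0 (.cut 3 0
  (.req 0 false) (.req 0 true)) (.lin 1 false))) (.lin 1 false)) (.lin 1 false)) (.lin 0 false)) (.cut 3 1 (.lin 0
  true) (.cut 5 0 (.cut 6 1 (.lin 1 true) (.cut 3 6 (.cut 0 6 (.cut 6 6 (.cut 3 5 (.cut 6 4 (.cut 0 4 (.cut 3 4
  (.cut 6 3 (.cut 0 3 (.cut 3 3 (.cut 6 2 (.cut 0 2 (.cut 3 2 (.cut 6 1 (.cut 0 1 (.cut 3 1 (.cut 6 0 (.cut 0 0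
  (.cut 3 0 (.req 0 false) (.lin 0 false)) (.lin 1 true)) (.req 0 false)) (.lin 0 false)) (.lin 1 true)) (.req 0
  false)) (.lin 0 false)) (.lin 1 true)) (.req 0 false)) (.lin 0 false)) (.lin 1 true)) (.req 0 false)) (.lin 0
  false)) (.lin 1 true)) (.req 0 false)) (.req 0 true)) (.lin 1 false)) (.lin 0 true)) (.req 0 true))) (.cut 6 0
  (.cut 5 0 (.lin 1 true) (.cut 3 6 (.cut 0 6 (.cut 5 6 (.cut 3 5 (.cut 5 4 (.cut 0 4 (.cut 3 4 (.cut 5 3 (.cut 0 3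
  (.cut 3 3 (.cut 5 2 (.cut 0 2 (.cut 3 2 (.cut 5 1 (.cut 0 1 (.cut 3 1 (.cut 5 0 (.cut 0 0 (.cut 3 0 (.req 0
  false) (.lin 0 false)) (.lin 1 true)) (.req 0 false)) (.lin 0 false)) (.lin 1 true)) (.req 0 false)) (.lin 0
  false)) (.lin 1 true)) (.req 0 false)) (.lin 0 false)) (.lin 1 true)) (.req 0 false)) (.lin 0 false)) (.lin 1
  true)) (.req 0 false)) (.req 0 true)) (.lin 1 false)) (.lin 0 true)) (.req 0 true))) (.req 0 false))))) (.lin 1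
  false)) (.lin 1 false)) (.lin 0 false)) (.rlt 0)) (.lin 1 false)) (.lin 1 false)

/-- A certificate. -/
def tree14_2 : Tree :=
  .cut 0 1 (.cut 5 1 (.cut 6 1 (.cut 2 1 (.cut 3 2 (.cut 5 0 (.cut 6 0 (.cut 0 0 (.cut 3 1 (.cut 2 0 (.req 0 true)
  (.req 0 false)) (.lin 0 false)) (.lin 1 true)) (.req 0 false)) (.req 0 false)) (.lin 0 false)) (.cut 3 2 (.req 0
  false) (.cut 3 4 (.cut 2 2 (.cut 5 0 (.cut 6 0 (.cut 0 0 (.cut 3 1 (.cut 2 0 (.lin 0 false) (.req 0 false)) (.lin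
  0 false)) (.lin 1 true)) (.req 0 false)) (.req 0 false)) (.req 0 false)) (.cut 2 4 (.lin 0 false) (.cut 5 0 (.cut
  6 0 (.cut 0 0 (.cut 3 93 (.cut 2 94 (.cut 3 59 (.cut 2 60 (.cut 3 3 (.req 0 false) (.cut 2 4 (.lin 0 false) (.cut
  3 6 (.req 0 false) (.cut 2 6 (.lin 0 false) (.cut 3 7 (.req 0 false) (.cut 2 7 (.lin 0 false) (.cut 3 30 (.cut 2
  30 (.cut 3 7 (.req 0 false) (.cut 2 7 (.lin 0 false) (.cut 3 18 (.cut 2 18 (.cut 3 5 (.req 0 false) (.cut 3 10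
  (.cut 2 5 (.lin 0 false) (.cut 2 10 (.cut 3 9 (.cut 2 9 (.cut 3 8 (.cut 2 7 (.cut 3 7 (.cut 2 5 (.cut 3 5 (.cut 2
  2 (.cut 3 2 (.req 0 false) (.lin 0 false)) (.req 0 false)) (.lin 0 false)) (.req 0 false)) (.lin 0 false)) (.req
  0 false)) (.req 0 true)) (.lin 0 true)) (.req 0 true)) (.lin 0 true))) (.req 0 true))) (.lin 0 true)) (.req 0
  true)))) (.lin 0 true)) (.req 0 true)))))))) (.lin 0 true)) (.req 0 true)) (.lin 0 true)) (.req 0 true)) (.lin 1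
  true)) (.req 0 false)) (.req 0 false)))))) (.lin 1 false)) (.lin 1 false)) (.cut 3 1 (.lin 0 true) (.cut 2 1
  (.cut 3 7 (.cut 5 1 (.cut 6 1 (.cut 0 0 (.cut 3 1 (.cut 5 0 (.lin 1 true) (.req 0 false)) (.lin 0 false)) (.lin 1
  true)) (.req 0 false)) (.req 0 false)) (.lin 0 false)) (.cut 5 1 (.cut 6 1 (.cut 0 0 (.cut 5 0 (.lin 1 true)
  (.cut 2 0 (.cut 3 2 (.req 0 false) (.lin 0 false)) (.req 0 false))) (.lin 1 true)) (.req 0 false)) (.req 0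
  false))))

/-- A certificate. -/
def tree14_3 : Tree :=
  .cut 5 10 (.cut 6 10 (.cut 0 9 (.cut 3 9 (.cut 5 9 (.cut 6 9 (.cut 0 1 (.cut 3 1 (.cut 5 1 (.cut 6 1 (.cut 5 0
  (.cut 3 0 (.cut 0 0 (.cut 6 0 (.req 0 true) (.lin 1 false)) (.lin 0 true)) (.req 0 true)) (.cut 6 0 (.cut 3 0
  (.req 0 false) (.req 0 true)) (.lin 1 false))) (.lin 1 false)) (.lin 1 false)) (.lin 0 false)) (.cut 3 1 (.lin 0
  true) (.cut 5 0 (.cut 6 1 (.lin 1 true) (.cut 3 6 (.cut 0 6 (.cut 6 6 (.cut 3 5 (.cut 6 4 (.cut 0 4 (.cut 3 4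
  (.cut 6 3 (.cut 0 3 (.cut 3 3 (.cut 6 2 (.cut 0 2 (.cut 3 2 (.cut 6 1 (.cut 0 1 (.cut 3 1 (.cut 6 0 (.cut 0 0
  (.cut 3 0 (.req 0 false) (.lin 0 false)) (.lin 1 true)) (.req 0 false)) (.lin 0 false)) (.lin 1 true)) (.req 0
  false)) (.lin 0 false)) (.lin 1 true)) (.req 0 false)) (.lin 0 false)) (.lin 1 true)) (.req 0 false)) (.lin 0
  false)) (.lin 1 true)) (.req 0 false)) (.req 0 true)) (.lin 1 false)) (.lin 0 true)) (.req 0 true))) (.cut 6 0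
  (.cut 5 0 (.lin 1 true) (.cut 3 6 (.cut 0 6 (.cut 5 6 (.cut 3 5 (.cut 5 4 (.cut 0 4 (.cut 3 4 (.cut 5 3 (.cut 0 3
  (.cut 3 3 (.cut 5 2 (.cut 0 2 (.cut 3 2 (.cut 5 1 (.cut 0 1 (.cut 3 1 (.cut 5 0 (.cut 0 0 (.cut 3 0 (.req 0
  false) (.lin 0 false)) (.lin 1 true)) (.req 0 false)) (.lin 0 false)) (.lin 1 true)) (.req 0 false)) (.lin 0
  false)) (.lin 1 true)) (.req 0 false)) (.lin 0 false)) (.lin 1 true)) (.req 0 false)) (.lin 0 false)) (.lin 1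
  true)) (.req 0 false)) (.req 0 true)) (.lin 1 false)) (.lin 0 true)) (.req 0 true))) (.req 0 false))))) (.lin 1
  false)) (.lin 1 false)) (.lin 0 false)) (.rlt 0)) (.lin 1 false)) (.lin 1 false)

/-- A certificate. -/
def tree14_4 : Tree :=
  .cut 0 1 (.cut 5 1 (.cut 6 1 (.cut 2 1 (.cut 3 2 (.cut 5 0 (.cut 6 0 (.cut 0 0 (.cut 3 1 (.cut 2 0 (.req 0 true)
  (.req 0 false)) (.lin 0 false)) (.lin 1 true)) (.req 0 false)) (.req 0 false)) (.lin 0 false)) (.cut 3 2 (.req 0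
  false) (.cut 3 4 (.cut 2 2 (.cut 5 0 (.cut 6 0 (.cut 0 0 (.cut 3 1 (.cut 2 0 (.lin 0 false) (.req 0 false)) (.lin
  0 false)) (.lin 1 true)) (.req 0 false)) (.req 0 false)) (.req 0 false)) (.cut 2 4 (.lin 0 false) (.cut 5 0 (.cut
  6 0 (.cut 0 0 (.cut 3 93 (.cut 2 94 (.cut 3 59 (.cut 2 60 (.cut 3 3 (.req 0 false) (.cut 2 4 (.lin 0 false) (.cut
  3 6 (.req 0 false) (.cut 2 6 (.lin 0 false) (.cut 3 7 (.req 0 false) (.cut 2 7 (.lin 0 false) (.cut 3 30 (.cut 2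
  30 (.cut 3 7 (.req 0 false) (.cut 2 7 (.lin 0 false) (.cut 3 18 (.cut 2 18 (.cut 3 5 (.req 0 false) (.cut 3 10
  (.cut 2 5 (.lin 0 false) (.cut 2 10 (.cut 3 9 (.cut 2 9 (.cut 3 8 (.cut 2 7 (.cut 3 7 (.cut 2 5 (.cut 3 5 (.cut 2
  2 (.cut 3 2 (.req 0 false) (.lin 0 false)) (.req 0 false)) (.lin 0 false)) (.req 0 false)) (.lin 0 false)) (.req
  0 false)) (.req 0 true)) (.lin 0 true)) (.req 0 true)) (.lin 0 true))) (.req 0 true))) (.lin 0 true)) (.req 0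
  true)))) (.lin 0 true)) (.req 0 true)))))))) (.lin 0 true)) (.req 0 true)) (.lin 0 true)) (.req 0 true)) (.lin 1
  true)) (.req 0 false)) (.req 0 false)))))) (.lin 1 false)) (.lin 1 false)) (.cut 3 1 (.lin 0 true) (.cut 2 1
  (.cut 3 7 (.cut 5 1 (.cut 6 1 (.cut 0 0 (.cut 3 1 (.cut 5 0 (.lin 1 true) (.req 0 false)) (.lin 0 false)) (.lin 1
  true)) (.req 0 false)) (.req 0 false)) (.lin 0 false)) (.cut 5 1 (.cut 6 1 (.cut 0 0 (.cut 5 0 (.lin 1 true)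
  (.cut 2 0 (.cut 3 2 (.req 0 false) (.lin 0 false)) (.req 0 false))) (.lin 1 true)) (.req 0 false)) (.req 0
  false))))

/-- A certificate. -/
def tree14_5 : Tree :=
  .cut 3 4 (.cut 0 4 (.cut 5 11 (.cut 6 4 (.cut 6 0 (.req 0 false) (.cut 5 8 (.cut 5 0 (.lin 1 true) (.cut 6 1
  (.cut 5 5 (.cut 3 0 (.req 0 false) (.cut 0 0 (.lin 0 false) (.cut 5 0 (.lin 1 true) (.cut 6 0 (.req 0 false)
  (.cut 3 0 (.req 0 false) (.req 0 true)))))) (.lin 1 false)) (.cut 3 0 (.cut 0 0 (.cut 5 3 (.cut 6 0 (.cut 5 1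
  (.lin 1 true) (.req 0 false)) (.req 0 true)) (.lin 1 false)) (.lin 0 true)) (.req 0 true)))) (.lin 1 false)))
  (.req 0 true)) (.lin 1 false)) (.lin 0 true)) (.cut 6 1 (.cut 0 4 (.lin 0 false) (.cut 5 4 (.lin 1 true) (.cut 3
  0 (.req 0 false) (.cut 0 0 (.lin 0 false) (.cut 5 0 (.lin 1 true) (.cut 3 7 (.cut 0 7 (.cut 5 8 (.cut 6 0 (.req 0
  false) (.cut 3 1 (.cut 0 1 (.cut 5 2 (.cut 3 0 (.cut 0 0 (.cut 5 1 (.req 0 true) (.lin 1 false)) (.lin 0 true))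
  (.req 0 true)) (.lin 1 false)) (.lin 0 true)) (.req 0 true))) (.lin 1 false)) (.lin 0 true)) (.cut 6 0 (.cut 3 29
  (.req 0 false) (.cut 0 37 (.lin 0 false) (.cut 5 37 (.lin 1 true) (.cut 3 105 (.req 0 false) (.cut 0 105 (.lin 0
  false) (.cut 5 105 (.lin 1 true) (.cut 3 162 (.req 0 false) (.cut 0 162 (.lin 0 false) (.cut 5 162 (.lin 1 true)
  (.cut 3 111 (.req 0 false) (.cut 0 111 (.lin 0 false) (.cut 5 111 (.lin 1 true) (.cut 5 66 (.cut 3 58 (.cut 0 58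
  (.cut 5 58 (.cut 3 40 (.req 0 false) (.cut 3 15 (.cut 0 40 (.lin 0 false) (.cut 0 15 (.cut 5 40 (.lin 1 true)
  (.cut 5 13 (.cut 0 13 (.cut 3 13 (.cut 5 5 (.cut 0 5 (.cut 3 5 (.req 0 false) (.lin 0 false)) (.lin 1 true))
  (.req 0 false)) (.lin 0 false)) (.lin 1 true)) (.req 0 false))) (.lin 0 true))) (.req 0 true))) (.lin 1 false))
  (.lin 0 true)) (.req 0 true)) (.lin 1 false)))))))))))))) (.req 0 true)))))))) (.req 0 true))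

/-- A certificate. -/
def tree14_6 : Tree :=
  .cut 3 4 (.cut 0 4 (.cut 5 11 (.cut 6 4 (.cut 6 0 (.req 0 false) (.cut 5 8 (.cut 5 0 (.lin 1 true) (.cut 6 1
  (.cut 5 5 (.cut 3 0 (.req 0 false) (.cut 0 0 (.lin 0 false) (.cut 5 0 (.lin 1 true) (.cut 6 0 (.req 0 false)
  (.cut 3 0 (.req 0 false) (.req 0 true)))))) (.lin 1 false)) (.cut 3 0 (.cut 0 0 (.cut 5 3 (.cut 6 0 (.cut 5 1
  (.lin 1 true) (.req 0 false)) (.req 0 true)) (.lin 1 false)) (.lin 0 true)) (.req 0 true)))) (.lin 1 false)))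
  (.req 0 true)) (.lin 1 false)) (.lin 0 true)) (.cut 6 1 (.cut 0 4 (.lin 0 false) (.cut 5 4 (.lin 1 true) (.cut 3
  0 (.req 0 false) (.cut 0 0 (.lin 0 false) (.cut 5 0 (.lin 1 true) (.cut 3 7 (.cut 0 7 (.cut 5 8 (.cut 6 0 (.req 0
  false) (.cut 3 1 (.cut 0 1 (.cut 5 2 (.cut 3 0 (.cut 0 0 (.cut 5 1 (.req 0 true) (.lin 1 false)) (.lin 0 true))
  (.req 0 true)) (.lin 1 false)) (.lin 0 true)) (.req 0 true))) (.lin 1 false)) (.lin 0 true)) (.cut 6 0 (.cut 3 29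
  (.req 0 false) (.cut 0 37 (.lin 0 false) (.cut 5 37 (.lin 1 true) (.cut 3 105 (.req 0 false) (.cut 0 105 (.lin 0
  false) (.cut 5 105 (.lin 1 true) (.cut 3 162 (.req 0 false) (.cut 0 162 (.lin 0 false) (.cut 5 162 (.lin 1 true)
  (.cut 3 111 (.req 0 false) (.cut 0 111 (.lin 0 false) (.cut 5 111 (.lin 1 true) (.cut 5 66 (.cut 3 58 (.cut 0 58
  (.cut 5 58 (.cut 3 40 (.req 0 false) (.cut 3 15 (.cut 0 40 (.lin 0 false) (.cut 0 15 (.cut 5 40 (.lin 1 true)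
  (.cut 5 13 (.cut 0 13 (.cut 3 13 (.cut 5 5 (.cut 0 5 (.cut 3 5 (.req 0 false) (.lin 0 false)) (.lin 1 true))
  (.req 0 false)) (.lin 0 false)) (.lin 1 true)) (.req 0 false))) (.lin 0 true))) (.req 0 true))) (.lin 1 false))
  (.lin 0 true)) (.req 0 true)) (.lin 1 false)))))))))))))) (.req 0 true)))))))) (.req 0 true))

/-- A certificate. -/
def tree14_7 : Tree :=
  .sign 4 (.cut 1 1 (.cut 3 1 (.lin 0 true) (.cut 1 0 (.req 0 true) (.cut 2 1 (.cut 5 0 (.lin 1 true) (.cut 2 0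
  (.cut 6 0 (.req 0 false) (.cut 3 651 (.cut 0 650 (.cut 3 1 (.req 0 false) (.cut 0 0 (.lin 0 false) (.cut 5 1
  (.lin 1 true) (.cut 3 0 (.req 0 false) (.cut 0 0 (.lin 0 false) (.cut 5 0 (.lin 1 true) (.cut 3 2 (.cut 0 2 (.cut
  6 2 (.req 0 false) (.cut 5 2 (.lin 1 true) (.cut 6 0 (.req 0 false) (.cut 5 0 (.lin 1 true) (.cut 6 0 (.req 0
  false) (.cut 3 0 (.req 0 false) (.cut 0 0 (.lin 0 false) (.cut 5 1 (.lin 1 true) (.cut 6 0 (.req 0 false) (.cut 5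
  0 (.lin 1 true) (.cut 6 3 (.cut 5 4 (.cut 3 0 (.req 0 false) (.cut 6 0 (.cut 5 1 (.req 0 true) (.lin 1 false))
  (.req 0 true))) (.lin 1 false)) (.cut 5 3 (.lin 1 true) (.cut 0 0 (.cut 3 0 (.cut 5 29 (.cut 6 29 (.cut 5 5 (.cut
  6 5 (.req 0 false) (.lin 1 true)) (.req 0 false)) (.lin 1 true)) (.req 0 false)) (.lin 0 false)) (.cut 3 0 (.lin
  0 true) (.cut 6 7 (.cut 5 8 (.req 0 true) (.lin 1 false)) (.req 0 true)))))))))))))))) (.lin 0 true)) (.cut 6 7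
  (.cut 5 655 (.cut 0 2 (.lin 0 false) (.cut 5 2 (.lin 1 true) (.cut 3 515 (.cut 0 515 (.cut 5 522 (.cut 3 491
  (.cut 0 491 (.cut 5 498 (tree14_5) (.lin 1 false)) (.lin 0 true)) (.req 0 true)) (.lin 1 false)) (.lin 0 true))
  (.req 0 true)))) (.lin 1 false)) (.req 0 true))))))))) (.lin 0 true)) (.req 0 true))) (.req 0 false))) (.req 0
  false)))) (.req 0 false)) (.cut 1 1 (.cut 3 1 (.lin 0 true) (.cut 1 0 (.req 0 true) (.cut 2 1 (.cut 5 0 (.lin 1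
  true) (.cut 2 0 (.cut 6 0 (.req 0 false) (.cut 3 651 (.cut 0 650 (.cut 3 1 (.req 0 false) (.cut 0 0 (.lin 0
  false) (.cut 5 1 (.lin 1 true) (.cut 3 0 (.req 0 false) (.cut 0 0 (.lin 0 false) (.cut 5 0 (.lin 1 true) (.cut 3
  2 (.cut 0 2 (.cut 6 2 (.req 0 false) (.cut 5 2 (.lin 1 true) (.cut 6 0 (.req 0 false) (.cut 5 0 (.lin 1 true)
  (.cut 6 0 (.req 0 false) (.cut 3 0 (.req 0 false) (.cut 0 0 (.lin 0 false) (.cut 5 1 (.lin 1 true) (.cut 6 0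
  (.req 0 false) (.cut 5 0 (.lin 1 true) (.cut 6 3 (.cut 5 4 (.cut 3 0 (.req 0 false) (.cut 6 0 (.cut 5 1 (.req 0
  true) (.lin 1 false)) (.req 0 true))) (.lin 1 false)) (.cut 5 3 (.lin 1 true) (.cut 0 0 (.cut 3 0 (.cut 5 29
  (.cut 6 29 (.cut 5 5 (.cut 6 5 (.req 0 false) (.lin 1 true)) (.req 0 false)) (.lin 1 true)) (.req 0 false)) (.lin
  0 false)) (.cut 3 0 (.lin 0 true) (.cut 6 7 (.cut 5 8 (.req 0 true) (.lin 1 false)) (.req 0 true))))))))))))))))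
  (.lin 0 true)) (.cut 6 7 (.cut 5 655 (.cut 0 2 (.lin 0 false) (.cut 5 2 (.lin 1 true) (.cut 3 515 (.cut 0 515
  (.cut 5 522 (.cut 3 491 (.cut 0 491 (.cut 5 498 (tree14_6) (.lin 1 false)) (.lin 0 true)) (.req 0 true)) (.lin 1
  false)) (.lin 0 true)) (.req 0 true)))) (.lin 1 false)) (.req 0 true))))))))) (.lin 0 true)) (.req 0 true)))
  (.req 0 false))) (.req 0 false)))) (.req 0 false))

/-- A certificate. -/
def tree14_8 : Tree :=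
  .cut 3 4 (.cut 0 4 (.cut 6 11 (.cut 5 4 (.cut 5 0 (.req 0 false) (.cut 6 8 (.cut 6 0 (.lin 1 true) (.cut 5 1
  (.cut 6 5 (.cut 3 0 (.req 0 false) (.cut 0 0 (.lin 0 false) (.cut 6 0 (.lin 1 true) (.cut 5 0 (.req 0 false)
  (.cut 3 0 (.req 0 false) (.req 0 true)))))) (.lin 1 false)) (.cut 3 0 (.cut 0 0 (.cut 6 3 (.cut 5 0 (.cut 6 1
  (.lin 1 true) (.req 0 false)) (.req 0 true)) (.lin 1 false)) (.lin 0 true)) (.req 0 true)))) (.lin 1 false)))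
  (.req 0 true)) (.lin 1 false)) (.lin 0 true)) (.cut 5 1 (.cut 0 4 (.lin 0 false) (.cut 6 4 (.lin 1 true) (.cut 3
  0 (.req 0 false) (.cut 0 0 (.lin 0 false) (.cut 6 0 (.lin 1 true) (.cut 3 7 (.cut 0 7 (.cut 6 8 (.cut 5 0 (.req 0
  false) (.cut 3 1 (.cut 0 1 (.cut 6 2 (.cut 3 0 (.cut 0 0 (.cut 6 1 (.req 0 true) (.lin 1 false)) (.lin 0 true))
  (.req 0 true)) (.lin 1 false)) (.lin 0 true)) (.req 0 true))) (.lin 1 false)) (.lin 0 true)) (.cut 5 0 (.cut 3 29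
  (.req 0 false) (.cut 0 37 (.lin 0 false) (.cut 6 37 (.lin 1 true) (.cut 3 105 (.req 0 false) (.cut 0 105 (.lin 0
  false) (.cut 6 105 (.lin 1 true) (.cut 3 162 (.req 0 false) (.cut 0 162 (.lin 0 false) (.cut 6 162 (.lin 1 true)
  (.cut 3 111 (.req 0 false) (.cut 0 111 (.lin 0 false) (.cut 6 111 (.lin 1 true) (.cut 6 66 (.cut 3 58 (.cut 0 58
  (.cut 6 58 (.cut 3 40 (.req 0 false) (.cut 3 15 (.cut 0 40 (.lin 0 false) (.cut 0 15 (.cut 6 40 (.lin 1 true)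
  (.cut 6 13 (.cut 0 13 (.cut 3 13 (.cut 6 5 (.cut 0 5 (.cut 3 5 (.req 0 false) (.lin 0 false)) (.lin 1 true))
  (.req 0 false)) (.lin 0 false)) (.lin 1 true)) (.req 0 false))) (.lin 0 true))) (.req 0 true))) (.lin 1 false))
  (.lin 0 true)) (.req 0 true)) (.lin 1 false)))))))))))))) (.req 0 true)))))))) (.req 0 true))

/-- A certificate. -/
def tree14_9 : Tree :=
  .cut 3 4 (.cut 0 4 (.cut 6 11 (.cut 5 4 (.cut 5 0 (.req 0 false) (.cut 6 8 (.cut 6 0 (.lin 1 true) (.cut 5 1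
  (.cut 6 5 (.cut 3 0 (.req 0 false) (.cut 0 0 (.lin 0 false) (.cut 6 0 (.lin 1 true) (.cut 5 0 (.req 0 false)
  (.cut 3 0 (.req 0 false) (.req 0 true)))))) (.lin 1 false)) (.cut 3 0 (.cut 0 0 (.cut 6 3 (.cut 5 0 (.cut 6 1
  (.lin 1 true) (.req 0 false)) (.req 0 true)) (.lin 1 false)) (.lin 0 true)) (.req 0 true)))) (.lin 1 false)))
  (.req 0 true)) (.lin 1 false)) (.lin 0 true)) (.cut 5 1 (.cut 0 4 (.lin 0 false) (.cut 6 4 (.lin 1 true) (.cut 3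
  0 (.req 0 false) (.cut 0 0 (.lin 0 false) (.cut 6 0 (.lin 1 true) (.cut 3 7 (.cut 0 7 (.cut 6 8 (.cut 5 0 (.req 0
  false) (.cut 3 1 (.cut 0 1 (.cut 6 2 (.cut 3 0 (.cut 0 0 (.cut 6 1 (.req 0 true) (.lin 1 false)) (.lin 0 true))
  (.req 0 true)) (.lin 1 false)) (.lin 0 true)) (.req 0 true))) (.lin 1 false)) (.lin 0 true)) (.cut 5 0 (.cut 3 29
  (.req 0 false) (.cut 0 37 (.lin 0 false) (.cut 6 37 (.lin 1 true) (.cut 3 105 (.req 0 false) (.cut 0 105 (.lin 0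
  false) (.cut 6 105 (.lin 1 true) (.cut 3 162 (.req 0 false) (.cut 0 162 (.lin 0 false) (.cut 6 162 (.lin 1 true)
  (.cut 3 111 (.req 0 false) (.cut 0 111 (.lin 0 false) (.cut 6 111 (.lin 1 true) (.cut 6 66 (.cut 3 58 (.cut 0 58
  (.cut 6 58 (.cut 3 40 (.req 0 false) (.cut 3 15 (.cut 0 40 (.lin 0 false) (.cut 0 15 (.cut 6 40 (.lin 1 true)
  (.cut 6 13 (.cut 0 13 (.cut 3 13 (.cut 6 5 (.cut 0 5 (.cut 3 5 (.req 0 false) (.lin 0 false)) (.lin 1 true))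
  (.req 0 false)) (.lin 0 false)) (.lin 1 true)) (.req 0 false))) (.lin 0 true))) (.req 0 true))) (.lin 1 false))
  (.lin 0 true)) (.req 0 true)) (.lin 1 false)))))))))))))) (.req 0 true)))))))) (.req 0 true))

/-- A certificate. -/
def tree14_10 : Tree :=
  .sign 4 (.cut 1 1 (.cut 3 1 (.lin 0 true) (.cut 1 0 (.req 0 true) (.cut 2 1 (.cut 6 0 (.lin 1 true) (.cut 2 0
  (.cut 5 0 (.req 0 false) (.cut 3 651 (.cut 0 650 (.cut 3 1 (.req 0 false) (.cut 0 0 (.lin 0 false) (.cut 6 1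
  (.lin 1 true) (.cut 3 0 (.req 0 false) (.cut 0 0 (.lin 0 false) (.cut 6 0 (.lin 1 true) (.cut 3 2 (.cut 0 2 (.cut
  5 2 (.req 0 false) (.cut 6 2 (.lin 1 true) (.cut 5 0 (.req 0 false) (.cut 6 0 (.lin 1 true) (.cut 5 0 (.req 0
  false) (.cut 3 0 (.req 0 false) (.cut 0 0 (.lin 0 false) (.cut 6 1 (.lin 1 true) (.cut 5 0 (.req 0 false) (.cut 6
  0 (.lin 1 true) (.cut 5 3 (.cut 6 4 (.cut 3 0 (.req 0 false) (.cut 5 0 (.cut 6 1 (.req 0 true) (.lin 1 false))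
  (.req 0 true))) (.lin 1 false)) (.cut 6 3 (.lin 1 true) (.cut 0 0 (.cut 3 0 (.cut 6 29 (.cut 5 29 (.cut 6 5 (.cut
  5 5 (.req 0 false) (.lin 1 true)) (.req 0 false)) (.lin 1 true)) (.req 0 false)) (.lin 0 false)) (.cut 3 0 (.lin
  0 true) (.cut 5 7 (.cut 6 8 (.req 0 true) (.lin 1 false)) (.req 0 true)))))))))))))))) (.lin 0 true)) (.cut 5 7
  (.cut 6 655 (.cut 0 2 (.lin 0 false) (.cut 6 2 (.lin 1 true) (.cut 3 515 (.cut 0 515 (.cut 6 522 (.cut 3 491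
  (.cut 0 491 (.cut 6 498 (tree14_8) (.lin 1 false)) (.lin 0 true)) (.req 0 true)) (.lin 1 false)) (.lin 0 true))
  (.req 0 true)))) (.lin 1 false)) (.req 0 true))))))))) (.lin 0 true)) (.req 0 true))) (.req 0 false))) (.req 0
  false)))) (.req 0 false)) (.cut 1 1 (.cut 3 1 (.lin 0 true) (.cut 1 0 (.req 0 true) (.cut 2 1 (.cut 6 0 (.lin 1
  true) (.cut 2 0 (.cut 5 0 (.req 0 false) (.cut 3 651 (.cut 0 650 (.cut 3 1 (.req 0 false) (.cut 0 0 (.lin 0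
  false) (.cut 6 1 (.lin 1 true) (.cut 3 0 (.req 0 false) (.cut 0 0 (.lin 0 false) (.cut 6 0 (.lin 1 true) (.cut 3
  2 (.cut 0 2 (.cut 5 2 (.req 0 false) (.cut 6 2 (.lin 1 true) (.cut 5 0 (.req 0 false) (.cut 6 0 (.lin 1 true)
  (.cut 5 0 (.req 0 false) (.cut 3 0 (.req 0 false) (.cut 0 0 (.lin 0 false) (.cut 6 1 (.lin 1 true) (.cut 5 0
  (.req 0 false) (.cut 6 0 (.lin 1 true) (.cut 5 3 (.cut 6 4 (.cut 3 0 (.req 0 false) (.cut 5 0 (.cut 6 1 (.req 0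
  true) (.lin 1 false)) (.req 0 true))) (.lin 1 false)) (.cut 6 3 (.lin 1 true) (.cut 0 0 (.cut 3 0 (.cut 6 29
  (.cut 5 29 (.cut 6 5 (.cut 5 5 (.req 0 false) (.lin 1 true)) (.req 0 false)) (.lin 1 true)) (.req 0 false)) (.lin
  0 false)) (.cut 3 0 (.lin 0 true) (.cut 5 7 (.cut 6 8 (.req 0 true) (.lin 1 false)) (.req 0 true))))))))))))))))
  (.lin 0 true)) (.cut 5 7 (.cut 6 655 (.cut 0 2 (.lin 0 false) (.cut 6 2 (.lin 1 true) (.cut 3 515 (.cut 0 515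
  (.cut 6 522 (.cut 3 491 (.cut 0 491 (.cut 6 498 (tree14_9) (.lin 1 false)) (.lin 0 true)) (.req 0 true)) (.lin 1
  false)) (.lin 0 true)) (.req 0 true)))) (.lin 1 false)) (.req 0 true))))))))) (.lin 0 true)) (.req 0 true)))
  (.req 0 false))) (.req 0 false)))) (.req 0 false))

/-- A certificate. -/
def tree14_11 : Tree :=
  .sign 2 (.sign 5 (.sign 6 (.sign 4 (.cut 1 1 (.cut 1 0 (.req 0 true) (.cut 0 5 (.cut 2 6 (.req 0 false) (.lin 0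
  false)) (.rlt 0))) (.req 0 false)) (.cut 1 1 (.cut 1 0 (.req 0 true) (.cut 0 5 (.cut 2 6 (.req 0 false) (.lin 0
  false)) (.rlt 0))) (.req 0 false))) (.sign 4 (.cut 1 0 (.cut 2 0 (.cut 3 0 (.cut 0 0 (.cut 6 0 (.cut 5 0 (.lin 1
  true) (.req 0 false)) (.req 0 true)) (.lin 0 true)) (.req 0 true)) (.req 0 true)) (.req 0 false)) (.cut 1 0 (.cut
  2 0 (.cut 3 0 (.cut 0 0 (.cut 6 0 (.cut 5 0 (.lin 1 true) (.req 0 false)) (.req 0 true)) (.lin 0 true)) (.req 0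
  true)) (.req 0 true)) (.req 0 false)))) (.sign 6 (.sign 4 (.cut 1 0 (.cut 2 0 (.cut 3 0 (.cut 0 0 (.cut 5 0 (.cut
  6 0 (.lin 1 true) (.req 0 false)) (.req 0 true)) (.lin 0 true)) (.req 0 true)) (.req 0 true)) (.req 0 false))
  (.cut 1 0 (.cut 2 0 (.cut 3 0 (.cut 0 0 (.cut 5 0 (.cut 6 0 (.lin 1 true) (.req 0 false)) (.req 0 true)) (.lin 0
  true)) (.req 0 true)) (.req 0 true)) (.req 0 false))) (.lin 1 true))) (.sign 5 (.sign 6 (.sign 4 (.cut 1 2 (.cut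
  3 1 (.lin 0 true) (.cut 1 0 (.req 0 true) (.cut 0 0 (.lin 1 false) (.cut 3 1 (.lin 0 true) (.cut 2 0 (.cut 1 0
  (.cut 3 2 (.cut 0 2 (.cut 5 2 (.req 0 true) (.lin 1 false)) (.lin 0 true)) (.req 0 true)) (.cut 0 4 (.cut 3 5
  (.req 0 false) (.lin 0 false)) (.rlt 0))) (.cut 0 14 (.cut 1 0 (.cut 5 14 (.cut 6 14 (.cut 3 0 (.lin 0 true)
  (.cut 2 0 (.cut 3 14 (.cut 0 10 (.cut 3 10 (tree14_1) (.lin 0 false)) (.rlt 0)) (.lin 0 false)) (.cut 5 4 (.cut 6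
  4 (.cut 0 8 (.cut 3 0 (.lin 0 true) (tree14_2)) (.lin 1 true)) (.req 0 false)) (.req 0 false)))) (.lin 1 false))
  (.lin 1 false)) (.req 0 false)) (.rlt 0))))))) (.req 0 false)) (.cut 1 2 (.cut 3 1 (.lin 0 true) (.cut 1 0 (.req
  0 true) (.cut 0 0 (.lin 1 false) (.cut 3 1 (.lin 0 true) (.cut 2 0 (.cut 1 0 (.cut 3 2 (.cut 0 2 (.cut 5 2 (.req
  0 true) (.lin 1 false)) (.lin 0 true)) (.req 0 true)) (.cut 0 4 (.cut 3 5 (.req 0 false) (.lin 0 false)) (.rlt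
  0))) (.cut 0 14 (.cut 1 0 (.cut 5 14 (.cut 6 14 (.cut 3 0 (.lin 0 true) (.cut 2 0 (.cut 3 14 (.cut 0 10 (.cut 3
  10 (tree14_3) (.lin 0 false)) (.rlt 0)) (.lin 0 false)) (.cut 5 4 (.cut 6 4 (.cut 0 8 (.cut 3 0 (.lin 0 true)
  (tree14_4)) (.lin 1 true)) (.req 0 false)) (.req 0 false)))) (.lin 1 false)) (.lin 1 false)) (.req 0 false))
  (.rlt 0))))))) (.req 0 false))) (tree14_7)) (.sign 6 (tree14_10) (.lin 1 true)))

/-- A certificate. -/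
def tree14_12 : Tree :=
  .sign 4 (.cut 1 2 (.cut 0 8 (.rlt 1) (.cut 6 9 (.lin 1 false) (.cut 0 110 (.rlt 1) (.cut 6 110 (.lin 1 false)
  (.cut 5 120 (.rlt 1) (.cut 0 1232 (.rlt 1) (.cut 6 1353 (.lin 1 false) (.cut 0 15044 (.rlt 1) (.cut 5 1353 (.rlt
  1) (.cut 6 16398 (.lin 1 false) (.cut 0 182210 (.rlt 1) (.cut 5 16398 (.rlt 1) (.cut 6 198609 (.lin 1 false)
  (.cut 0 2206777 (.rlt 1) (.cut 5 198609 (.rlt 1) (.cut 6 2405387 (.lin 1 false) (.cut 0 26726532 (.rlt 1) (.cut 5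
  2405387 (.rlt 1) (.cut 6 29131920 (.lin 1 false) (.cut 0 323687840 (.rlt 1) (.cut 5 29131905 (.rlt 1) (.cut 6
  352819746 (.lin 1 false) (.cut 0 3920198242 (.rlt 1) (.cut 5 352817841 (.rlt 1) (.cut 6 4273016084 (.lin 1 false)
  (.cut 0 47474793633 (.rlt 1) (.cut 5 4272731426 (.rlt 1) (.cut 6 51747525060 (.lin 1 false) (.cut 0 574754540370
  (.rlt 1) (.cut 5 51727908632 (.rlt 1) (.cut 6 626482449003 (.lin 1 false) (.cut 0 6956336460238 (.rlt 1) (.cut 5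
  626070281421 (.rlt 1) (.cut 6 7582406741660 (.lin 1 false) (.cut 0 80378091409831 (.rlt 1) (.cut 5 7234028226883
  (.rlt 1) (.cut 6 87612119636715 (.lin 1 false) (.cut 5 31665934879948 (.rlt 1) (.cut 0 351843720888319 (.rlt 1)
  (.cut 6 383509655768268 (.lin 1 false) (.cut 1 0 (.req 0 true) (.cut 2 0 (.cut 3 439804651110394 (.lin 0 false)
  (.cut 1 0 (.req 0 true) (.req 0 false))) (.cut 1 0 (.cut 3 4 (.cut 2 439804651110390 (.lin 0 false) (.cut 3 0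
  (.req 0 true) (.req 0 false))) (.req 0 false)) (.req 0 false)))))))))))))))))))))))))))))))))))))))))))) (.rlt
  0)) (.cut 1 2 (.cut 0 8 (.rlt 1) (.cut 6 9 (.lin 1 false) (.cut 0 110 (.rlt 1) (.cut 6 110 (.lin 1 false) (.cut 5
  120 (.rlt 1) (.cut 0 1232 (.rlt 1) (.cut 6 1353 (.lin 1 false) (.cut 0 15044 (.rlt 1) (.cut 5 1353 (.rlt 1) (.cut
  6 16398 (.lin 1 false) (.cut 0 182210 (.rlt 1) (.cut 5 16398 (.rlt 1) (.cut 6 198609 (.lin 1 false) (.cut 0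
  2206777 (.rlt 1) (.cut 5 198609 (.rlt 1) (.cut 6 2405387 (.lin 1 false) (.cut 0 26726532 (.rlt 1) (.cut 5 2405387
  (.rlt 1) (.cut 6 29131920 (.lin 1 false) (.cut 0 323687840 (.rlt 1) (.cut 5 29131905 (.rlt 1) (.cut 6 352819746
  (.lin 1 false) (.cut 0 3920198242 (.rlt 1) (.cut 5 352817841 (.rlt 1) (.cut 6 4273016084 (.lin 1 false) (.cut 0
  47474793633 (.rlt 1) (.cut 5 4272731426 (.rlt 1) (.cut 6 51747525060 (.lin 1 false) (.cut 0 574754540370 (.rlt 1)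
  (.cut 5 51727908632 (.rlt 1) (.cut 6 626482449003 (.lin 1 false) (.cut 0 6956336460238 (.rlt 1) (.cut 5
  626070281421 (.rlt 1) (.cut 6 7582406741660 (.lin 1 false) (.cut 0 80378091409831 (.rlt 1) (.cut 5 7234028226883
  (.rlt 1) (.cut 6 87612119636715 (.lin 1 false) (.cut 5 31665934879948 (.rlt 1) (.cut 0 351843720888319 (.rlt 1)
  (.cut 6 383509655768268 (.lin 1 false) (.cut 1 0 (.req 0 true) (.cut 2 0 (.cut 3 439804651110394 (.lin 0 false)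
  (.cut 1 0 (.req 0 true) (.req 0 false))) (.cut 1 0 (.cut 3 4 (.cut 2 439804651110390 (.lin 0 false) (.cut 3 0
  (.req 0 true) (.req 0 false))) (.req 0 false)) (.req 0 false)))))))))))))))))))))))))))))))))))))))))))) (.rlt
  0))

/-- A certificate. -/
def tree14_13 : Tree :=
  .sign 4 (.cut 1 2 (.cut 0 8 (.rlt 1) (.cut 5 9 (.lin 1 false) (.cut 0 110 (.rlt 1) (.cut 5 110 (.lin 1 false)
  (.cut 6 120 (.rlt 1) (.cut 0 1232 (.rlt 1) (.cut 5 1353 (.lin 1 false) (.cut 0 15044 (.rlt 1) (.cut 6 1353 (.rlt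
  1) (.cut 5 16398 (.lin 1 false) (.cut 0 182210 (.rlt 1) (.cut 6 16398 (.rlt 1) (.cut 5 198609 (.lin 1 false)
  (.cut 0 2206777 (.rlt 1) (.cut 6 198609 (.rlt 1) (.cut 5 2405387 (.lin 1 false) (.cut 0 26726532 (.rlt 1) (.cut 6
  2405387 (.rlt 1) (.cut 5 29131920 (.lin 1 false) (.cut 0 323687840 (.rlt 1) (.cut 6 29131905 (.rlt 1) (.cut 5
  352819746 (.lin 1 false) (.cut 0 3920198242 (.rlt 1) (.cut 6 352817841 (.rlt 1) (.cut 5 4273016084 (.lin 1 false)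
  (.cut 0 47474793633 (.rlt 1) (.cut 6 4272731426 (.rlt 1) (.cut 5 51747525060 (.lin 1 false) (.cut 0 574754540370
  (.rlt 1) (.cut 6 51727908632 (.rlt 1) (.cut 5 626482449003 (.lin 1 false) (.cut 0 6956336460238 (.rlt 1) (.cut 6
  626070281421 (.rlt 1) (.cut 5 7582406741660 (.lin 1 false) (.cut 0 80378091409831 (.rlt 1) (.cut 6 7234028226883
  (.rlt 1) (.cut 5 87612119636715 (.lin 1 false) (.cut 6 31665934879948 (.rlt 1) (.cut 0 351843720888319 (.rlt 1)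
  (.cut 5 383509655768268 (.lin 1 false) (.cut 1 0 (.req 0 true) (.cut 2 0 (.cut 3 439804651110394 (.lin 0 false)
  (.cut 1 0 (.req 0 true) (.req 0 false))) (.cut 1 0 (.cut 3 4 (.cut 2 439804651110390 (.lin 0 false) (.cut 3 0
  (.req 0 true) (.req 0 false))) (.req 0 false)) (.req 0 false)))))))))))))))))))))))))))))))))))))))))))) (.rlt
  0)) (.cut 1 2 (.cut 0 8 (.rlt 1) (.cut 5 9 (.lin 1 false) (.cut 0 110 (.rlt 1) (.cut 5 110 (.lin 1 false) (.cut 6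
  120 (.rlt 1) (.cut 0 1232 (.rlt 1) (.cut 5 1353 (.lin 1 false) (.cut 0 15044 (.rlt 1) (.cut 6 1353 (.rlt 1) (.cut
  5 16398 (.lin 1 false) (.cut 0 182210 (.rlt 1) (.cut 6 16398 (.rlt 1) (.cut 5 198609 (.lin 1 false) (.cut 0
  2206777 (.rlt 1) (.cut 6 198609 (.rlt 1) (.cut 5 2405387 (.lin 1 false) (.cut 0 26726532 (.rlt 1) (.cut 6 2405387
  (.rlt 1) (.cut 5 29131920 (.lin 1 false) (.cut 0 323687840 (.rlt 1) (.cut 6 29131905 (.rlt 1) (.cut 5 352819746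
  (.lin 1 false) (.cut 0 3920198242 (.rlt 1) (.cut 6 352817841 (.rlt 1) (.cut 5 4273016084 (.lin 1 false) (.cut 0
  47474793633 (.rlt 1) (.cut 6 4272731426 (.rlt 1) (.cut 5 51747525060 (.lin 1 false) (.cut 0 574754540370 (.rlt 1)
  (.cut 6 51727908632 (.rlt 1) (.cut 5 626482449003 (.lin 1 false) (.cut 0 6956336460238 (.rlt 1) (.cut 6
  626070281421 (.rlt 1) (.cut 5 7582406741660 (.lin 1 false) (.cut 0 80378091409831 (.rlt 1) (.cut 6 7234028226883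
  (.rlt 1) (.cut 5 87612119636715 (.lin 1 false) (.cut 6 31665934879948 (.rlt 1) (.cut 0 351843720888319 (.rlt 1)
  (.cut 5 383509655768268 (.lin 1 false) (.cut 1 0 (.req 0 true) (.cut 2 0 (.cut 3 439804651110394 (.lin 0 false)
  (.cut 1 0 (.req 0 true) (.req 0 false))) (.cut 1 0 (.cut 3 4 (.cut 2 439804651110390 (.lin 0 false) (.cut 3 0
  (.req 0 true) (.req 0 false))) (.req 0 false)) (.req 0 false)))))))))))))))))))))))))))))))))))))))))))) (.rlt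
  0))

/-- A certificate. -/
def tree14_14 : Tree :=
  .cut 2 0 (.cut 1 0 (.cut 3 1 (.cut 0 1 (.cut 3 0 (.cut 0 0 (.rlt 0) (.lin 0 false)) (.rlt 0)) (.lin 0 false))
  (.cut 0 2 (.rlt 0) (.cut 3 0 (.lin 0 false) (.cut 0 0 (.rlt 0) (.cut 3 0 (.lin 0 false) (.cut 5 0 (.req 0 false)
  (.cut 6 162 (.cut 6 0 (.req 0 false) (.cut 5 161 (.cut 0 317 (.cut 3 317 (.cut 5 52 (.cut 6 52 (.cut 0 99 (.cut 3
  99 (.cut 5 20 (.cut 6 20 (.cut 0 35 (.cut 3 35 (.cut 5 7 (.cut 6 7 (.cut 0 9 (.cut 3 9 (.cut 5 1 (.cut 6 1 (.lin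
  1 false) (.req 0 true)) (.req 0 true)) (.lin 0 true)) (.lin 1 false)) (.req 0 true)) (.req 0 true)) (.lin 0
  true)) (.lin 1 false)) (.req 0 true)) (.req 0 true)) (.lin 0 true)) (.lin 1 false)) (.req 0 true)) (.req 0 true))
  (.lin 0 true)) (.lin 1 false)) (.req 0 true))) (.req 0 true)))))))) (.cut 3 0 (.cut 0 1 (.rlt 0) (.lin 0 false))
  (.req 0 false))) (.cut 1 0 (.cut 3 4 (.cut 5 0 (.req 0 false) (.cut 6 0 (.req 0 false) (.cut 0 5 (.rlt 1) (.cut 2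
  0 (.lin 0 false) (.cut 3 1 (.cut 2 2 (.lin 0 false) (.cut 3 0 (.cut 0 10 (.rlt 0) (.cut 2 11 (.lin 0 false) (.cut
  5 1 (.req 0 false) (.cut 6 1 (.req 0 false) (.cut 0 12 (.rlt 0) (.cut 2 12 (.lin 0 false) (.cut 0 4 (.rlt 0)
  (.cut 2 4 (.lin 0 false) (.cut 0 0 (.rlt 0) (.cut 2 0 (.lin 0 false) (.cut 5 1 (.cut 6 31 (.lin 1 false) (.cut 0
  20 (.cut 2 20 (.cut 5 0 (.cut 6 21 (.req 0 false) (.lin 1 true)) (.req 0 true)) (.lin 0 true)) (.cut 6 20 (.lin 1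
  false) (.cut 5 0 (.cut 2 15 (.lin 0 false) (.req 0 false)) (.req 0 true))))) (.cut 6 13 (.cut 5 17 (.lin 1 false)
  (.cut 6 1 (.cut 5 11 (.lin 1 false) (.cut 0 20 (.cut 2 20 (.cut 5 21 (.cut 6 0 (.req 0 false) (.req 0 true))
  (.lin 1 true)) (.lin 0 true)) (.cut 5 20 (.lin 1 false) (.cut 6 0 (.cut 2 15 (.lin 0 false) (.req 0 false)) (.req
  0 true))))) (.req 0 true))) (.req 0 true))))))))))))) (.req 0 false))) (.req 0 false)))))) (.req 0 false)) (.req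
  0 false))

/-- A certificate. -/
def tree14_15 : Tree :=
  .cut 2 0 (.cut 1 0 (.cut 3 1 (.cut 0 1 (.cut 3 0 (.cut 0 0 (.rlt 0) (.lin 0 false)) (.rlt 0)) (.lin 0 false))
  (.cut 0 2 (.rlt 0) (.cut 3 0 (.lin 0 false) (.cut 0 0 (.rlt 0) (.cut 3 0 (.lin 0 false) (.cut 5 0 (.req 0 false)
  (.cut 6 162 (.cut 6 0 (.req 0 false) (.cut 5 161 (.cut 0 317 (.cut 3 317 (.cut 5 52 (.cut 6 52 (.cut 0 99 (.cut 3
  99 (.cut 5 20 (.cut 6 20 (.cut 0 35 (.cut 3 35 (.cut 5 7 (.cut 6 7 (.cut 0 9 (.cut 3 9 (.cut 5 1 (.cut 6 1 (.lin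
  1 false) (.req 0 true)) (.req 0 true)) (.lin 0 true)) (.lin 1 false)) (.req 0 true)) (.req 0 true)) (.lin 0
  true)) (.lin 1 false)) (.req 0 true)) (.req 0 true)) (.lin 0 true)) (.lin 1 false)) (.req 0 true)) (.req 0 true))
  (.lin 0 true)) (.lin 1 false)) (.req 0 true))) (.req 0 true)))))))) (.cut 3 0 (.cut 0 1 (.rlt 0) (.lin 0 false))
  (.req 0 false))) (.cut 1 0 (.cut 3 4 (.cut 5 0 (.req 0 false) (.cut 6 0 (.req 0 false) (.cut 0 5 (.rlt 1) (.cut 2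
  0 (.lin 0 false) (.cut 3 1 (.cut 2 2 (.lin 0 false) (.cut 3 0 (.cut 0 10 (.rlt 0) (.cut 2 11 (.lin 0 false) (.cut
  5 1 (.req 0 false) (.cut 6 1 (.req 0 false) (.cut 0 12 (.rlt 0) (.cut 2 12 (.lin 0 false) (.cut 0 4 (.rlt 0)
  (.cut 2 4 (.lin 0 false) (.cut 0 0 (.rlt 0) (.cut 2 0 (.lin 0 false) (.cut 5 1 (.cut 6 31 (.lin 1 false) (.cut 0
  20 (.cut 2 20 (.cut 5 0 (.cut 6 21 (.req 0 false) (.lin 1 true)) (.req 0 true)) (.lin 0 true)) (.cut 6 20 (.lin 1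
  false) (.cut 5 0 (.cut 2 15 (.lin 0 false) (.req 0 false)) (.req 0 true))))) (.cut 6 13 (.cut 5 17 (.lin 1 false)
  (.cut 6 1 (.cut 5 11 (.lin 1 false) (.cut 0 20 (.cut 2 20 (.cut 5 21 (.cut 6 0 (.req 0 false) (.req 0 true))
  (.lin 1 true)) (.lin 0 true)) (.cut 5 20 (.lin 1 false) (.cut 6 0 (.cut 2 15 (.lin 0 false) (.req 0 false)) (.req
  0 true))))) (.req 0 true))) (.req 0 true))))))))))))) (.req 0 false))) (.req 0 false)))))) (.req 0 false)) (.req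
  0 false))

/-- A certificate. -/
def tree14_16 : Tree :=
  .cut 2 16 (.cut 0 12 (.cut 5 12 (.cut 6 12 (.cut 2 14 (.cut 0 1 (.cut 5 1 (.cut 6 1 (.cut 2 3 (.cut 5 0 (.req 0
  true) (.cut 6 0 (.req 0 true) (.lin 1 false))) (.lin 0 false)) (.lin 1 false)) (.lin 1 false)) (.cut 2 1 (.lin 0
  true) (.cut 5 0 (.cut 6 1 (.lin 1 true) (.cut 0 7 (.cut 6 7 (.cut 2 9 (.cut 3 0 (.req 0 true) (.cut 6 5 (.cut 0 5
  (.cut 2 7 (.cut 2 0 (.lin 0 true) (.cut 6 0 (.req 0 true) (.cut 3 0 (.cut 6 1 (.req 0 true) (.cut 0 2 (.lin 1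
  false) (.cut 2 2 (.lin 0 true) (.cut 2 2 (.cut 6 1 (.cut 2 0 (.cut 0 0 (.cut 6 0 (.req 0 true) (.lin 1 false))
  (.lin 0 true)) (.req 0 true)) (.req 0 false)) (.lin 0 false))))) (.req 0 false)))) (.lin 0 false)) (.lin 1 true))
  (.req 0 false))) (.lin 0 false)) (.lin 1 false)) (.rlt 1))) (.cut 6 2 (.cut 6 0 (.cut 5 0 (.lin 1 true) (.cut 0 7
  (.cut 5 7 (.cut 2 9 (.cut 3 0 (.req 0 true) (.cut 5 5 (.cut 0 5 (.cut 2 7 (.cut 2 0 (.lin 0 true) (.cut 5 0 (.req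
  0 true) (.cut 3 0 (.cut 5 1 (.req 0 true) (.cut 0 2 (.lin 1 false) (.cut 2 2 (.lin 0 true) (.cut 2 2 (.cut 5 1
  (.cut 2 0 (.cut 0 0 (.cut 5 0 (.req 0 true) (.lin 1 false)) (.lin 0 true)) (.req 0 true)) (.req 0 false)) (.lin 0
  false))))) (.req 0 false)))) (.lin 0 false)) (.lin 1 true)) (.req 0 false))) (.lin 0 false)) (.lin 1 false))
  (.rlt 1))) (.cut 3 0 (.cut 5 1 (.cut 0 2 (.cut 2 2 (.cut 5 0 (.cut 6 0 (.req 0 true) (.req 0 false)) (.req 0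
  false)) (.lin 0 false)) (.lin 1 true)) (.req 0 false)) (.req 0 false))) (.req 0 false))))) (.lin 0 false)) (.lin
  1 false)) (.lin 1 false)) (.rlt 0)) (.lin 0 false)

/-- A certificate. -/
def tree14_17 : Tree :=
  .cut 3 1 (.cut 5 0 (.req 0 true) (.cut 6 0 (.req 0 true) (.cut 0 1 (.lin 1 false) (.cut 2 1 (.lin 0 true) (.cut 3
  0 (.req 0 true) (.cut 0 26 (.cut 2 27 (.cut 5 26 (.cut 6 26 (.cut 0 22 (.cut 5 22 (.cut 6 22 (.cut 2 23 (.cut 2 0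
  (.lin 0 true) (.cut 0 2 (.cut 2 2 (.cut 5 2 (.cut 6 2 (.cut 5 0 (.req 0 true) (.cut 6 1 (.cut 2 0 (.cut 0 0 (.lin
  1 false) (.lin 0 true)) (.req 0 true)) (.lin 1 false))) (.lin 1 false)) (.lin 1 false)) (.lin 0 false)) (.cut 2 2
  (.lin 0 true) (.cut 5 1 (.cut 6 2 (.req 0 true) (.cut 0 3 (.cut 2 3 (.cut 6 3 (.cut 5 0 (.req 0 true) (.cut 6 0
  (.req 0 true) (.req 0 false))) (.lin 1 false)) (.lin 0 false)) (.cut 6 2 (.lin 1 true) (.cut 2 3 (.lin 0 true)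
  (.cut 5 0 (.req 0 true) (.cut 6 1 (.cut 0 1 (.cut 2 1 (.req 0 false) (.lin 0 false)) (.lin 1 true)) (.req 0
  false))))))) (.cut 6 3 (.cut 0 3 (.cut 2 3 (.cut 5 4 (.cut 6 2 (.cut 6 0 (.req 0 true) (.cut 5 1 (.cut 0 2 (.cut
  2 2 (.cut 6 0 (.req 0 true) (.req 0 false)) (.lin 0 false)) (.lin 1 true)) (.req 0 false))) (.req 0 false)) (.lin
  1 false)) (.lin 0 false)) (.cut 5 1 (.lin 1 true) (.cut 6 1 (.cut 2 3 (.lin 0 true) (.cut 6 0 (.req 0 true) (.cut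
  5 3 (.cut 0 1 (.cut 2 1 (.cut 5 0 (.lin 1 true) (.req 0 false)) (.lin 0 false)) (.lin 1 true)) (.req 0 false))))
  (.req 0 false)))) (.req 0 false)))))) (.lin 0 false)) (.lin 1 false)) (.lin 1 false)) (.rlt 0)) (.lin 1 false))
  (.lin 1 false)) (.lin 0 false)) (.rlt 0))))))) (.cut 0 14 (.cut 5 14 (.cut 6 14 (.cut 2 1 (.lin 0 true) (.cut 3 2
  (tree14_16) (.cut 5 3 (.cut 6 3 (.cut 0 6 (.cut 2 2 (.lin 0 true) (.cut 0 1 (.cut 5 1 (.cut 6 1 (.cut 3 3 (.cut 2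
  4 (.cut 5 0 (.cut 6 0 (.req 0 true) (.cut 3 1 (.cut 2 0 (.cut 0 0 (.lin 1 false) (.lin 0 true)) (.req 0 true))
  (.req 0 false))) (.cut 6 0 (.cut 3 1 (.cut 2 0 (.cut 0 0 (.lin 1 false) (.lin 0 true)) (.req 0 true)) (.req 0
  false)) (.lin 1 false))) (.lin 0 false)) (.cut 2 3 (.lin 0 true) (.cut 3 5 (.cut 2 6 (.cut 5 0 (.cut 6 0 (.req 0
  true) (.req 0 false)) (.req 0 false)) (.lin 0 false)) (.cut 5 0 (.cut 6 0 (.cut 0 0 (.cut 2 32 (.cut 3 26 (.req 0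
  true) (.lin 0 true)) (.req 0 true)) (.lin 1 true)) (.req 0 false)) (.req 0 false))))) (.lin 1 false)) (.lin 1
  false)) (.cut 2 1 (.lin 0 true) (.cut 3 3 (.cut 2 7 (.cut 5 1 (.cut 6 1 (.cut 0 0 (.cut 2 3 (.cut 5 0 (.lin 1
  true) (.cut 6 0 (.lin 1 true) (.req 0 false))) (.lin 0 false)) (.lin 1 true)) (.req 0 false)) (.req 0 false))
  (.lin 0 false)) (.cut 5 1 (.cut 6 1 (.cut 0 0 (.cut 5 0 (.lin 1 true) (.cut 3 0 (.cut 2 4 (.req 0 false) (.lin 0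
  false)) (.req 0 false))) (.lin 1 true)) (.req 0 false)) (.req 0 false)))))) (.lin 1 true)) (.req 0 false)) (.req
  0 false)))) (.lin 1 false)) (.lin 1 false)) (.rlt 0))

/-- A certificate. -/
def tree14_18 : Tree :=
  .cut 2 16 (.cut 0 12 (.cut 5 12 (.cut 6 12 (.cut 2 14 (.cut 0 1 (.cut 5 1 (.cut 6 1 (.cut 2 3 (.cut 5 0 (.req 0
  true) (.cut 6 0 (.req 0 true) (.lin 1 false))) (.lin 0 false)) (.lin 1 false)) (.lin 1 false)) (.cut 2 1 (.lin 0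
  true) (.cut 5 0 (.cut 6 1 (.lin 1 true) (.cut 0 7 (.cut 6 7 (.cut 2 9 (.cut 3 0 (.req 0 true) (.cut 6 5 (.cut 0 5
  (.cut 2 7 (.cut 2 0 (.lin 0 true) (.cut 6 0 (.req 0 true) (.cut 3 0 (.cut 6 1 (.req 0 true) (.cut 0 2 (.lin 1
  false) (.cut 2 2 (.lin 0 true) (.cut 2 2 (.cut 6 1 (.cut 2 0 (.cut 0 0 (.cut 6 0 (.req 0 true) (.lin 1 false))
  (.lin 0 true)) (.req 0 true)) (.req 0 false)) (.lin 0 false))))) (.req 0 false)))) (.lin 0 false)) (.lin 1 true))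
  (.req 0 false))) (.lin 0 false)) (.lin 1 false)) (.rlt 1))) (.cut 6 2 (.cut 6 0 (.cut 5 0 (.lin 1 true) (.cut 0 7
  (.cut 5 7 (.cut 2 9 (.cut 3 0 (.req 0 true) (.cut 5 5 (.cut 0 5 (.cut 2 7 (.cut 2 0 (.lin 0 true) (.cut 5 0 (.req
  0 true) (.cut 3 0 (.cut 5 1 (.req 0 true) (.cut 0 2 (.lin 1 false) (.cut 2 2 (.lin 0 true) (.cut 2 2 (.cut 5 1
  (.cut 2 0 (.cut 0 0 (.cut 5 0 (.req 0 true) (.lin 1 false)) (.lin 0 true)) (.req 0 true)) (.req 0 false)) (.lin 0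
  false))))) (.req 0 false)))) (.lin 0 false)) (.lin 1 true)) (.req 0 false))) (.lin 0 false)) (.lin 1 false))
  (.rlt 1))) (.cut 3 0 (.cut 5 1 (.cut 0 2 (.cut 2 2 (.cut 5 0 (.cut 6 0 (.req 0 true) (.req 0 false)) (.req 0
  false)) (.lin 0 false)) (.lin 1 true)) (.req 0 false)) (.req 0 false))) (.req 0 false))))) (.lin 0 false)) (.lin
  1 false)) (.lin 1 false)) (.rlt 0)) (.lin 0 false)

/-- A certificate. -/
def tree14_19 : Tree :=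
  .cut 3 1 (.cut 5 0 (.req 0 true) (.cut 6 0 (.req 0 true) (.cut 0 1 (.lin 1 false) (.cut 2 1 (.lin 0 true) (.cut 3
  0 (.req 0 true) (.cut 0 26 (.cut 2 27 (.cut 5 26 (.cut 6 26 (.cut 0 22 (.cut 5 22 (.cut 6 22 (.cut 2 23 (.cut 2 0
  (.lin 0 true) (.cut 0 2 (.cut 2 2 (.cut 5 2 (.cut 6 2 (.cut 5 0 (.req 0 true) (.cut 6 1 (.cut 2 0 (.cut 0 0 (.lin
  1 false) (.lin 0 true)) (.req 0 true)) (.lin 1 false))) (.lin 1 false)) (.lin 1 false)) (.lin 0 false)) (.cut 2 2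
  (.lin 0 true) (.cut 5 1 (.cut 6 2 (.req 0 true) (.cut 0 3 (.cut 2 3 (.cut 6 3 (.cut 5 0 (.req 0 true) (.cut 6 0
  (.req 0 true) (.req 0 false))) (.lin 1 false)) (.lin 0 false)) (.cut 6 2 (.lin 1 true) (.cut 2 3 (.lin 0 true)
  (.cut 5 0 (.req 0 true) (.cut 6 1 (.cut 0 1 (.cut 2 1 (.req 0 false) (.lin 0 false)) (.lin 1 true)) (.req 0
  false))))))) (.cut 6 3 (.cut 0 3 (.cut 2 3 (.cut 5 4 (.cut 6 2 (.cut 6 0 (.req 0 true) (.cut 5 1 (.cut 0 2 (.cut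
  2 2 (.cut 6 0 (.req 0 true) (.req 0 false)) (.lin 0 false)) (.lin 1 true)) (.req 0 false))) (.req 0 false)) (.lin
  1 false)) (.lin 0 false)) (.cut 5 1 (.lin 1 true) (.cut 6 1 (.cut 2 3 (.lin 0 true) (.cut 6 0 (.req 0 true) (.cut
  5 3 (.cut 0 1 (.cut 2 1 (.cut 5 0 (.lin 1 true) (.req 0 false)) (.lin 0 false)) (.lin 1 true)) (.req 0 false))))
  (.req 0 false)))) (.req 0 false)))))) (.lin 0 false)) (.lin 1 false)) (.lin 1 false)) (.rlt 0)) (.lin 1 false))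
  (.lin 1 false)) (.lin 0 false)) (.rlt 0))))))) (.cut 0 14 (.cut 5 14 (.cut 6 14 (.cut 2 1 (.lin 0 true) (.cut 3 2
  (tree14_18) (.cut 5 3 (.cut 6 3 (.cut 0 6 (.cut 2 2 (.lin 0 true) (.cut 0 1 (.cut 5 1 (.cut 6 1 (.cut 3 3 (.cut 2
  4 (.cut 5 0 (.cut 6 0 (.req 0 true) (.cut 3 1 (.cut 2 0 (.cut 0 0 (.lin 1 false) (.lin 0 true)) (.req 0 true))
  (.req 0 false))) (.cut 6 0 (.cut 3 1 (.cut 2 0 (.cut 0 0 (.lin 1 false) (.lin 0 true)) (.req 0 true)) (.req 0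
  false)) (.lin 1 false))) (.lin 0 false)) (.cut 2 3 (.lin 0 true) (.cut 3 5 (.cut 2 6 (.cut 5 0 (.cut 6 0 (.req 0
  true) (.req 0 false)) (.req 0 false)) (.lin 0 false)) (.cut 5 0 (.cut 6 0 (.cut 0 0 (.cut 2 32 (.cut 3 26 (.req 0
  true) (.lin 0 true)) (.req 0 true)) (.lin 1 true)) (.req 0 false)) (.req 0 false))))) (.lin 1 false)) (.lin 1
  false)) (.cut 2 1 (.lin 0 true) (.cut 3 3 (.cut 2 7 (.cut 5 1 (.cut 6 1 (.cut 0 0 (.cut 2 3 (.cut 5 0 (.lin 1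
  true) (.cut 6 0 (.lin 1 true) (.req 0 false))) (.lin 0 false)) (.lin 1 true)) (.req 0 false)) (.req 0 false))
  (.lin 0 false)) (.cut 5 1 (.cut 6 1 (.cut 0 0 (.cut 5 0 (.lin 1 true) (.cut 3 0 (.cut 2 4 (.req 0 false) (.lin 0
  false)) (.req 0 false))) (.lin 1 true)) (.req 0 false)) (.req 0 false)))))) (.lin 1 true)) (.req 0 false)) (.req
  0 false)))) (.lin 1 false)) (.lin 1 false)) (.rlt 0))

/-- A certificate. -/
def tree14_20 : Tree :=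
  .cut 0 5 (.cut 2 5 (.cut 5 10 (.cut 6 2 (.cut 6 1 (.req 0 false) (.cut 2 3 (.cut 0 3 (.cut 5 5 (.cut 2 1 (.cut 0
  1 (.cut 5 3 (.cut 2 0 (.cut 0 0 (.cut 5 1 (.lin 1 true) (.req 0 false)) (.lin 0 true)) (.req 0 true)) (.lin 1
  false)) (.lin 0 true)) (.req 0 true)) (.lin 1 false)) (.lin 0 true)) (.req 0 true))) (.req 0 true)) (.lin 1
  false)) (.lin 0 false)) (.cut 2 5 (.lin 0 true) (.cut 6 3 (.cut 5 5 (.lin 1 true) (.cut 0 8 (.cut 2 8 (.cut 5 11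
  (.cut 6 1 (.cut 5 3 (.cut 0 3 (.cut 2 3 (.req 0 false) (.lin 0 false)) (.lin 1 true)) (.req 0 false)) (.req 0
  true)) (.lin 1 false)) (.lin 0 false)) (.cut 2 8 (.lin 0 true) (.cut 6 2 (.cut 5 8 (.lin 1 true) (.cut 0 13 (.cut
  2 13 (.cut 5 15 (.cut 6 1 (.cut 6 0 (.req 0 false) (.cut 2 10 (.cut 0 10 (.cut 5 11 (.cut 2 8 (.cut 0 8 (.cut 5 9
  (.cut 2 7 (.cut 5 7 (.cut 0 6 (.cut 2 6 (.cut 5 5 (.cut 0 4 (.cut 2 4 (.cut 5 2 (.cut 0 1 (.cut 2 1 (.req 0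
  false) (.lin 0 false)) (.lin 1 true)) (.req 0 false)) (.lin 0 false)) (.lin 1 true)) (.req 0 false)) (.lin 0
  false)) (.lin 1 true)) (.req 0 false)) (.req 0 true)) (.lin 1 false)) (.lin 0 true)) (.req 0 true)) (.lin 1
  false)) (.lin 0 true)) (.req 0 true))) (.req 0 true)) (.lin 1 false)) (.lin 0 false)) (.cut 2 13 (.lin 0 true)
  (.cut 6 1 (.cut 5 13 (.lin 1 true) (.cut 6 0 (.req 0 false) (.cut 2 39 (.cut 0 39 (.cut 5 40 (.cut 2 9 (.cut 0 9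
  (.cut 5 10 (.cut 2 0 (.cut 0 0 (.cut 5 1 (.req 0 true) (.lin 1 false)) (.lin 0 true)) (.req 0 true)) (.lin 1
  false)) (.lin 0 true)) (.req 0 true)) (.lin 1 false)) (.lin 0 true)) (.req 0 true)))) (.req 0 true))))) (.req 0
  true))))) (.req 0 true)))

/-- A certificate. -/
def tree14_21 : Tree :=
  .cut 0 2 (.cut 2 2 (.cut 5 78 (.cut 6 2 (.req 0 false) (.cut 6 35 (.cut 5 40 (.cut 6 23 (.cut 5 28 (.cut 5 2
  (.lin 1 true) (.cut 6 18 (.cut 5 20 (.cut 6 0 (.req 0 false) (.cut 6 15 (.cut 5 18 (.cut 5 0 (.lin 1 true) (.cut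
  6 0 (.req 0 false) (.cut 5 0 (.lin 1 true) (.cut 6 13 (.cut 5 15 (.cut 6 12 (.cut 5 14 (.cut 6 11 (.cut 5 13
  (.cut 0 1 (.cut 2 1 (.cut 6 0 (.req 0 false) (.cut 5 12 (.cut 6 9 (.cut 5 11 (.cut 5 0 (.lin 1 true) (.cut 6 0
  (.req 0 false) (.cut 5 0 (.lin 1 true) (.cut 0 0 (.cut 2 0 (.cut 6 2 (.req 0 false) (.cut 5 2 (.lin 1 true) (.cut
  5 5 (.cut 6 4 (.cut 5 4 (.cut 6 3 (.cut 5 2 (.cut 6 2 (.cut 5 0 (.cut 6 0 (.req 0 false) (.lin 1 true)) (.req 0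
  false)) (.lin 1 true)) (.req 0 false)) (.req 0 true)) (.lin 1 false)) (.req 0 true)) (.lin 1 false)))) (.lin 0
  false)) (.cut 2 0 (.lin 0 true) (.cut 6 2 (.cut 5 3 (.cut 6 0 (.cut 5 0 (.lin 1 true) (.req 0 false)) (.req 0
  true)) (.lin 1 false)) (.req 0 true))))))) (.lin 1 false)) (.req 0 true)) (.lin 1 false))) (.lin 0 false)) (.cut
  2 1 (.lin 0 true) (.cut 6 2 (.cut 5 4 (.cut 6 0 (.cut 5 1 (.lin 1 true) (.req 0 false)) (.req 0 true)) (.lin 1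
  false)) (.req 0 true)))) (.lin 1 false)) (.req 0 true)) (.lin 1 false)) (.req 0 true)) (.lin 1 false)) (.req 0
  true))))) (.lin 1 false)) (.req 0 true))) (.lin 1 false)) (.req 0 true))) (.lin 1 false)) (.req 0 true)) (.lin 1
  false)) (.req 0 true))) (.lin 1 false)) (.lin 0 false)) (.cut 5 2 (.lin 1 true) (.cut 2 2 (.lin 0 true) (.cut 6
  11 (.cut 6 0 (.req 0 false) (.cut 5 0 (.lin 1 true) (.cut 0 3 (.cut 2 3 (.cut 5 13 (.cut 6 5 (.cut 5 8 (.cut 6 1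
  (.req 0 false) (.cut 6 2 (.cut 5 1 (.lin 1 true) (.cut 5 5 (.cut 0 1 (.cut 2 1 (.cut 5 3 (.cut 6 1 (.cut 5 2
  (.cut 6 0 (.req 0 false) (.cut 2 0 (.req 0 false) (.req 0 true))) (.lin 1 false)) (.req 0 true)) (.lin 1 false))
  (.lin 0 false)) (.cut 2 1 (.lin 0 true) (.cut 6 0 (.cut 5 1 (.lin 1 true) (.req 0 false)) (.req 0 true)))) (.lin
  1 false))) (.req 0 true))) (.lin 1 false)) (.req 0 true)) (.lin 1 false)) (.lin 0 false)) (.cut 2 3 (.lin 0 true)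
  (.cut 6 5 (.cut 5 3 (.lin 1 true) (tree14_20)) (.req 0 true)))))) (.req 0 true))))

/-- A certificate. -/
def tree14_22 : Tree :=
  .cut 0 5 (.cut 2 5 (.cut 5 10 (.cut 6 2 (.cut 6 1 (.req 0 false) (.cut 2 3 (.cut 0 3 (.cut 5 5 (.cut 2 1 (.cut 0
  1 (.cut 5 3 (.cut 2 0 (.cut 0 0 (.cut 5 1 (.lin 1 true) (.req 0 false)) (.lin 0 true)) (.req 0 true)) (.lin 1
  false)) (.lin 0 true)) (.req 0 true)) (.lin 1 false)) (.lin 0 true)) (.req 0 true))) (.req 0 true)) (.lin 1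
  false)) (.lin 0 false)) (.cut 2 5 (.lin 0 true) (.cut 6 3 (.cut 5 5 (.lin 1 true) (.cut 0 8 (.cut 2 8 (.cut 5 11
  (.cut 6 1 (.cut 5 3 (.cut 0 3 (.cut 2 3 (.req 0 false) (.lin 0 false)) (.lin 1 true)) (.req 0 false)) (.req 0
  true)) (.lin 1 false)) (.lin 0 false)) (.cut 2 8 (.lin 0 true) (.cut 6 2 (.cut 5 8 (.lin 1 true) (.cut 0 13 (.cut
  2 13 (.cut 5 15 (.cut 6 1 (.cut 6 0 (.req 0 false) (.cut 2 10 (.cut 0 10 (.cut 5 11 (.cut 2 8 (.cut 0 8 (.cut 5 9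
  (.cut 2 7 (.cut 5 7 (.cut 0 6 (.cut 2 6 (.cut 5 5 (.cut 0 4 (.cut 2 4 (.cut 5 2 (.cut 0 1 (.cut 2 1 (.req 0
  false) (.lin 0 false)) (.lin 1 true)) (.req 0 false)) (.lin 0 false)) (.lin 1 true)) (.req 0 false)) (.lin 0
  false)) (.lin 1 true)) (.req 0 false)) (.req 0 true)) (.lin 1 false)) (.lin 0 true)) (.req 0 true)) (.lin 1
  false)) (.lin 0 true)) (.req 0 true))) (.req 0 true)) (.lin 1 false)) (.lin 0 false)) (.cut 2 13 (.lin 0 true)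
  (.cut 6 1 (.cut 5 13 (.lin 1 true) (.cut 6 0 (.req 0 false) (.cut 2 39 (.cut 0 39 (.cut 5 40 (.cut 2 9 (.cut 0 9
  (.cut 5 10 (.cut 2 0 (.cut 0 0 (.cut 5 1 (.req 0 true) (.lin 1 false)) (.lin 0 true)) (.req 0 true)) (.lin 1
  false)) (.lin 0 true)) (.req 0 true)) (.lin 1 false)) (.lin 0 true)) (.req 0 true)))) (.req 0 true))))) (.req 0
  true))))) (.req 0 true)))

/-- A certificate. -/
def tree14_23 : Tree :=
  .cut 0 2 (.cut 2 2 (.cut 5 78 (.cut 6 2 (.req 0 false) (.cut 6 35 (.cut 5 40 (.cut 6 23 (.cut 5 28 (.cut 5 2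
  (.lin 1 true) (.cut 6 18 (.cut 5 20 (.cut 6 0 (.req 0 false) (.cut 6 15 (.cut 5 18 (.cut 5 0 (.lin 1 true) (.cut
  6 0 (.req 0 false) (.cut 5 0 (.lin 1 true) (.cut 6 13 (.cut 5 15 (.cut 6 12 (.cut 5 14 (.cut 6 11 (.cut 5 13
  (.cut 0 1 (.cut 2 1 (.cut 6 0 (.req 0 false) (.cut 5 12 (.cut 6 9 (.cut 5 11 (.cut 5 0 (.lin 1 true) (.cut 6 0
  (.req 0 false) (.cut 5 0 (.lin 1 true) (.cut 0 0 (.cut 2 0 (.cut 6 2 (.req 0 false) (.cut 5 2 (.lin 1 true) (.cut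
  5 5 (.cut 6 4 (.cut 5 4 (.cut 6 3 (.cut 5 2 (.cut 6 2 (.cut 5 0 (.cut 6 0 (.req 0 false) (.lin 1 true)) (.req 0
  false)) (.lin 1 true)) (.req 0 false)) (.req 0 true)) (.lin 1 false)) (.req 0 true)) (.lin 1 false)))) (.lin 0
  false)) (.cut 2 0 (.lin 0 true) (.cut 6 2 (.cut 5 3 (.cut 6 0 (.cut 5 0 (.lin 1 true) (.req 0 false)) (.req 0
  true)) (.lin 1 false)) (.req 0 true))))))) (.lin 1 false)) (.req 0 true)) (.lin 1 false))) (.lin 0 false)) (.cut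
  2 1 (.lin 0 true) (.cut 6 2 (.cut 5 4 (.cut 6 0 (.cut 5 1 (.lin 1 true) (.req 0 false)) (.req 0 true)) (.lin 1
  false)) (.req 0 true)))) (.lin 1 false)) (.req 0 true)) (.lin 1 false)) (.req 0 true)) (.lin 1 false)) (.req 0
  true))))) (.lin 1 false)) (.req 0 true))) (.lin 1 false)) (.req 0 true))) (.lin 1 false)) (.req 0 true)) (.lin 1
  false)) (.req 0 true))) (.lin 1 false)) (.lin 0 false)) (.cut 5 2 (.lin 1 true) (.cut 2 2 (.lin 0 true) (.cut 6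
  11 (.cut 6 0 (.req 0 false) (.cut 5 0 (.lin 1 true) (.cut 0 3 (.cut 2 3 (.cut 5 13 (.cut 6 5 (.cut 5 8 (.cut 6 1
  (.req 0 false) (.cut 6 2 (.cut 5 1 (.lin 1 true) (.cut 5 5 (.cut 0 1 (.cut 2 1 (.cut 5 3 (.cut 6 1 (.cut 5 2
  (.cut 6 0 (.req 0 false) (.cut 2 0 (.req 0 false) (.req 0 true))) (.lin 1 false)) (.req 0 true)) (.lin 1 false))
  (.lin 0 false)) (.cut 2 1 (.lin 0 true) (.cut 6 0 (.cut 5 1 (.lin 1 true) (.req 0 false)) (.req 0 true)))) (.lin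
  1 false))) (.req 0 true))) (.lin 1 false)) (.req 0 true)) (.lin 1 false)) (.lin 0 false)) (.cut 2 3 (.lin 0 true)
  (.cut 6 5 (.cut 5 3 (.lin 1 true) (tree14_22)) (.req 0 true)))))) (.req 0 true))))

/-- A certificate. -/
def tree14_24 : Tree :=
  .sign 4 (.cut 1 1 (.cut 2 2 (.lin 0 true) (.cut 1 0 (.req 0 true) (.cut 3 2 (.cut 6 0 (.req 0 false) (.cut 5 1
  (.lin 1 true) (.cut 3 0 (.cut 6 0 (.req 0 false) (.cut 5 0 (.lin 1 true) (.cut 2 0 (.lin 0 true) (.cut 0 0 (.cut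
  2 0 (.cut 5 4 (.cut 6 4 (.req 0 false) (.lin 1 true)) (.req 0 false)) (.lin 0 false)) (.cut 5 0 (.lin 1 true)
  (.cut 2 0 (.lin 0 true) (.cut 0 1 (.cut 2 1 (.cut 5 51 (.cut 6 51 (.cut 5 22 (.cut 6 22 (.cut 6 2 (.req 0 false)
  (.cut 5 12 (.cut 6 9 (.cut 5 6 (.cut 6 3 (.cut 5 2 (.lin 1 true) (.req 0 false)) (.lin 1 true)) (.req 0 false))
  (.lin 1 true)) (.req 0 false))) (.lin 1 true)) (.req 0 false)) (.lin 1 true)) (.req 0 false)) (.lin 0 false))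
  (.cut 5 1 (.lin 1 true) (.cut 2 1 (.lin 0 true) (.cut 6 76 (tree14_21) (.req 0 true))))))))))) (.req 0 false))))
  (.req 0 false)))) (.req 0 false)) (.cut 1 1 (.cut 2 2 (.lin 0 true) (.cut 1 0 (.req 0 true) (.cut 3 2 (.cut 6 0
  (.req 0 false) (.cut 5 1 (.lin 1 true) (.cut 3 0 (.cut 6 0 (.req 0 false) (.cut 5 0 (.lin 1 true) (.cut 2 0 (.lin
  0 true) (.cut 0 0 (.cut 2 0 (.cut 5 4 (.cut 6 4 (.req 0 false) (.lin 1 true)) (.req 0 false)) (.lin 0 false))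
  (.cut 5 0 (.lin 1 true) (.cut 2 0 (.lin 0 true) (.cut 0 1 (.cut 2 1 (.cut 5 51 (.cut 6 51 (.cut 5 22 (.cut 6 22
  (.cut 6 2 (.req 0 false) (.cut 5 12 (.cut 6 9 (.cut 5 6 (.cut 6 3 (.cut 5 2 (.lin 1 true) (.req 0 false)) (.lin 1
  true)) (.req 0 false)) (.lin 1 true)) (.req 0 false))) (.lin 1 true)) (.req 0 false)) (.lin 1 true)) (.req 0
  false)) (.lin 0 false)) (.cut 5 1 (.lin 1 true) (.cut 2 1 (.lin 0 true) (.cut 6 76 (tree14_23) (.req 0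
  true))))))))))) (.req 0 false)))) (.req 0 false)))) (.req 0 false))

/-- A certificate. -/
def tree14_25 : Tree :=
  .cut 0 5 (.cut 2 5 (.cut 6 10 (.cut 5 2 (.cut 5 1 (.req 0 false) (.cut 2 3 (.cut 0 3 (.cut 6 5 (.cut 2 1 (.cut 0
  1 (.cut 6 3 (.cut 2 0 (.cut 0 0 (.cut 6 1 (.lin 1 true) (.req 0 false)) (.lin 0 true)) (.req 0 true)) (.lin 1
  false)) (.lin 0 true)) (.req 0 true)) (.lin 1 false)) (.lin 0 true)) (.req 0 true))) (.req 0 true)) (.lin 1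
  false)) (.lin 0 false)) (.cut 2 5 (.lin 0 true) (.cut 5 3 (.cut 6 5 (.lin 1 true) (.cut 0 8 (.cut 2 8 (.cut 6 11
  (.cut 5 1 (.cut 6 3 (.cut 0 3 (.cut 2 3 (.req 0 false) (.lin 0 false)) (.lin 1 true)) (.req 0 false)) (.req 0
  true)) (.lin 1 false)) (.lin 0 false)) (.cut 2 8 (.lin 0 true) (.cut 5 2 (.cut 6 8 (.lin 1 true) (.cut 0 13 (.cut
  2 13 (.cut 6 15 (.cut 5 1 (.cut 5 0 (.req 0 false) (.cut 2 10 (.cut 0 10 (.cut 6 11 (.cut 2 8 (.cut 0 8 (.cut 6 9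
  (.cut 2 7 (.cut 6 7 (.cut 0 6 (.cut 2 6 (.cut 6 5 (.cut 0 4 (.cut 2 4 (.cut 6 2 (.cut 0 1 (.cut 2 1 (.req 0
  false) (.lin 0 false)) (.lin 1 true)) (.req 0 false)) (.lin 0 false)) (.lin 1 true)) (.req 0 false)) (.lin 0
  false)) (.lin 1 true)) (.req 0 false)) (.req 0 true)) (.lin 1 false)) (.lin 0 true)) (.req 0 true)) (.lin 1
  false)) (.lin 0 true)) (.req 0 true))) (.req 0 true)) (.lin 1 false)) (.lin 0 false)) (.cut 2 13 (.lin 0 true)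
  (.cut 5 1 (.cut 6 13 (.lin 1 true) (.cut 5 0 (.req 0 false) (.cut 2 39 (.cut 0 39 (.cut 6 40 (.cut 2 9 (.cut 0 9
  (.cut 6 10 (.cut 2 0 (.cut 0 0 (.cut 6 1 (.req 0 true) (.lin 1 false)) (.lin 0 true)) (.req 0 true)) (.lin 1
  false)) (.lin 0 true)) (.req 0 true)) (.lin 1 false)) (.lin 0 true)) (.req 0 true)))) (.req 0 true))))) (.req 0
  true))))) (.req 0 true)))

/-- A certificate. -/
def tree14_26 : Tree :=
  .cut 0 2 (.cut 2 2 (.cut 6 78 (.cut 5 2 (.req 0 false) (.cut 5 35 (.cut 6 40 (.cut 5 23 (.cut 6 28 (.cut 6 2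
  (.lin 1 true) (.cut 5 18 (.cut 6 20 (.cut 5 0 (.req 0 false) (.cut 5 15 (.cut 6 18 (.cut 6 0 (.lin 1 true) (.cut
  5 0 (.req 0 false) (.cut 6 0 (.lin 1 true) (.cut 5 13 (.cut 6 15 (.cut 5 12 (.cut 6 14 (.cut 5 11 (.cut 6 13
  (.cut 0 1 (.cut 2 1 (.cut 5 0 (.req 0 false) (.cut 6 12 (.cut 5 9 (.cut 6 11 (.cut 6 0 (.lin 1 true) (.cut 5 0
  (.req 0 false) (.cut 6 0 (.lin 1 true) (.cut 0 0 (.cut 2 0 (.cut 5 2 (.req 0 false) (.cut 6 2 (.lin 1 true) (.cut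
  6 5 (.cut 5 4 (.cut 6 4 (.cut 5 3 (.cut 6 2 (.cut 5 2 (.cut 6 0 (.cut 5 0 (.req 0 false) (.lin 1 true)) (.req 0
  false)) (.lin 1 true)) (.req 0 false)) (.req 0 true)) (.lin 1 false)) (.req 0 true)) (.lin 1 false)))) (.lin 0
  false)) (.cut 2 0 (.lin 0 true) (.cut 5 2 (.cut 6 3 (.cut 5 0 (.cut 6 0 (.lin 1 true) (.req 0 false)) (.req 0
  true)) (.lin 1 false)) (.req 0 true))))))) (.lin 1 false)) (.req 0 true)) (.lin 1 false))) (.lin 0 false)) (.cut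
  2 1 (.lin 0 true) (.cut 5 2 (.cut 6 4 (.cut 5 0 (.cut 6 1 (.lin 1 true) (.req 0 false)) (.req 0 true)) (.lin 1
  false)) (.req 0 true)))) (.lin 1 false)) (.req 0 true)) (.lin 1 false)) (.req 0 true)) (.lin 1 false)) (.req 0
  true))))) (.lin 1 false)) (.req 0 true))) (.lin 1 false)) (.req 0 true))) (.lin 1 false)) (.req 0 true)) (.lin 1
  false)) (.req 0 true))) (.lin 1 false)) (.lin 0 false)) (.cut 6 2 (.lin 1 true) (.cut 2 2 (.lin 0 true) (.cut 5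
  11 (.cut 5 0 (.req 0 false) (.cut 6 0 (.lin 1 true) (.cut 0 3 (.cut 2 3 (.cut 6 13 (.cut 5 5 (.cut 6 8 (.cut 5 1
  (.req 0 false) (.cut 5 2 (.cut 6 1 (.lin 1 true) (.cut 6 5 (.cut 0 1 (.cut 2 1 (.cut 6 3 (.cut 5 1 (.cut 6 2
  (.cut 5 0 (.req 0 false) (.cut 2 0 (.req 0 false) (.req 0 true))) (.lin 1 false)) (.req 0 true)) (.lin 1 false))
  (.lin 0 false)) (.cut 2 1 (.lin 0 true) (.cut 5 0 (.cut 6 1 (.lin 1 true) (.req 0 false)) (.req 0 true)))) (.lin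
  1 false))) (.req 0 true))) (.lin 1 false)) (.req 0 true)) (.lin 1 false)) (.lin 0 false)) (.cut 2 3 (.lin 0 true)
  (.cut 5 5 (.cut 6 3 (.lin 1 true) (tree14_25)) (.req 0 true)))))) (.req 0 true))))

/-- A certificate. -/
def tree14_27 : Tree :=
  .cut 0 5 (.cut 2 5 (.cut 6 10 (.cut 5 2 (.cut 5 1 (.req 0 false) (.cut 2 3 (.cut 0 3 (.cut 6 5 (.cut 2 1 (.cut 0
  1 (.cut 6 3 (.cut 2 0 (.cut 0 0 (.cut 6 1 (.lin 1 true) (.req 0 false)) (.lin 0 true)) (.req 0 true)) (.lin 1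
  false)) (.lin 0 true)) (.req 0 true)) (.lin 1 false)) (.lin 0 true)) (.req 0 true))) (.req 0 true)) (.lin 1
  false)) (.lin 0 false)) (.cut 2 5 (.lin 0 true) (.cut 5 3 (.cut 6 5 (.lin 1 true) (.cut 0 8 (.cut 2 8 (.cut 6 11
  (.cut 5 1 (.cut 6 3 (.cut 0 3 (.cut 2 3 (.req 0 false) (.lin 0 false)) (.lin 1 true)) (.req 0 false)) (.req 0
  true)) (.lin 1 false)) (.lin 0 false)) (.cut 2 8 (.lin 0 true) (.cut 5 2 (.cut 6 8 (.lin 1 true) (.cut 0 13 (.cut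
  2 13 (.cut 6 15 (.cut 5 1 (.cut 5 0 (.req 0 false) (.cut 2 10 (.cut 0 10 (.cut 6 11 (.cut 2 8 (.cut 0 8 (.cut 6 9
  (.cut 2 7 (.cut 6 7 (.cut 0 6 (.cut 2 6 (.cut 6 5 (.cut 0 4 (.cut 2 4 (.cut 6 2 (.cut 0 1 (.cut 2 1 (.req 0
  false) (.lin 0 false)) (.lin 1 true)) (.req 0 false)) (.lin 0 false)) (.lin 1 true)) (.req 0 false)) (.lin 0
  false)) (.lin 1 true)) (.req 0 false)) (.req 0 true)) (.lin 1 false)) (.lin 0 true)) (.req 0 true)) (.lin 1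
  false)) (.lin 0 true)) (.req 0 true))) (.req 0 true)) (.lin 1 false)) (.lin 0 false)) (.cut 2 13 (.lin 0 true)
  (.cut 5 1 (.cut 6 13 (.lin 1 true) (.cut 5 0 (.req 0 false) (.cut 2 39 (.cut 0 39 (.cut 6 40 (.cut 2 9 (.cut 0 9
  (.cut 6 10 (.cut 2 0 (.cut 0 0 (.cut 6 1 (.req 0 true) (.lin 1 false)) (.lin 0 true)) (.req 0 true)) (.lin 1
  false)) (.lin 0 true)) (.req 0 true)) (.lin 1 false)) (.lin 0 true)) (.req 0 true)))) (.req 0 true))))) (.req 0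
  true))))) (.req 0 true)))

/-- A certificate. -/
def tree14_28 : Tree :=
  .cut 0 2 (.cut 2 2 (.cut 6 78 (.cut 5 2 (.req 0 false) (.cut 5 35 (.cut 6 40 (.cut 5 23 (.cut 6 28 (.cut 6 2
  (.lin 1 true) (.cut 5 18 (.cut 6 20 (.cut 5 0 (.req 0 false) (.cut 5 15 (.cut 6 18 (.cut 6 0 (.lin 1 true) (.cut
  5 0 (.req 0 false) (.cut 6 0 (.lin 1 true) (.cut 5 13 (.cut 6 15 (.cut 5 12 (.cut 6 14 (.cut 5 11 (.cut 6 13
  (.cut 0 1 (.cut 2 1 (.cut 5 0 (.req 0 false) (.cut 6 12 (.cut 5 9 (.cut 6 11 (.cut 6 0 (.lin 1 true) (.cut 5 0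
  (.req 0 false) (.cut 6 0 (.lin 1 true) (.cut 0 0 (.cut 2 0 (.cut 5 2 (.req 0 false) (.cut 6 2 (.lin 1 true) (.cut
  6 5 (.cut 5 4 (.cut 6 4 (.cut 5 3 (.cut 6 2 (.cut 5 2 (.cut 6 0 (.cut 5 0 (.req 0 false) (.lin 1 true)) (.req 0
  false)) (.lin 1 true)) (.req 0 false)) (.req 0 true)) (.lin 1 false)) (.req 0 true)) (.lin 1 false)))) (.lin 0
  false)) (.cut 2 0 (.lin 0 true) (.cut 5 2 (.cut 6 3 (.cut 5 0 (.cut 6 0 (.lin 1 true) (.req 0 false)) (.req 0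
  true)) (.lin 1 false)) (.req 0 true))))))) (.lin 1 false)) (.req 0 true)) (.lin 1 false))) (.lin 0 false)) (.cut
  2 1 (.lin 0 true) (.cut 5 2 (.cut 6 4 (.cut 5 0 (.cut 6 1 (.lin 1 true) (.req 0 false)) (.req 0 true)) (.lin 1
  false)) (.req 0 true)))) (.lin 1 false)) (.req 0 true)) (.lin 1 false)) (.req 0 true)) (.lin 1 false)) (.req 0
  true))))) (.lin 1 false)) (.req 0 true))) (.lin 1 false)) (.req 0 true))) (.lin 1 false)) (.req 0 true)) (.lin 1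
  false)) (.req 0 true))) (.lin 1 false)) (.lin 0 false)) (.cut 6 2 (.lin 1 true) (.cut 2 2 (.lin 0 true) (.cut 5
  11 (.cut 5 0 (.req 0 false) (.cut 6 0 (.lin 1 true) (.cut 0 3 (.cut 2 3 (.cut 6 13 (.cut 5 5 (.cut 6 8 (.cut 5 1
  (.req 0 false) (.cut 5 2 (.cut 6 1 (.lin 1 true) (.cut 6 5 (.cut 0 1 (.cut 2 1 (.cut 6 3 (.cut 5 1 (.cut 6 2
  (.cut 5 0 (.req 0 false) (.cut 2 0 (.req 0 false) (.req 0 true))) (.lin 1 false)) (.req 0 true)) (.lin 1 false))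
  (.lin 0 false)) (.cut 2 1 (.lin 0 true) (.cut 5 0 (.cut 6 1 (.lin 1 true) (.req 0 false)) (.req 0 true)))) (.lin
  1 false))) (.req 0 true))) (.lin 1 false)) (.req 0 true)) (.lin 1 false)) (.lin 0 false)) (.cut 2 3 (.lin 0 true)
  (.cut 5 5 (.cut 6 3 (.lin 1 true) (tree14_27)) (.req 0 true)))))) (.req 0 true))))

/-- A certificate. -/
def tree14_29 : Tree :=
  .sign 4 (.cut 1 1 (.cut 2 2 (.lin 0 true) (.cut 1 0 (.req 0 true) (.cut 3 2 (.cut 5 0 (.req 0 false) (.cut 6 1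
  (.lin 1 true) (.cut 3 0 (.cut 5 0 (.req 0 false) (.cut 6 0 (.lin 1 true) (.cut 2 0 (.lin 0 true) (.cut 0 0 (.cut
  2 0 (.cut 6 4 (.cut 5 4 (.req 0 false) (.lin 1 true)) (.req 0 false)) (.lin 0 false)) (.cut 6 0 (.lin 1 true)
  (.cut 2 0 (.lin 0 true) (.cut 0 1 (.cut 2 1 (.cut 6 51 (.cut 5 51 (.cut 6 22 (.cut 5 22 (.cut 5 2 (.req 0 false)
  (.cut 6 12 (.cut 5 9 (.cut 6 6 (.cut 5 3 (.cut 6 2 (.lin 1 true) (.req 0 false)) (.lin 1 true)) (.req 0 false))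
  (.lin 1 true)) (.req 0 false))) (.lin 1 true)) (.req 0 false)) (.lin 1 true)) (.req 0 false)) (.lin 0 false))
  (.cut 6 1 (.lin 1 true) (.cut 2 1 (.lin 0 true) (.cut 5 76 (tree14_26) (.req 0 true))))))))))) (.req 0 false))))
  (.req 0 false)))) (.req 0 false)) (.cut 1 1 (.cut 2 2 (.lin 0 true) (.cut 1 0 (.req 0 true) (.cut 3 2 (.cut 5 0
  (.req 0 false) (.cut 6 1 (.lin 1 true) (.cut 3 0 (.cut 5 0 (.req 0 false) (.cut 6 0 (.lin 1 true) (.cut 2 0 (.lin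
  0 true) (.cut 0 0 (.cut 2 0 (.cut 6 4 (.cut 5 4 (.req 0 false) (.lin 1 true)) (.req 0 false)) (.lin 0 false))
  (.cut 6 0 (.lin 1 true) (.cut 2 0 (.lin 0 true) (.cut 0 1 (.cut 2 1 (.cut 6 51 (.cut 5 51 (.cut 6 22 (.cut 5 22
  (.cut 5 2 (.req 0 false) (.cut 6 12 (.cut 5 9 (.cut 6 6 (.cut 5 3 (.cut 6 2 (.lin 1 true) (.req 0 false)) (.lin 1
  true)) (.req 0 false)) (.lin 1 true)) (.req 0 false))) (.lin 1 true)) (.req 0 false)) (.lin 1 true)) (.req 0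
  false)) (.lin 0 false)) (.cut 6 1 (.lin 1 true) (.cut 2 1 (.lin 0 true) (.cut 5 76 (tree14_28) (.req 0
  true))))))))))) (.req 0 false)))) (.req 0 false)))) (.req 0 false))

/-- A certificate. -/
def tree14_30 : Tree :=
  .sign 0 (.sign 2 (.sign 5 (.sign 6 (.lin 1 false) (.sign 4 (.cut 1 1 (.cut 0 8 (.rlt 1) (.cut 6 9 (.lin 1 false)
  (.cut 0 110 (.rlt 1) (.cut 3 117 (.lin 0 false) (.cut 1 0 (.req 0 true) (.req 0 false)))))) (.req 0 false)) (.cut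
  1 1 (.cut 0 8 (.rlt 1) (.cut 6 9 (.lin 1 false) (.cut 0 110 (.rlt 1) (.cut 3 117 (.lin 0 false) (.cut 1 0 (.req 0
  true) (.req 0 false)))))) (.req 0 false)))) (.sign 6 (.sign 4 (.cut 1 1 (.cut 0 8 (.rlt 1) (.cut 5 9 (.lin 1
  false) (.cut 0 110 (.rlt 1) (.cut 3 117 (.lin 0 false) (.cut 1 0 (.req 0 true) (.req 0 false)))))) (.req 0
  false)) (.cut 1 1 (.cut 0 8 (.rlt 1) (.cut 5 9 (.lin 1 false) (.cut 0 110 (.rlt 1) (.cut 3 117 (.lin 0 false)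
  (.cut 1 0 (.req 0 true) (.req 0 false)))))) (.req 0 false))) (.sign 4 (.cut 1 1 (.cut 0 3 (.rlt 1) (.cut 1 0
  (.req 0 true) (.cut 3 0 (.lin 0 false) (.req 0 false)))) (.req 0 false)) (.cut 1 1 (.cut 0 3 (.rlt 1) (.cut 1 0
  (.req 0 true) (.cut 3 0 (.lin 0 false) (.req 0 false)))) (.req 0 false))))) (.sign 5 (.sign 6 (.lin 1 false)
  (tree14_12)) (.sign 6 (tree14_13) (.sign 4 (.cut 1 2 (.cut 0 3 (.rlt 1) (.cut 1 0 (.req 0 true) (tree14_14)))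
  (.req 0 false)) (.cut 1 2 (.cut 0 3 (.rlt 1) (.cut 1 0 (.req 0 true) (tree14_15))) (.req 0 false)))))) (.sign 2
  (.sign 5 (.sign 6 (.sign 4 (.cut 1 1 (.cut 2 2 (.lin 0 true) (.cut 1 0 (.req 0 true) (.cut 0 0 (.lin 1 false)
  (.cut 2 1 (.lin 0 true) (tree14_17))))) (.req 0 false)) (.cut 1 1 (.cut 2 2 (.lin 0 true) (.cut 1 0 (.req 0 true)
  (.cut 0 0 (.lin 1 false) (.cut 2 1 (.lin 0 true) (tree14_19))))) (.req 0 false))) (tree14_24)) (.sign 6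
  (tree14_29) (.lin 1 true))) (.lin 0 true))

/-- A certificate. -/
def tree14 : Tree :=
  .sign 1 (.req 0 false) (.sign 3 (.sign 0 (.sign 2 (.sign 5 (.sign 6 (.lin 1 false) (.sign 4 (.cut 1 0 (.lin 0
  false) (.req 0 false)) (.cut 1 0 (.lin 0 false) (.req 0 false)))) (.sign 6 (.sign 4 (.cut 1 0 (.lin 0 false)
  (.req 0 false)) (.cut 1 0 (.lin 0 false) (.req 0 false))) (.sign 4 (.cut 1 0 (.lin 0 false) (.req 0 false)) (.cut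
  1 0 (.lin 0 false) (.req 0 false))))) (.sign 5 (.sign 6 (.lin 1 false) (.sign 4 (.cut 1 1 (.cut 0 8 (.rlt 1)
  (.cut 6 9 (.lin 1 false) (.cut 0 110 (.rlt 1) (.cut 2 118 (.lin 0 false) (.cut 1 0 (.req 0 true) (.req 0
  false)))))) (.req 0 false)) (.cut 1 1 (.cut 0 8 (.rlt 1) (.cut 6 9 (.lin 1 false) (.cut 0 110 (.rlt 1) (.cut 2
  118 (.lin 0 false) (.cut 1 0 (.req 0 true) (.req 0 false)))))) (.req 0 false)))) (.sign 6 (.sign 4 (.cut 1 1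
  (.cut 0 8 (.rlt 1) (.cut 5 9 (.lin 1 false) (.cut 0 110 (.rlt 1) (.cut 2 118 (.lin 0 false) (.cut 1 0 (.req 0
  true) (.req 0 false)))))) (.req 0 false)) (.cut 1 1 (.cut 0 8 (.rlt 1) (.cut 5 9 (.lin 1 false) (.cut 0 110 (.rlt
  1) (.cut 2 118 (.lin 0 false) (.cut 1 0 (.req 0 true) (.req 0 false)))))) (.req 0 false))) (.sign 4 (.cut 1 1
  (.cut 0 3 (.rlt 1) (.cut 2 2 (.lin 0 false) (.cut 1 0 (.cut 3 0 (.cut 5 0 (.cut 6 0 (.lin 1 false) (.req 0 true))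
  (.req 0 true)) (.req 0 true)) (.req 0 false)))) (.req 0 false)) (.cut 1 1 (.cut 0 3 (.rlt 1) (.cut 2 2 (.lin 0
  false) (.cut 1 0 (.cut 3 0 (.cut 5 0 (.cut 6 0 (.lin 1 false) (.req 0 true)) (.req 0 true)) (.req 0 true)) (.req
  0 false)))) (.req 0 false)))))) (tree14_11)) (tree14_30))

theorem ok14 : certOK (keys.getD 14 []) tree14 = true := by decide +kernel

end CfsgLib.Recog.UFourSylow.Cert
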