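import Cfsg.Agent.Lib.Recog.UFourSylow.Cert.Key
import Cfsg.Agent.Lib.Recog.UFourSylow.Cert.Keys

set_option autoImplicit false
set_option maxRecDepth 100000

/-!
Certificates, part 2 (owner: helper25; generator: `notes/u34_cert_helper25`).
-/

namespace CfsgLib.Recog.UFourSylow.Cert

/-- A certificate. -/
def tree4 : Tree :=
  .sign 0 (.rlt 0) (.sign 1 (.rlt 0) (.sign 2 (.rlt 0) (.sign 3 (.rlt 0) (.lin 0 true))))

theorem ok4 : certOK (keys.getD 4 []) tree4 = true := by decide +kernel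

/-- A certificate. -/
def tree6 : Tree :=
  .sign 1 (.req 0 false) (.sign 0 (.sign 4 (.sign 5 (.lin 1 false) (.sign 2 (.sign 3 (.cut 1 0 (.lin 0 false) (.req
  0 false)) (.cut 1 0 (.req 0 true) (.req 0 false))) (.sign 3 (.cut 1 0 (.req 0 true) (.req 0 false)) (.cut 1 0
  (.req 0 true) (.req 0 false))))) (.req 1 false)) (.sign 5 (.sign 2 (.sign 3 (.sign 4 (.cut 1 1 (.cut 0 5 (.cut 2
  6 (.cut 3 6 (.cut 5 2 (.cut 4 5 (.cut 1 0 (.req 0 true) (.cut 5 0 (.cut 2 4 (.req 0 false) (.cut 3 1 (.req 0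
  false) (.lin 0 false))) (.req 0 false))) (.lin 2 true)) (.lin 1 false)) (.lin 0 false)) (.lin 0 false)) (.req 1
  false)) (.req 0 false)) (.cut 0 1 (.lin 2 false) (.req 1 false))) (.sign 4 (.cut 1 1 (.cut 0 6 (.cut 5 2 (.cut 2
  1 (.lin 0 true) (.cut 1 0 (.req 0 true) (.cut 5 0 (.req 0 true) (.req 0 false)))) (.lin 1 false)) (.req 1 false))
  (.req 0 false)) (.cut 0 1 (.cut 1 1 (.cut 0 0 (.lin 1 false) (.req 1 false)) (.req 0 false)) (.req 1 false))))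
  (.sign 3 (.sign 4 (.cut 1 1 (.cut 0 6 (.cut 5 2 (.cut 3 1 (.lin 0 true) (.cut 1 0 (.req 0 true) (.cut 5 0 (.req 0
  true) (.req 0 false)))) (.lin 1 false)) (.req 1 false)) (.req 0 false)) (.cut 0 1 (.cut 1 1 (.cut 0 0 (.lin 1
  false) (.req 1 false)) (.req 0 false)) (.req 1 false))) (.lin 0 true))) (.lin 1 true)))

theorem ok6 : certOK (keys.getD 6 []) tree6 = true := by decide +kernel

/-- A certificate. -/
def tree12 : Tree :=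
  .sign 0 (.rlt 0) (.sign 1 (.req 0 false) (.sign 2 (.req 0 false) (.sign 3 (.req 0 false) (.lin 0 true))))

theorem ok12 : certOK (keys.getD 12 []) tree12 = true := by decide +kernel

/-- A certificate. -/
def tree20_1 : Tree :=
  .sign 1 (.sign 2 (.sign 6 (.sign 3 (.sign 4 (.cut 0 0 (.lin 0 false) (.rlt 0)) (.cut 0 0 (.lin 0 false) (.rlt
  0))) (.sign 4 (.cut 0 0 (.cut 5 0 (.req 0 true) (.lin 1 false)) (.rlt 0)) (.cut 0 0 (.cut 5 0 (.req 0 true) (.lin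
  1 false)) (.rlt 0)))) (.sign 3 (.sign 4 (.cut 0 0 (.lin 0 false) (.rlt 0)) (.cut 0 0 (.lin 0 false) (.rlt 0)))
  (.sign 4 (.cut 0 0 (.cut 5 0 (.lin 1 true) (.req 0 false)) (.rlt 0)) (.cut 0 0 (.cut 5 0 (.lin 1 true) (.req 0
  false)) (.rlt 0))))) (.sign 6 (.sign 3 (.sign 4 (.cut 0 0 (.cut 5 0 (.req 0 true) (.lin 1 false)) (.rlt 0)) (.cut
  0 0 (.cut 5 0 (.req 0 true) (.lin 1 false)) (.rlt 0))) (.sign 4 (.cut 0 0 (.cut 5 0 (.req 0 true) (.lin 1 false))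
  (.rlt 0)) (.cut 0 0 (.cut 5 0 (.req 0 true) (.lin 1 false)) (.rlt 0)))) (.sign 3 (.sign 4 (.cut 0 0 (.cut 5 1
  (.lin 1 true) (.req 0 false)) (.rlt 0)) (.cut 0 0 (.cut 5 1 (.lin 1 true) (.req 0 false)) (.rlt 0))) (.sign 4
  (.cut 0 0 (.cut 5 1 (.lin 1 true) (.req 0 false)) (.rlt 0)) (.cut 0 0 (.cut 5 1 (.lin 1 true) (.req 0 false))
  (.rlt 0)))))) (.sign 2 (.sign 6 (.sign 3 (.sign 4 (.cut 0 0 (.cut 5 0 (.req 0 true) (.lin 1 false)) (.rlt 0))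
  (.cut 0 0 (.cut 5 0 (.req 0 true) (.lin 1 false)) (.rlt 0))) (.sign 4 (.cut 0 0 (.cut 5 0 (.req 0 true) (.lin 1
  false)) (.rlt 0)) (.cut 0 0 (.cut 5 0 (.req 0 true) (.lin 1 false)) (.rlt 0)))) (.sign 3 (.sign 4 (.cut 0 0 (.cut
  5 1 (.lin 1 true) (.req 0 false)) (.rlt 0)) (.cut 0 0 (.cut 5 1 (.lin 1 true) (.req 0 false)) (.rlt 0))) (.sign 4
  (.cut 0 0 (.cut 5 1 (.lin 1 true) (.req 0 false)) (.rlt 0)) (.cut 0 0 (.cut 5 1 (.lin 1 true) (.req 0 false))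
  (.rlt 0))))) (.sign 3 (.sign 6 (.sign 4 (.cut 0 2 (.cut 5 2 (.cut 6 2 (.cut 5 0 (.req 0 true) (.cut 3 1 (.lin 0
  true) (.cut 6 1 (.cut 0 0 (.lin 1 false) (.cut 1 5 (.cut 2 5 (.cut 3 12 (.cut 5 0 (.rlt 1) (.cut 1 0 (.cut 2 0
  (.req 0 true) (.req 0 false)) (.req 0 false))) (.lin 0 false)) (.rlt 0)) (.rlt 0))) (.lin 1 false)))) (.lin 1
  false)) (.lin 1 false)) (.rlt 0)) (.cut 0 2 (.cut 5 2 (.cut 6 2 (.cut 5 0 (.req 0 true) (.cut 3 1 (.lin 0 true)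
  (.cut 6 1 (.cut 0 0 (.lin 1 false) (.cut 1 5 (.cut 2 5 (.cut 3 12 (.cut 5 0 (.rlt 1) (.cut 1 0 (.cut 2 0 (.req 0
  true) (.req 0 false)) (.req 0 false))) (.lin 0 false)) (.rlt 0)) (.rlt 0))) (.lin 1 false)))) (.lin 1 false))
  (.lin 1 false)) (.rlt 0))) (.sign 4 (.cut 0 2 (.cut 5 2 (.lin 1 true) (.req 0 false)) (.rlt 0)) (.cut 0 2 (.cut 5
  2 (.lin 1 true) (.req 0 false)) (.rlt 0)))) (.lin 0 true)))

/-- A certificate. -/
def tree20 : Tree :=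
  .sign 0 (.rlt 0) (.sign 5 (tree20_1) (.req 0 false))

theorem ok20 : certOK (keys.getD 20 []) tree20 = true := by decide +kernel

/-- A certificate. -/
def tree23_1 : Tree :=
  .sign 4 (.cut 1 1 (.cut 5 5 (.rlt 1) (.cut 6 5 (.lin 1 false) (.cut 0 18 (.rlt 1) (.cut 5 41 (.rlt 1) (.cut 6 60
  (.lin 1 false) (.cut 5 433 (.rlt 1) (.cut 0 168 (.rlt 1) (.cut 6 602 (.lin 1 false) (.cut 0 1674 (.rlt 1) (.cut 5
  4287 (.rlt 1) (.cut 6 5962 (.lin 1 false) (.cut 5 42403 (.rlt 1) (.cut 0 16563 (.rlt 1) (.cut 6 58967 (.lin 1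
  false) (.cut 0 163799 (.rlt 1) (.cut 5 419327 (.rlt 1) (.cut 6 583127 (.lin 1 false) (.cut 0 1619799 (.rlt 1)
  (.cut 5 4146687 (.rlt 1) (.cut 6 5766487 (.lin 1 false) (.cut 0 16018021 (.rlt 1) (.cut 5 41006134 (.rlt 1) (.cut
  6 57024156 (.lin 1 false) (.cut 5 405505022 (.rlt 1) (.cut 0 158400398 (.rlt 1) (.cut 6 563905421 (.lin 1 false)
  (.cut 0 1566380711 (.rlt 1) (.cut 5 4009934620 (.rlt 1) (.cut 6 5576315332 (.lin 1 false) (.cut 5 39650361922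
  (.rlt 1) (.cut 0 15488422625 (.rlt 1) (.cut 6 55138784548 (.lin 1 false) (.cut 5 391608357297 (.rlt 1) (.cut 0
  152972014568 (.rlt 1) (.cut 6 544580371866 (.lin 1 false) (.cut 0 1495723670396 (.rlt 1) (.cut 5 3829052596213
  (.rlt 1) (.cut 6 5324776266610 (.lin 1 false) (.cut 5 35945938584260 (.rlt 1) (.cut 0 14041382259476 (.rlt 1)
  (.cut 6 49987320843737 (.lin 1 false) (.cut 5 241264265751990 (.rlt 1) (.cut 0 94243853809370 (.rlt 1) (.cut 6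
  335508119561361 (.lin 1 false) (.cut 1 0 (.req 0 true) (.cut 2 0 (.req 0 true) (.req 0
  false))))))))))))))))))))))))))))))))))))))))))))))) (.rlt 0)) (.cut 1 1 (.cut 5 5 (.rlt 1) (.cut 6 5 (.lin 1
  false) (.cut 0 18 (.rlt 1) (.cut 5 41 (.rlt 1) (.cut 6 60 (.lin 1 false) (.cut 5 433 (.rlt 1) (.cut 0 168 (.rlt
  1) (.cut 6 602 (.lin 1 false) (.cut 0 1674 (.rlt 1) (.cut 5 4287 (.rlt 1) (.cut 6 5962 (.lin 1 false) (.cut 5
  42403 (.rlt 1) (.cut 0 16563 (.rlt 1) (.cut 6 58967 (.lin 1 false) (.cut 0 163799 (.rlt 1) (.cut 5 419327 (.rlt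
  1) (.cut 6 583127 (.lin 1 false) (.cut 0 1619799 (.rlt 1) (.cut 5 4146687 (.rlt 1) (.cut 6 5766487 (.lin 1 false)
  (.cut 0 16018021 (.rlt 1) (.cut 5 41006134 (.rlt 1) (.cut 6 57024156 (.lin 1 false) (.cut 5 405505022 (.rlt 1)
  (.cut 0 158400398 (.rlt 1) (.cut 6 563905421 (.lin 1 false) (.cut 0 1566380711 (.rlt 1) (.cut 5 4009934620 (.rlt
  1) (.cut 6 5576315332 (.lin 1 false) (.cut 5 39650361922 (.rlt 1) (.cut 0 15488422625 (.rlt 1) (.cut 6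
  55138784548 (.lin 1 false) (.cut 5 391608357297 (.rlt 1) (.cut 0 152972014568 (.rlt 1) (.cut 6 544580371866 (.lin
  1 false) (.cut 0 1495723670396 (.rlt 1) (.cut 5 3829052596213 (.rlt 1) (.cut 6 5324776266610 (.lin 1 false) (.cut
  5 35945938584260 (.rlt 1) (.cut 0 14041382259476 (.rlt 1) (.cut 6 49987320843737 (.lin 1 false) (.cut 5
  241264265751990 (.rlt 1) (.cut 0 94243853809370 (.rlt 1) (.cut 6 335508119561361 (.lin 1 false) (.cut 1 0 (.req 0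
  true) (.cut 2 0 (.req 0 true) (.req 0 false))))))))))))))))))))))))))))))))))))))))))))))) (.rlt 0))

/-- A certificate. -/
def tree23_2 : Tree :=
  .cut 3 439866565 (.lin 0 true) (.cut 6 158351043 (.rlt 1) (.cut 5 1126051866 (.rlt 1) (.cut 0 1284402910 (.lin 1
  false) (.cut 3 1284402910 (.lin 0 true) (.cut 5 3287991394 (.rlt 1) (.cut 6 462373789 (.rlt 1) (.cut 0 3750365184
  (.lin 1 false) (.cut 3 3750365184 (.lin 0 true) (.cut 5 9600306577 (.rlt 1) (.cut 6 1350043112 (.rlt 1) (.cut 0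
  10950349690 (.lin 1 false) (.cut 3 10950349690 (.lin 0 true) (.cut 5 28027508094 (.rlt 1) (.cut 6 3941368324
  (.rlt 1) (.cut 0 31968876419 (.lin 1 false) (.cut 3 31968876419 (.lin 0 true) (.cut 6 11504247469 (.rlt 1) (.cut
  5 81807982003 (.rlt 1) (.cut 0 93312229473 (.lin 1 false) (.cut 3 93312229473 (.lin 0 true) (.cut 5 238757189108
  (.rlt 1) (.cut 6 33575229717 (.rlt 1) (.cut 0 272332418826 (.lin 1 false) (.cut 3 272332418826 (.lin 0 true)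
  (.cut 5 694983085839 (.rlt 1) (.cut 6 97731996445 (.rlt 1) (.cut 0 792715082285 (.lin 1 false) (.cut 3
  792715082285 (.lin 0 true) (.cut 6 281437595471 (.rlt 1) (.cut 5 2001334012243 (.rlt 1) (.cut 0 2282771607715
  (.lin 1 false) (.cut 3 2282771607715 (.lin 0 true) (.cut 5 5736582405787 (.rlt 1) (.cut 6 806706900813 (.rlt 1)
  (.cut 0 6543289306601 (.lin 1 false) (.cut 6 2361451109655 (.rlt 1) (.cut 5 16792541224214 (.rlt 1) (.cut 0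
  19153992333870 (.lin 1 false) (.cut 3 25697281640472 (.lin 0 true) (.cut 5 44780109931240 (.rlt 1) (.cut 6
  6297202959079 (.rlt 1) (.cut 0 51077312890320 (.lin 1 false) (.cut 3 51077312890320 (.lin 0 true) (.cut 1 0 (.req
  0 true) (.cut 2 0 (.req 0 true) (.req 0 false))))))))))))))))))))))))))))))))))))))))))))))

/-- A certificate. -/
def tree23_3 : Tree :=
  .cut 0 45 (.lin 1 false) (.cut 5 117 (.rlt 1) (.cut 3 45 (.lin 0 true) (.cut 6 15 (.rlt 1) (.cut 0 133 (.lin 1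
  false) (.cut 6 48 (.rlt 1) (.cut 5 342 (.rlt 1) (.cut 0 391 (.lin 1 false) (.cut 3 525 (.lin 0 true) (.cut 5 1003
  (.rlt 1) (.cut 6 140 (.rlt 1) (.cut 0 1144 (.lin 1 false) (.cut 5 2930 (.rlt 1) (.cut 3 1144 (.lin 0 true) (.cut
  6 411 (.rlt 1) (.cut 0 3342 (.lin 1 false) (.cut 5 8557 (.rlt 1) (.cut 3 3342 (.lin 0 true) (.cut 6 1202 (.rlt 1)
  (.cut 0 9760 (.lin 1 false) (.cut 5 24987 (.rlt 1) (.cut 6 3513 (.rlt 1) (.cut 0 28501 (.lin 1 false) (.cut 3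
  38262 (.lin 0 true) (.cut 6 10260 (.rlt 1) (.cut 5 72964 (.rlt 1) (.cut 0 83225 (.lin 1 false) (.cut 5 213058
  (.rlt 1) (.cut 3 83225 (.lin 0 true) (.cut 6 29960 (.rlt 1) (.cut 0 243019 (.lin 1 false) (.cut 6 87487 (.rlt 1)
  (.cut 5 622130 (.rlt 1) (.cut 0 709618 (.lin 1 false) (.cut 3 952638 (.lin 0 true) (.cut 5 1816624 (.rlt 1) (.cut
  6 255461 (.rlt 1) (.cut 0 2072086 (.lin 1 false) (.cut 6 745951 (.rlt 1) (.cut 5 5304541 (.rlt 1) (.cut 0 6050493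
  (.lin 1 false) (.cut 3 8122580 (.lin 0 true) (.cut 5 15489262 (.rlt 1) (.cut 6 2178176 (.rlt 1) (.cut 0 17667439
  (.lin 1 false) (.cut 3 17667439 (.lin 0 true) (.cut 6 6360276 (.rlt 1) (.cut 5 45228634 (.rlt 1) (.cut 0 51588911
  (.lin 1 false) (.cut 5 132067623 (.rlt 1) (.cut 6 18572009 (.rlt 1) (.cut 0 150639633 (.lin 1 false) (.cut 3
  202228545 (.lin 0 true) (.cut 5 385636441 (.rlt 1) (.cut 6 54230123 (.rlt 1) (.cut 0 439866565 (.lin 1 false)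
  (tree23_2))))))))))))))))))))))))))))))))))))))))))))))))))))))))

/-- A certificate. -/
def tree23_4 : Tree :=
  .cut 3 439866565 (.lin 0 true) (.cut 6 158351043 (.rlt 1) (.cut 5 1126051866 (.rlt 1) (.cut 0 1284402910 (.lin 1
  false) (.cut 3 1284402910 (.lin 0 true) (.cut 5 3287991394 (.rlt 1) (.cut 6 462373789 (.rlt 1) (.cut 0 3750365184
  (.lin 1 false) (.cut 3 3750365184 (.lin 0 true) (.cut 5 9600306577 (.rlt 1) (.cut 6 1350043112 (.rlt 1) (.cut 0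
  10950349690 (.lin 1 false) (.cut 3 10950349690 (.lin 0 true) (.cut 5 28027508094 (.rlt 1) (.cut 6 3941368324
  (.rlt 1) (.cut 0 31968876419 (.lin 1 false) (.cut 3 31968876419 (.lin 0 true) (.cut 6 11504247469 (.rlt 1) (.cut
  5 81807982003 (.rlt 1) (.cut 0 93312229473 (.lin 1 false) (.cut 3 93312229473 (.lin 0 true) (.cut 5 238757189108
  (.rlt 1) (.cut 6 33575229717 (.rlt 1) (.cut 0 272332418826 (.lin 1 false) (.cut 3 272332418826 (.lin 0 true)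
  (.cut 5 694983085839 (.rlt 1) (.cut 6 97731996445 (.rlt 1) (.cut 0 792715082285 (.lin 1 false) (.cut 3
  792715082285 (.lin 0 true) (.cut 6 281437595471 (.rlt 1) (.cut 5 2001334012243 (.rlt 1) (.cut 0 2282771607715
  (.lin 1 false) (.cut 3 2282771607715 (.lin 0 true) (.cut 5 5736582405787 (.rlt 1) (.cut 6 806706900813 (.rlt 1)
  (.cut 0 6543289306601 (.lin 1 false) (.cut 6 2361451109655 (.rlt 1) (.cut 5 16792541224214 (.rlt 1) (.cut 0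
  19153992333870 (.lin 1 false) (.cut 3 25697281640472 (.lin 0 true) (.cut 5 44780109931240 (.rlt 1) (.cut 6
  6297202959079 (.rlt 1) (.cut 0 51077312890320 (.lin 1 false) (.cut 3 51077312890320 (.lin 0 true) (.cut 1 0 (.req
  0 true) (.cut 2 0 (.req 0 true) (.req 0 false))))))))))))))))))))))))))))))))))))))))))))))

/-- A certificate. -/
def tree23_5 : Tree :=
  .cut 0 45 (.lin 1 false) (.cut 5 117 (.rlt 1) (.cut 3 45 (.lin 0 true) (.cut 6 15 (.rlt 1) (.cut 0 133 (.lin 1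
  false) (.cut 6 48 (.rlt 1) (.cut 5 342 (.rlt 1) (.cut 0 391 (.lin 1 false) (.cut 3 525 (.lin 0 true) (.cut 5 1003
  (.rlt 1) (.cut 6 140 (.rlt 1) (.cut 0 1144 (.lin 1 false) (.cut 5 2930 (.rlt 1) (.cut 3 1144 (.lin 0 true) (.cut
  6 411 (.rlt 1) (.cut 0 3342 (.lin 1 false) (.cut 5 8557 (.rlt 1) (.cut 3 3342 (.lin 0 true) (.cut 6 1202 (.rlt 1)
  (.cut 0 9760 (.lin 1 false) (.cut 5 24987 (.rlt 1) (.cut 6 3513 (.rlt 1) (.cut 0 28501 (.lin 1 false) (.cut 3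
  38262 (.lin 0 true) (.cut 6 10260 (.rlt 1) (.cut 5 72964 (.rlt 1) (.cut 0 83225 (.lin 1 false) (.cut 5 213058
  (.rlt 1) (.cut 3 83225 (.lin 0 true) (.cut 6 29960 (.rlt 1) (.cut 0 243019 (.lin 1 false) (.cut 6 87487 (.rlt 1)
  (.cut 5 622130 (.rlt 1) (.cut 0 709618 (.lin 1 false) (.cut 3 952638 (.lin 0 true) (.cut 5 1816624 (.rlt 1) (.cut
  6 255461 (.rlt 1) (.cut 0 2072086 (.lin 1 false) (.cut 6 745951 (.rlt 1) (.cut 5 5304541 (.rlt 1) (.cut 0 6050493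
  (.lin 1 false) (.cut 3 8122580 (.lin 0 true) (.cut 5 15489262 (.rlt 1) (.cut 6 2178176 (.rlt 1) (.cut 0 17667439
  (.lin 1 false) (.cut 3 17667439 (.lin 0 true) (.cut 6 6360276 (.rlt 1) (.cut 5 45228634 (.rlt 1) (.cut 0 51588911
  (.lin 1 false) (.cut 5 132067623 (.rlt 1) (.cut 6 18572009 (.rlt 1) (.cut 0 150639633 (.lin 1 false) (.cut 3
  202228545 (.lin 0 true) (.cut 5 385636441 (.rlt 1) (.cut 6 54230123 (.rlt 1) (.cut 0 439866565 (.lin 1 false)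
  (tree23_4))))))))))))))))))))))))))))))))))))))))))))))))))))))))

/-- A certificate. -/
def tree23_6 : Tree :=
  .sign 4 (.cut 1 1 (.cut 5 2 (.lin 1 true) (.cut 3 2 (.lin 0 true) (.cut 1 0 (.req 0 true) (.cut 2 2 (.cut 3 0
  (.lin 0 true) (.cut 5 1 (.cut 0 1 (.cut 3 3 (.cut 6 0 (.cut 2 0 (.req 0 true) (.cut 2 0 (.cut 5 0 (.req 0 true)
  (.req 0 false)) (.req 0 false))) (.req 0 true)) (.lin 0 false)) (.lin 1 true)) (.cut 2 0 (.cut 6 1 (.cut 5 4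
  (.req 0 true) (.cut 0 5 (.lin 1 false) (.cut 3 5 (.lin 0 true) (.cut 6 0 (.req 0 false) (.cut 3 7 (.cut 0 7 (.cut
  5 7 (.req 0 true) (.lin 1 false)) (.lin 0 true)) (.req 0 true)))))) (.req 0 true)) (.cut 0 1 (.cut 3 3 (.cut 5 5
  (.cut 6 7 (.cut 6 0 (.lin 1 false) (.cut 5 3 (.cut 6 4 (.cut 3 0 (.lin 0 true) (.cut 5 1 (.cut 6 2 (.cut 2 0
  (.cut 6 0 (.cut 5 0 (.req 0 true) (.lin 1 false)) (.req 0 true)) (.cut 0 0 (.cut 5 0 (.cut 6 1 (.req 0 false)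
  (.lin 1 true)) (.req 0 false)) (.rlt 0))) (.lin 1 true)) (.cut 2 0 (.cut 6 1 (.lin 1 false) (.cut 3 1 (.cut 6 1
  (.cut 5 0 (.req 0 true) (.req 0 false)) (.req 0 true)) (.lin 0 false))) (.req 0 false)))) (.lin 1 true)) (.req 0
  false))) (.lin 1 true)) (.req 0 false)) (.lin 0 false)) (.rlt 0))))) (.rlt 0))))) (.rlt 0)) (.cut 1 1 (.cut 5 2
  (.lin 1 true) (.cut 3 2 (.lin 0 true) (.cut 1 0 (.req 0 true) (.cut 2 2 (.cut 3 0 (.lin 0 true) (.cut 5 1 (.cut 0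
  1 (.cut 3 3 (.cut 6 0 (.cut 2 0 (.req 0 true) (.cut 2 0 (.cut 5 0 (.req 0 true) (.req 0 false)) (.req 0 false)))
  (.req 0 true)) (.lin 0 false)) (.lin 1 true)) (.cut 2 0 (.cut 6 1 (.cut 5 4 (.req 0 true) (.cut 0 5 (.lin 1
  false) (.cut 3 5 (.lin 0 true) (.cut 6 0 (.req 0 false) (.cut 3 7 (.cut 0 7 (.cut 5 7 (.req 0 true) (.lin 1
  false)) (.lin 0 true)) (.req 0 true)))))) (.req 0 true)) (.cut 0 1 (.cut 3 3 (.cut 5 5 (.cut 6 7 (.cut 6 0 (.lin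
  1 false) (.cut 5 3 (.cut 6 4 (.cut 3 0 (.lin 0 true) (.cut 5 1 (.cut 6 2 (.cut 2 0 (.cut 6 0 (.cut 5 0 (.req 0
  true) (.lin 1 false)) (.req 0 true)) (.cut 0 0 (.cut 5 0 (.cut 6 1 (.req 0 false) (.lin 1 true)) (.req 0 false))
  (.rlt 0))) (.lin 1 true)) (.cut 2 0 (.cut 6 1 (.lin 1 false) (.cut 3 1 (.cut 6 1 (.cut 5 0 (.req 0 true) (.req 0
  false)) (.req 0 true)) (.lin 0 false))) (.req 0 false)))) (.lin 1 true)) (.req 0 false))) (.lin 1 true)) (.req 0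
  false)) (.lin 0 false)) (.rlt 0))))) (.rlt 0))))) (.rlt 0))

/-- A certificate. -/
def tree23_7 : Tree :=
  .sign 3 (.sign 4 (.cut 1 1 (.cut 5 0 (.lin 1 false) (.cut 0 0 (.rlt 1) (.cut 1 0 (.req 0 true) (.cut 2 0 (.cut 0
  0 (.rlt 0) (.lin 0 false)) (.rlt 0))))) (.req 0 false)) (.cut 1 1 (.cut 5 0 (.lin 1 false) (.cut 0 0 (.rlt 1)
  (.cut 1 0 (.req 0 true) (.cut 2 0 (.cut 0 0 (.rlt 0) (.lin 0 false)) (.rlt 0))))) (.req 0 false))) (.sign 4 (.cut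
  1 1 (.cut 0 1 (.lin 0 true) (.cut 5 2 (.lin 1 false) (.cut 1 0 (.req 0 true) (.cut 2 0 (.cut 5 9 (.cut 0 9 (.cut
  3 8 (.cut 6 9 (.cut 0 1 (.rlt 0) (.cut 3 0 (.lin 0 false) (.cut 5 1 (.lin 1 false) (.cut 6 0 (.req 0 true) (.cut
  5 4 (.cut 6 3 (.cut 0 3 (.cut 3 3 (.cut 5 3 (.cut 0 2 (.cut 3 2 (.cut 6 2 (.cut 5 2 (.cut 6 0 (.cut 0 1 (.cut 3 1
  (.cut 5 1 (.req 0 false) (.req 0 true)) (.lin 0 true)) (.lin 1 false)) (.req 0 false)) (.req 0 true)) (.lin 1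
  false)) (.lin 0 true)) (.lin 1 false)) (.req 0 true)) (.lin 0 true)) (.lin 1 false)) (.lin 1 false)) (.req 0
  true)))))) (.lin 1 false)) (.lin 0 true)) (.lin 1 false)) (.req 0 true)) (.rlt 0))))) (.req 0 false)) (.cut 1 1
  (.cut 0 1 (.lin 0 true) (.cut 5 2 (.lin 1 false) (.cut 1 0 (.req 0 true) (.cut 2 0 (.cut 5 9 (.cut 0 9 (.cut 3 8
  (.cut 6 9 (.cut 0 1 (.rlt 0) (.cut 3 0 (.lin 0 false) (.cut 5 1 (.lin 1 false) (.cut 6 0 (.req 0 true) (.cut 5 4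
  (.cut 6 3 (.cut 0 3 (.cut 3 3 (.cut 5 3 (.cut 0 2 (.cut 3 2 (.cut 6 2 (.cut 5 2 (.cut 6 0 (.cut 0 1 (.cut 3 1
  (.cut 5 1 (.req 0 false) (.req 0 true)) (.lin 0 true)) (.lin 1 false)) (.req 0 false)) (.req 0 true)) (.lin 1
  false)) (.lin 0 true)) (.lin 1 false)) (.req 0 true)) (.lin 0 true)) (.lin 1 false)) (.lin 1 false)) (.req 0
  true)))))) (.lin 1 false)) (.lin 0 true)) (.lin 1 false)) (.req 0 true)) (.rlt 0))))) (.req 0 false)))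

/-- A certificate. -/
def tree23_8 : Tree :=
  .cut 6 0 (.cut 0 1150 (.cut 3 1150 (.cut 5 449 (.req 0 false) (.cut 0 449 (.lin 1 true) (.cut 3 449 (.lin 0
  false) (.cut 5 656 (.req 0 false) (.cut 0 656 (.lin 1 true) (.cut 3 656 (.lin 0 false) (.cut 5 25 (.cut 0 25
  (.cut 3 25 (.cut 5 24 (.req 0 false) (.req 0 true)) (.lin 0 true)) (.lin 1 false)) (.req 0 true)))))))) (.lin 0
  true)) (.lin 1 false)) (.cut 5 22 (.cut 0 0 (.lin 1 true) (.cut 3 0 (.lin 0 false) (.cut 6 1 (.cut 0 23 (.cut 3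
  23 (.cut 5 10 (.req 0 false) (.cut 6 0 (.cut 0 10 (.lin 1 true) (.cut 3 10 (.lin 0 false) (.cut 5 10 (.req 0
  false) (.req 0 true)))) (.req 0 true))) (.lin 0 true)) (.lin 1 false)) (.cut 5 7 (.cut 0 1 (.lin 1 true) (.cut 3
  1 (.lin 0 false) (.cut 6 0 (.req 0 false) (.cut 5 5 (.cut 6 0 (.req 0 false) (.cut 5 4 (.cut 6 0 (.req 0 false)
  (.cut 5 3 (.cut 0 2 (.lin 1 true) (.cut 3 2 (.lin 0 false) (.cut 6 0 (.req 0 false) (.cut 0 0 (.lin 1 true) (.cut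
  3 0 (.lin 0 false) (.cut 6 0 (.req 0 false) (.cut 5 2 (.cut 6 2 (.req 0 false) (.cut 0 3 (.lin 1 true) (.cut 3 3
  (.lin 0 false) (.cut 6 6 (.cut 0 8 (.cut 3 8 (.cut 5 1 (.req 0 false) (.req 0 true)) (.lin 0 true)) (.lin 1
  false)) (.cut 5 1 (.cut 0 6 (.lin 1 true) (.cut 3 6 (.lin 0 false) (.cut 6 2 (.req 0 false) (.cut 0 2 (.lin 1
  true) (.cut 3 2 (.lin 0 false) (.cut 6 11 (.cut 0 12 (.cut 3 12 (.cut 5 0 (.req 0 false) (.cut 6 0 (.cut 0 1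
  (.cut 3 1 (.req 0 true) (.lin 0 true)) (.lin 1 false)) (.req 0 true))) (.lin 0 true)) (.lin 1 false)) (.cut 5 0
  (.cut 3 146 (.cut 0 146 (.cut 6 134 (.req 0 false) (.lin 1 true)) (.lin 0 false)) (.req 0 false)) (.req 0
  true)))))))) (.req 0 true)))))) (.req 0 true)))))))) (.req 0 true))) (.req 0 true))) (.req 0 true))))) (.req 0
  true))))) (.req 0 true))

/-- A certificate. -/
def tree23_9 : Tree :=
  .cut 6 0 (.cut 0 1150 (.cut 3 1150 (.cut 5 449 (.req 0 false) (.cut 0 449 (.lin 1 true) (.cut 3 449 (.lin 0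
  false) (.cut 5 656 (.req 0 false) (.cut 0 656 (.lin 1 true) (.cut 3 656 (.lin 0 false) (.cut 5 25 (.cut 0 25
  (.cut 3 25 (.cut 5 24 (.req 0 false) (.req 0 true)) (.lin 0 true)) (.lin 1 false)) (.req 0 true)))))))) (.lin 0
  true)) (.lin 1 false)) (.cut 5 22 (.cut 0 0 (.lin 1 true) (.cut 3 0 (.lin 0 false) (.cut 6 1 (.cut 0 23 (.cut 3
  23 (.cut 5 10 (.req 0 false) (.cut 6 0 (.cut 0 10 (.lin 1 true) (.cut 3 10 (.lin 0 false) (.cut 5 10 (.req 0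
  false) (.req 0 true)))) (.req 0 true))) (.lin 0 true)) (.lin 1 false)) (.cut 5 7 (.cut 0 1 (.lin 1 true) (.cut 3
  1 (.lin 0 false) (.cut 6 0 (.req 0 false) (.cut 5 5 (.cut 6 0 (.req 0 false) (.cut 5 4 (.cut 6 0 (.req 0 false)
  (.cut 5 3 (.cut 0 2 (.lin 1 true) (.cut 3 2 (.lin 0 false) (.cut 6 0 (.req 0 false) (.cut 0 0 (.lin 1 true) (.cut
  3 0 (.lin 0 false) (.cut 6 0 (.req 0 false) (.cut 5 2 (.cut 6 2 (.req 0 false) (.cut 0 3 (.lin 1 true) (.cut 3 3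
  (.lin 0 false) (.cut 6 6 (.cut 0 8 (.cut 3 8 (.cut 5 1 (.req 0 false) (.req 0 true)) (.lin 0 true)) (.lin 1
  false)) (.cut 5 1 (.cut 0 6 (.lin 1 true) (.cut 3 6 (.lin 0 false) (.cut 6 2 (.req 0 false) (.cut 0 2 (.lin 1
  true) (.cut 3 2 (.lin 0 false) (.cut 6 11 (.cut 0 12 (.cut 3 12 (.cut 5 0 (.req 0 false) (.cut 6 0 (.cut 0 1
  (.cut 3 1 (.req 0 true) (.lin 0 true)) (.lin 1 false)) (.req 0 true))) (.lin 0 true)) (.lin 1 false)) (.cut 5 0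
  (.cut 3 146 (.cut 0 146 (.cut 6 134 (.req 0 false) (.lin 1 true)) (.lin 0 false)) (.req 0 false)) (.req 0
  true)))))))) (.req 0 true)))))) (.req 0 true)))))))) (.req 0 true))) (.req 0 true))) (.req 0 true))))) (.req 0
  true))))) (.req 0 true))

/-- A certificate. -/
def tree23_10 : Tree :=
  .cut 2 0 (.cut 5 11 (.cut 6 1612 (.cut 0 1611 (.cut 3 1612 (.cut 5 6 (.req 0 false) (.cut 6 7 (.lin 1 true) (.cut
  5 2 (.req 0 false) (.cut 6 2 (.lin 1 true) (.cut 3 0 (.lin 0 true) (.cut 6 1439 (.cut 0 1439 (.cut 3 1439 (.cut 0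
  1 (.cut 3 1 (.cut 6 2 (.cut 5 0 (.cut 6 0 (.cut 0 0 (.cut 3 0 (.req 0 false) (.lin 0 false)) (.lin 1 true)) (.req
  0 false)) (.req 0 true)) (.lin 1 false)) (.lin 0 false)) (.cut 3 1 (.lin 0 true) (.cut 6 1 (.lin 1 true) (.cut 0
  2 (.cut 3 2 (.cut 6 3 (.cut 5 0 (.cut 6 0 (.cut 0 0 (.cut 3 0 (.req 0 false) (.lin 0 false)) (.lin 1 true)) (.req
  0 false)) (.req 0 true)) (.lin 1 false)) (.lin 0 false)) (.cut 3 2 (.lin 0 true) (.cut 6 2 (.lin 1 true) (.cut 0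
  3 (.cut 3 3 (.cut 6 4 (.cut 5 0 (.req 0 false) (.req 0 true)) (.lin 1 false)) (.lin 0 false)) (.cut 3 3 (.lin 0
  true) (.cut 6 3 (.lin 1 true) (.cut 5 0 (.req 0 false) (.cut 6 93 (.req 0 true) (.cut 0 92 (.lin 1 false) (.cut 3
  92 (.lin 0 true) (.cut 6 486 (.req 0 true) (.cut 0 486 (.lin 1 false) (.cut 3 486 (.lin 0 true) (.cut 6 636 (.req
  0 true) (.cut 0 636 (.lin 1 false) (.cut 3 636 (.lin 0 true) (.cut 6 168 (.req 0 true) (.cut 6 26 (.cut 0 168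
  (.lin 1 false) (.cut 0 26 (.cut 3 168 (.lin 0 true) (.cut 3 26 (.cut 6 24 (.cut 3 19 (.cut 0 19 (.cut 6 19 (.req
  0 true) (.lin 1 false)) (.lin 0 true)) (.req 0 true)) (.req 0 false)) (.lin 0 false))) (.lin 1 true))) (.req 0
  false)))))))))))))))))))))) (.lin 0 false)) (.lin 1 true)) (.req 0 false))))))) (.lin 0 false)) (.lin 1 true))
  (.req 0 false)) (.req 0 true)) (.req 0 false)

/-- A certificate. -/
def tree23_11 : Tree :=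
  .cut 2 0 (.cut 5 11 (.cut 6 1612 (.cut 0 1611 (.cut 3 1612 (.cut 5 6 (.req 0 false) (.cut 6 7 (.lin 1 true) (.cut
  5 2 (.req 0 false) (.cut 6 2 (.lin 1 true) (.cut 3 0 (.lin 0 true) (.cut 6 1439 (.cut 0 1439 (.cut 3 1439 (.cut 0
  1 (.cut 3 1 (.cut 6 2 (.cut 5 0 (.cut 6 0 (.cut 0 0 (.cut 3 0 (.req 0 false) (.lin 0 false)) (.lin 1 true)) (.req
  0 false)) (.req 0 true)) (.lin 1 false)) (.lin 0 false)) (.cut 3 1 (.lin 0 true) (.cut 6 1 (.lin 1 true) (.cut 0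
  2 (.cut 3 2 (.cut 6 3 (.cut 5 0 (.cut 6 0 (.cut 0 0 (.cut 3 0 (.req 0 false) (.lin 0 false)) (.lin 1 true)) (.req
  0 false)) (.req 0 true)) (.lin 1 false)) (.lin 0 false)) (.cut 3 2 (.lin 0 true) (.cut 6 2 (.lin 1 true) (.cut 0
  3 (.cut 3 3 (.cut 6 4 (.cut 5 0 (.req 0 false) (.req 0 true)) (.lin 1 false)) (.lin 0 false)) (.cut 3 3 (.lin 0
  true) (.cut 6 3 (.lin 1 true) (.cut 5 0 (.req 0 false) (.cut 6 93 (.req 0 true) (.cut 0 92 (.lin 1 false) (.cut 3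
  92 (.lin 0 true) (.cut 6 486 (.req 0 true) (.cut 0 486 (.lin 1 false) (.cut 3 486 (.lin 0 true) (.cut 6 636 (.req
  0 true) (.cut 0 636 (.lin 1 false) (.cut 3 636 (.lin 0 true) (.cut 6 168 (.req 0 true) (.cut 6 26 (.cut 0 168
  (.lin 1 false) (.cut 0 26 (.cut 3 168 (.lin 0 true) (.cut 3 26 (.cut 6 24 (.cut 3 19 (.cut 0 19 (.cut 6 19 (.req
  0 true) (.lin 1 false)) (.lin 0 true)) (.req 0 true)) (.req 0 false)) (.lin 0 false))) (.lin 1 true))) (.req 0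
  false)))))))))))))))))))))) (.lin 0 false)) (.lin 1 true)) (.req 0 false))))))) (.lin 0 false)) (.lin 1 true))
  (.req 0 false)) (.req 0 true)) (.req 0 false)

/-- A certificate. -/
def tree23_12 : Tree :=
  .sign 2 (.sign 0 (.sign 6 (.sign 3 (.sign 4 (.cut 1 0 (.lin 0 false) (.req 0 false)) (.cut 1 0 (.lin 0 false)
  (.req 0 false))) (.sign 4 (.cut 1 0 (.cut 5 0 (.lin 1 false) (.req 0 true)) (.req 0 false)) (.cut 1 0 (.cut 5 0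
  (.lin 1 false) (.req 0 true)) (.req 0 false)))) (.sign 3 (.sign 4 (.cut 1 0 (.lin 0 false) (.req 0 false)) (.cut
  1 0 (.lin 0 false) (.req 0 false))) (.sign 4 (.cut 1 0 (.cut 5 1 (.cut 0 0 (.lin 1 true) (.cut 5 0 (.req 0 false)
  (.cut 2 0 (.cut 6 0 (.req 0 false) (.req 0 true)) (.req 0 true)))) (.req 0 true)) (.req 0 false)) (.cut 1 0 (.cut
  5 1 (.cut 0 0 (.lin 1 true) (.cut 5 0 (.req 0 false) (.cut 2 0 (.cut 6 0 (.req 0 false) (.req 0 true)) (.req 0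
  true)))) (.req 0 true)) (.req 0 false))))) (.sign 6 (.sign 3 (.sign 4 (.cut 1 0 (.cut 5 0 (.req 0 false) (.req 0
  true)) (.req 0 false)) (.cut 1 0 (.cut 5 0 (.req 0 false) (.req 0 true)) (.req 0 false))) (.sign 4 (.cut 1 0
  (.cut 5 0 (.req 0 false) (.req 0 true)) (.req 0 false)) (.cut 1 0 (.cut 5 0 (.req 0 false) (.req 0 true)) (.req 0
  false)))) (.lin 1 true))) (.sign 0 (.sign 6 (tree23_7) (.sign 3 (.sign 4 (.cut 1 1 (.cut 0 0 (.lin 1 true) (.cut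
  5 0 (.req 0 false) (.cut 1 0 (.req 0 true) (.cut 2 0 (.cut 0 0 (.lin 1 true) (.lin 0 false)) (.req 0 false)))))
  (.req 0 false)) (.cut 1 1 (.cut 0 0 (.lin 1 true) (.cut 5 0 (.req 0 false) (.cut 1 0 (.req 0 true) (.cut 2 0
  (.cut 0 0 (.lin 1 true) (.lin 0 false)) (.req 0 false))))) (.req 0 false))) (.sign 4 (.cut 1 1 (.cut 0 1 (.lin 0
  true) (.cut 5 0 (.req 0 false) (.cut 1 0 (.req 0 true) (.cut 2 0 (.cut 5 8 (.req 0 false) (.cut 0 8 (.lin 1 true)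
  (.cut 3 7 (.lin 0 false) (.cut 6 0 (.req 0 false) (.cut 5 1152 (.cut 5 1 (.req 0 false) (.cut 0 2 (.lin 1 true)
  (.cut 3 2 (.lin 0 false) (tree23_8)))) (.req 0 true)))))) (.req 0 false))))) (.req 0 false)) (.cut 1 1 (.cut 0 1
  (.lin 0 true) (.cut 5 0 (.req 0 false) (.cut 1 0 (.req 0 true) (.cut 2 0 (.cut 5 8 (.req 0 false) (.cut 0 8 (.lin
  1 true) (.cut 3 7 (.lin 0 false) (.cut 6 0 (.req 0 false) (.cut 5 1152 (.cut 5 1 (.req 0 false) (.cut 0 2 (.lin 1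
  true) (.cut 3 2 (.lin 0 false) (tree23_9)))) (.req 0 true)))))) (.req 0 false))))) (.req 0 false))))) (.sign 3
  (.sign 6 (.sign 4 (.cut 1 1 (.cut 3 2 (.lin 0 true) (.cut 6 1 (.lin 1 true) (.cut 5 0 (.req 0 false) (.cut 1 0
  (.req 0 true) (tree23_10))))) (.req 0 false)) (.cut 1 1 (.cut 3 2 (.lin 0 true) (.cut 6 1 (.lin 1 true) (.cut 5 0
  (.req 0 false) (.cut 1 0 (.req 0 true) (tree23_11))))) (.req 0 false))) (.lin 1 true)) (.lin 0 true)))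

/-- A certificate. -/
def tree23 : Tree :=
  .sign 1 (.rlt 0) (.sign 5 (.sign 2 (.sign 0 (.sign 6 (.lin 1 false) (.sign 3 (.sign 4 (.cut 1 0 (.lin 0 false)
  (.rlt 0)) (.cut 1 0 (.lin 0 false) (.rlt 0))) (.sign 4 (.cut 1 0 (.req 0 true) (.rlt 0)) (.cut 1 0 (.req 0 true)
  (.rlt 0))))) (.sign 6 (.sign 3 (.sign 4 (.cut 1 0 (.req 0 true) (.rlt 0)) (.cut 1 0 (.req 0 true) (.rlt 0)))
  (.sign 4 (.cut 1 0 (.req 0 true) (.rlt 0)) (.cut 1 0 (.req 0 true) (.rlt 0)))) (.sign 3 (.sign 4 (.cut 1 0 (.req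
  0 true) (.rlt 0)) (.cut 1 0 (.req 0 true) (.rlt 0))) (.sign 4 (.cut 1 0 (.req 0 true) (.rlt 0)) (.cut 1 0 (.req 0
  true) (.rlt 0)))))) (.sign 0 (.sign 6 (.lin 1 false) (.sign 3 (.sign 4 (.cut 1 1 (.cut 5 5 (.rlt 1) (.cut 6 5
  (.lin 1 false) (.cut 0 18 (.rlt 1) (.cut 2 17 (.lin 0 false) (.cut 1 0 (.req 0 true) (.req 0 false)))))) (.rlt
  0)) (.cut 1 1 (.cut 5 5 (.rlt 1) (.cut 6 5 (.lin 1 false) (.cut 0 18 (.rlt 1) (.cut 2 17 (.lin 0 false) (.cut 1 0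
  (.req 0 true) (.req 0 false)))))) (.rlt 0))) (tree23_1))) (.sign 3 (.sign 6 (.sign 4 (.cut 1 1 (.cut 5 6 (.rlt 1)
  (.cut 3 2 (.lin 0 true) (.cut 0 5 (.lin 1 false) (.cut 5 14 (.rlt 1) (.cut 0 14 (.lin 1 false) (.cut 6 7 (.rlt 1)
  (.cut 3 20 (.lin 0 true) (.cut 5 37 (.rlt 1) (tree23_3))))))))) (.rlt 0)) (.cut 1 1 (.cut 5 6 (.rlt 1) (.cut 3 2
  (.lin 0 true) (.cut 0 5 (.lin 1 false) (.cut 5 14 (.rlt 1) (.cut 0 14 (.lin 1 false) (.cut 6 7 (.rlt 1) (.cut 3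
  20 (.lin 0 true) (.cut 5 37 (.rlt 1) (tree23_5))))))))) (.rlt 0))) (tree23_6)) (.lin 0 true)))) (tree23_12))

theorem ok23 : certOK (keys.getD 23 []) tree23 = true := by decide +kernel

/-- A certificate. -/
def tree26 : Tree :=
  .sign 0 (.rlt 0) (.sign 1 (.rlt 0) (.sign 2 (.rlt 0) (.sign 3 (.rlt 0) (.lin 0 true))))

theorem ok26 : certOK (keys.getD 26 []) tree26 = true := by decide +kernel

/-- A certificate. -/
def tree28 : Tree :=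
  .sign 1 (.req 0 false) (.sign 0 (.sign 4 (.lin 1 false) (.sign 2 (.sign 3 (.cut 1 0 (.lin 0 false) (.req 0
  false)) (.cut 1 0 (.req 0 true) (.req 0 false))) (.sign 3 (.cut 1 0 (.req 0 true) (.req 0 false)) (.cut 1 0 (.req
  0 true) (.req 0 false))))) (.sign 4 (.sign 2 (.sign 3 (.cut 1 1 (.cut 1 0 (.req 0 true) (.cut 0 5 (.cut 2 6 (.cut
  3 6 (.cut 4 0 (.cut 2 4 (.req 0 false) (.cut 3 1 (.req 0 false) (.lin 0 false))) (.req 0 false)) (.lin 0 false))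
  (.lin 0 false)) (.rlt 0))) (.req 0 false)) (.cut 1 1 (.cut 2 1 (.lin 0 true) (.cut 1 0 (.req 0 true) (.cut 0 5
  (.cut 4 0 (.req 0 true) (.req 0 false)) (.rlt 0)))) (.req 0 false))) (.sign 3 (.cut 1 1 (.cut 3 1 (.lin 0 true)
  (.cut 1 0 (.req 0 true) (.cut 0 5 (.cut 4 0 (.req 0 true) (.req 0 false)) (.rlt 0)))) (.req 0 false)) (.lin 0
  true))) (.lin 1 true)))

theorem ok28 : certOK (keys.getD 28 []) tree28 = true := by decide +kernel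

/-- A certificate. -/
def tree33_1 : Tree :=
  .sign 1 (.sign 2 (.sign 3 (.sign 4 (.sign 5 (.cut 0 0 (.lin 0 false) (.req 0 false)) (.cut 0 0 (.lin 0 false)
  (.req 0 false))) (.sign 5 (.cut 0 0 (.lin 0 false) (.req 0 false)) (.cut 0 0 (.lin 0 false) (.req 0 false))))
  (.sign 4 (.sign 5 (.cut 0 0 (.lin 0 false) (.req 0 false)) (.cut 0 0 (.lin 0 false) (.req 0 false))) (.sign 5
  (.cut 0 0 (.lin 0 false) (.req 0 false)) (.lin 1 true)))) (.sign 3 (.sign 4 (.sign 5 (.cut 0 1 (.lin 1 false)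
  (.rlt 0)) (.cut 0 1 (.cut 3 1 (.lin 2 true) (.cut 5 4 (.lin 1 false) (.cut 1 4 (.req 1 true) (.cut 3 5 (.lin 2
  true) (.cut 0 0 (.req 0 true) (.req 0 false)))))) (.req 0 false))) (.sign 5 (.cut 0 0 (.req 1 true) (.req 0
  false)) (.cut 0 0 (.req 1 true) (.req 0 false)))) (.sign 5 (.sign 4 (.cut 0 0 (.req 1 true) (.req 0 false)) (.cut
  0 0 (.req 1 true) (.req 0 false))) (.lin 2 true)))) (.sign 2 (.sign 3 (.sign 4 (.sign 5 (.cut 0 0 (.lin 1 false)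
  (.req 1 false)) (.cut 0 1 (.cut 1 0 (.req 0 true) (.cut 2 1 (.lin 0 true) (.cut 5 1 (.lin 2 false) (.cut 0 0
  (.req 0 true) (.req 1 false))))) (.req 1 false))) (.sign 5 (.cut 0 0 (.lin 2 false) (.req 1 false)) (.cut 0 1
  (.cut 1 0 (.req 0 true) (.cut 2 1 (.lin 0 true) (.cut 5 1 (.lin 2 false) (.cut 0 0 (.cut 1 0 (.req 0 true) (.req
  1 true)) (.req 1 false))))) (.req 1 false)))) (.sign 4 (.sign 5 (.cut 0 4 (.cut 1 0 (.req 0 true) (.cut 2 1 (.lin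
  0 true) (.cut 0 0 (.req 1 true) (.cut 1 2 (.cut 0 0 (.cut 2 4 (.cut 3 0 (.lin 2 false) (.req 1 false)) (.lin 0
  false)) (.req 1 false)) (.req 0 false))))) (.req 1 false)) (.cut 0 6 (.cut 4 1 (.lin 1 true) (.cut 1 0 (.req 0
  true) (.cut 2 1 (.lin 0 true) (.cut 0 0 (.req 1 true) (.cut 1 1 (.cut 0 0 (.cut 2 3 (.cut 1 0 (.req 1 false)
  (.req 0 false)) (.lin 0 false)) (.req 1 false)) (.req 0 false)))))) (.req 1 false))) (.sign 5 (.cut 0 4 (.cut 5 1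
  (.lin 1 true) (.cut 3 0 (.lin 2 false) (.cut 0 1 (.cut 1 0 (.req 0 true) (.cut 2 1 (.lin 0 true) (.cut 3 2 (.lin
  2 false) (.cut 5 7 (.lin 1 true) (.cut 3 7 (.lin 2 false) (.cut 0 0 (.req 1 true) (.req 1 false))))))) (.req 1
  false)))) (.req 1 false)) (.lin 1 true)))) (.lin 0 true))

/-- A certificate. -/
def tree33 : Tree :=
  .sign 0 (.sign 1 (.req 0 false) (.sign 2 (.req 1 false) (.sign 3 (.req 1 false) (.sign 4 (.sign 5 (.cut 1 1 (.req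
  1 false) (.req 0 false)) (.cut 1 1 (.req 1 false) (.req 0 false))) (.sign 5 (.cut 1 1 (.req 1 false) (.req 0
  false)) (.cut 1 1 (.req 1 false) (.req 0 false))))))) (tree33_1)

theorem ok33 : certOK (keys.getD 33 []) tree33 = true := by decide +kernel

/-- A certificate. -/
def tree40_1 : Tree :=
  .sign 3 (.cut 0 0 (.cut 5 40 (.cut 4 40 (.cut 5 5 (.req 0 false) (.cut 4 5 (.lin 1 true) (.cut 1 0 (.lin 0 true)
  (.cut 5 6 (.cut 4 6 (.cut 5 0 (.req 0 false) (.cut 1 36 (.cut 2 36 (.cut 4 0 (.lin 1 true) (.cut 1 34 (.cut 2 34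
  (.cut 1 33 (.cut 2 33 (.cut 1 1 (.cut 2 1 (.cut 5 1 (.req 0 false) (.cut 5 2 (.cut 4 4 (.cut 4 1 (.lin 1 true)
  (.cut 1 0 (.req 0 false) (.cut 5 0 (.req 0 false) (.req 0 true)))) (.lin 1 false)) (.req 0 true))) (.lin 0 true))
  (.cut 5 1 (.cut 4 1 (.cut 2 1 (.lin 0 false) (.cut 1 1 (.req 0 false) (.cut 2 1 (.lin 0 false) (.cut 1 21 (.cut 2
  21 (.cut 1 3 (.cut 2 3 (.cut 5 0 (.req 0 false) (.req 0 true)) (.lin 0 true)) (.cut 5 0 (.cut 4 0 (.cut 1 9 (.req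
  0 false) (.cut 2 13 (.lin 0 false) (.cut 1 4 (.req 0 false) (.req 0 true)))) (.lin 1 false)) (.req 0 true)))
  (.lin 0 true)) (.req 0 true))))) (.lin 1 false)) (.req 0 true))) (.lin 0 true)) (.req 0 true)) (.lin 0 true))
  (.req 0 true))) (.lin 0 true)) (.req 0 true))) (.lin 1 false)) (.req 0 true))))) (.lin 1 false)) (.req 0 true))
  (.req 0 false)) (.cut 0 0 (.cut 5 40 (.cut 4 40 (.cut 5 5 (.req 0 false) (.cut 4 5 (.lin 1 true) (.cut 1 0 (.lin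
  0 true) (.cut 5 6 (.cut 4 6 (.cut 5 0 (.req 0 false) (.cut 1 36 (.cut 2 36 (.cut 4 0 (.lin 1 true) (.cut 1 34
  (.cut 2 34 (.cut 1 33 (.cut 2 33 (.cut 1 1 (.cut 2 1 (.cut 5 1 (.req 0 false) (.cut 5 2 (.cut 4 4 (.cut 4 1 (.lin
  1 true) (.cut 1 0 (.req 0 false) (.cut 5 0 (.req 0 false) (.req 0 true)))) (.lin 1 false)) (.req 0 true))) (.lin
  0 true)) (.cut 5 1 (.cut 4 1 (.cut 2 1 (.lin 0 false) (.cut 1 1 (.req 0 false) (.cut 2 1 (.lin 0 false) (.cut 1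
  21 (.cut 2 21 (.cut 1 3 (.cut 2 3 (.cut 5 0 (.req 0 false) (.req 0 true)) (.lin 0 true)) (.cut 5 0 (.cut 4 0
  (.cut 1 9 (.req 0 false) (.cut 2 13 (.lin 0 false) (.cut 1 4 (.req 0 false) (.req 0 true)))) (.lin 1 false))
  (.req 0 true))) (.lin 0 true)) (.req 0 true))))) (.lin 1 false)) (.req 0 true))) (.lin 0 true)) (.req 0 true))
  (.lin 0 true)) (.req 0 true))) (.lin 0 true)) (.req 0 true))) (.lin 1 false)) (.req 0 true))))) (.lin 1 false))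
  (.req 0 true)) (.req 0 false))

/-- A certificate. -/
def tree40_2 : Tree :=
  .sign 5 (.sign 1 (.sign 4 (.sign 2 (.sign 3 (.cut 0 0 (.lin 0 false) (.rlt 0)) (.cut 0 0 (.lin 0 false) (.rlt
  0))) (.sign 3 (.cut 0 0 (.lin 1 false) (.rlt 0)) (.cut 0 0 (.lin 1 false) (.rlt 0)))) (.sign 2 (.sign 3 (.cut 0 0
  (.lin 0 false) (.rlt 0)) (.cut 0 0 (.lin 0 false) (.rlt 0))) (.sign 3 (.cut 0 0 (.req 0 true) (.rlt 0)) (.cut 0 0
  (.req 0 true) (.rlt 0))))) (.sign 2 (.sign 4 (.sign 3 (.cut 0 1 (.cut 4 0 (.cut 5 0 (.req 0 true) (.lin 1 false))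
  (.lin 1 false)) (.rlt 0)) (.cut 0 1 (.cut 4 0 (.cut 5 0 (.req 0 true) (.lin 1 false)) (.lin 1 false)) (.rlt 0)))
  (.sign 3 (.cut 0 1 (.cut 5 2 (.req 0 true) (.cut 0 0 (.req 0 true) (.cut 1 4 (.cut 2 7 (.cut 5 5 (.cut 4 5 (.cut
  2 2 (.lin 0 true) (.cut 5 0 (.req 0 true) (.cut 1 1 (.cut 2 1 (.cut 4 0 (.lin 1 false) (.cut 5 3 (.cut 1 0 (.req
  0 true) (.cut 5 0 (.req 0 true) (.req 0 false))) (.req 0 false))) (.lin 0 false)) (.req 0 false)))) (.lin 1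
  true)) (.req 0 false)) (.lin 0 false)) (.rlt 0)))) (.rlt 0)) (.cut 0 1 (.cut 5 2 (.req 0 true) (.cut 0 0 (.req 0
  true) (.cut 1 4 (.cut 2 7 (.cut 5 5 (.cut 4 5 (.cut 2 2 (.lin 0 true) (.cut 5 0 (.req 0 true) (.cut 1 1 (.cut 2 1
  (.cut 4 0 (.lin 1 false) (.cut 5 3 (.cut 1 0 (.req 0 true) (.cut 5 0 (.req 0 true) (.req 0 false))) (.req 0
  false))) (.lin 0 false)) (.req 0 false)))) (.lin 1 true)) (.req 0 false)) (.lin 0 false)) (.rlt 0)))) (.rlt 0))))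
  (.lin 0 true))) (.sign 4 (.sign 1 (.sign 2 (.sign 3 (.cut 0 0 (.lin 0 false) (.req 0 false)) (.cut 0 0 (.lin 0
  false) (.req 0 false))) (tree40_1)) (.sign 2 (.sign 3 (.cut 0 0 (.cut 5 7 (.cut 4 7 (.cut 5 2 (.req 0 false)
  (.cut 4 2 (.lin 1 true) (.cut 2 0 (.lin 0 true) (.cut 1 0 (.req 0 true) (.cut 5 1 (.req 0 false) (.cut 5 1 (.cut
  1 9 (.cut 2 10 (.cut 1 0 (.req 0 true) (.cut 2 1 (.lin 0 true) (.cut 4 1 (.lin 1 true) (.cut 4 1 (.cut 1 5 (.cut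
  2 5 (.cut 1 0 (.req 0 true) (.cut 2 0 (.lin 0 true) (.cut 5 0 (.req 0 false) (.cut 2 0 (.cut 1 0 (.req 0 true)
  (.lin 0 true)) (.req 0 true))))) (.lin 0 false)) (.req 0 false)) (.lin 1 false))))) (.lin 0 false)) (.req 0
  false)) (.req 0 true))))))) (.lin 1 false)) (.req 0 true)) (.req 0 false)) (.cut 0 0 (.cut 5 7 (.cut 4 7 (.cut 5
  2 (.req 0 false) (.cut 4 2 (.lin 1 true) (.cut 2 0 (.lin 0 true) (.cut 1 0 (.req 0 true) (.cut 5 1 (.req 0 false)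
  (.cut 5 1 (.cut 1 9 (.cut 2 10 (.cut 1 0 (.req 0 true) (.cut 2 1 (.lin 0 true) (.cut 4 1 (.lin 1 true) (.cut 4 1
  (.cut 1 5 (.cut 2 5 (.cut 1 0 (.req 0 true) (.cut 2 0 (.lin 0 true) (.cut 5 0 (.req 0 false) (.cut 2 0 (.cut 1 0
  (.req 0 true) (.lin 0 true)) (.req 0 true))))) (.lin 0 false)) (.req 0 false)) (.lin 1 false))))) (.lin 0 false))
  (.req 0 false)) (.req 0 true))))))) (.lin 1 false)) (.req 0 true)) (.req 0 false))) (.lin 0 true))) (.lin 1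
  true))

/-- A certificate. -/
def tree40 : Tree :=
  .sign 0 (.rlt 0) (tree40_2)

theorem ok40 : certOK (keys.getD 40 []) tree40 = true := by decide +kernel

/-- A certificate. -/
def tree41_1 : Tree :=
  .sign 5 (.sign 1 (.sign 4 (.sign 2 (.sign 3 (.cut 0 0 (.lin 0 false) (.rlt 0)) (.cut 0 0 (.lin 0 false) (.rlt
  0))) (.sign 3 (.cut 0 0 (.lin 1 false) (.rlt 0)) (.cut 0 0 (.lin 1 false) (.rlt 0)))) (.sign 2 (.sign 3 (.cut 0 0
  (.lin 0 false) (.rlt 0)) (.cut 0 0 (.lin 0 false) (.rlt 0))) (.sign 3 (.cut 0 0 (.cut 1 1 (.cut 2 0 (.cut 4 1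
  (.cut 5 2 (.req 0 true) (.lin 1 false)) (.req 0 true)) (.lin 0 true)) (.req 0 true)) (.rlt 0)) (.cut 0 0 (.cut 1
  1 (.cut 2 0 (.cut 4 1 (.cut 5 2 (.req 0 true) (.lin 1 false)) (.req 0 true)) (.lin 0 true)) (.req 0 true)) (.rlt
  0))))) (.sign 2 (.sign 4 (.sign 3 (.cut 0 1 (.cut 4 0 (.cut 5 0 (.req 0 true) (.lin 1 false)) (.lin 1 false))
  (.rlt 0)) (.cut 0 1 (.cut 4 0 (.cut 5 0 (.req 0 true) (.lin 1 false)) (.lin 1 false)) (.rlt 0))) (.sign 3 (.cut 0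
  1 (.cut 5 0 (.lin 1 true) (.cut 0 0 (.req 0 true) (.cut 1 1 (.cut 2 4 (.cut 5 1 (.cut 4 0 (.cut 1 0 (.cut 5 0
  (.lin 1 true) (.req 0 false)) (.req 0 false)) (.lin 1 true)) (.req 0 false)) (.lin 0 false)) (.req 0 false))))
  (.rlt 0)) (.cut 0 1 (.cut 5 0 (.lin 1 true) (.cut 0 0 (.req 0 true) (.cut 1 1 (.cut 2 4 (.cut 5 1 (.cut 4 0 (.cut
  1 0 (.cut 5 0 (.lin 1 true) (.req 0 false)) (.req 0 false)) (.lin 1 true)) (.req 0 false)) (.lin 0 false)) (.req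
  0 false)))) (.rlt 0)))) (.lin 0 true))) (.sign 4 (.sign 1 (.sign 2 (.sign 3 (.cut 0 0 (.lin 0 false) (.req 0
  false)) (.cut 0 0 (.lin 0 false) (.req 0 false))) (.sign 3 (.cut 0 0 (.cut 5 10 (.cut 4 11 (.cut 1 0 (.lin 0
  true) (.cut 5 2 (.cut 4 3 (.cut 5 1 (.cut 4 0 (.lin 1 true) (.cut 4 1 (.cut 5 0 (.req 0 false) (.cut 1 0 (.cut 2
  0 (.cut 4 0 (.lin 1 true) (.req 0 false)) (.lin 0 true)) (.req 0 true))) (.lin 1 false))) (.req 0 true)) (.lin 1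
  false)) (.req 0 true))) (.lin 1 false)) (.req 0 true)) (.req 0 false)) (.cut 0 0 (.cut 5 10 (.cut 4 11 (.cut 1 0
  (.lin 0 true) (.cut 5 2 (.cut 4 3 (.cut 5 1 (.cut 4 0 (.lin 1 true) (.cut 4 1 (.cut 5 0 (.req 0 false) (.cut 1 0
  (.cut 2 0 (.cut 4 0 (.lin 1 true) (.req 0 false)) (.lin 0 true)) (.req 0 true))) (.lin 1 false))) (.req 0 true))
  (.lin 1 false)) (.req 0 true))) (.lin 1 false)) (.req 0 true)) (.req 0 false)))) (.sign 2 (.sign 3 (.cut 0 0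
  (.cut 5 0 (.cut 4 1 (.cut 1 4 (.req 0 true) (.cut 2 5 (.lin 0 true) (.cut 4 0 (.lin 1 true) (.cut 1 1 (.req 0
  true) (.req 0 false))))) (.lin 1 false)) (.req 0 true)) (.req 0 false)) (.cut 0 0 (.cut 5 0 (.cut 4 1 (.cut 1 4
  (.req 0 true) (.cut 2 5 (.lin 0 true) (.cut 4 0 (.lin 1 true) (.cut 1 1 (.req 0 true) (.req 0 false))))) (.lin 1
  false)) (.req 0 true)) (.req 0 false))) (.lin 0 true))) (.lin 1 true))

/-- A certificate. -/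
def tree41 : Tree :=
  .sign 0 (.rlt 0) (tree41_1)

theorem ok41 : certOK (keys.getD 41 []) tree41 = true := by decide +kernel

/-- A certificate. -/
def tree43_1 : Tree :=
  .sign 5 (.sign 2 (.sign 4 (.sign 0 (.lin 1 false) (.sign 3 (.cut 1 0 (.req 0 true) (.rlt 0)) (.cut 1 0 (.req 0
  true) (.rlt 0)))) (.sign 0 (.sign 3 (.cut 1 0 (.lin 0 false) (.rlt 0)) (.cut 1 0 (.lin 0 false) (.rlt 0))) (.sign
  3 (.cut 1 0 (.req 0 true) (.rlt 0)) (.cut 1 0 (.req 0 true) (.rlt 0))))) (.sign 0 (.sign 4 (.lin 1 false) (.sign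
  3 (.cut 1 1 (.cut 5 10 (.rlt 1) (.cut 4 11 (.lin 1 false) (.cut 5 160 (.rlt 1) (.cut 4 160 (.lin 1 false) (.cut 0
  76 (.rlt 1) (.cut 2 153 (.lin 0 false) (.cut 1 0 (.req 0 true) (.req 0 false)))))))) (.rlt 0)) (.cut 1 1 (.cut 5
  10 (.rlt 1) (.cut 4 11 (.lin 1 false) (.cut 5 160 (.rlt 1) (.cut 4 160 (.lin 1 false) (.cut 0 76 (.rlt 1) (.cut 2
  153 (.lin 0 false) (.cut 1 0 (.req 0 true) (.req 0 false)))))))) (.rlt 0)))) (.lin 0 true))) (.sign 2 (.sign 4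
  (.sign 0 (.sign 3 (.cut 1 0 (.lin 0 false) (.req 0 false)) (.cut 1 0 (.lin 0 false) (.req 0 false))) (.sign 3
  (.cut 1 0 (.cut 5 2 (.cut 5 1 (.req 0 false) (.cut 2 0 (.lin 0 true) (.req 0 true))) (.req 0 true)) (.req 0
  false)) (.cut 1 0 (.cut 5 2 (.cut 5 1 (.req 0 false) (.cut 2 0 (.lin 0 true) (.req 0 true))) (.req 0 true)) (.req
  0 false)))) (.sign 0 (.sign 3 (.cut 1 0 (.lin 0 false) (.req 0 false)) (.cut 1 0 (.lin 0 false) (.req 0 false)))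
  (.lin 1 true))) (.sign 0 (.sign 4 (.sign 3 (.cut 1 1 (.cut 5 1 (.lin 1 false) (.cut 1 0 (.req 0 true) (.cut 2 0
  (.cut 0 0 (.rlt 0) (.lin 0 false)) (.rlt 0)))) (.req 0 false)) (.cut 1 1 (.cut 5 1 (.lin 1 false) (.cut 1 0 (.req
  0 true) (.cut 2 0 (.cut 0 0 (.rlt 0) (.lin 0 false)) (.rlt 0)))) (.req 0 false))) (.sign 3 (.cut 1 1 (.cut 5 1
  (.req 0 false) (.cut 0 1 (.lin 1 true) (.cut 2 3 (.lin 0 false) (.cut 1 0 (.cut 0 0 (.cut 2 1 (.req 0 true) (.lin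
  0 true)) (.req 0 true)) (.req 0 false))))) (.req 0 false)) (.cut 1 1 (.cut 5 1 (.req 0 false) (.cut 0 1 (.lin 1
  true) (.cut 2 3 (.lin 0 false) (.cut 1 0 (.cut 0 0 (.cut 2 1 (.req 0 true) (.lin 0 true)) (.req 0 true)) (.req 0
  false))))) (.req 0 false)))) (.lin 0 true)))

/-- A certificate. -/
def tree43 : Tree :=
  .sign 1 (.rlt 0) (tree43_1)

theorem ok43 : certOK (keys.getD 43 []) tree43 = true := by decide +kernel

end CfsgLib.Recog.UFourSylow.Cert
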