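import Cfsg.Agent.Lib.Recog.UFourSylow.Cert.Key
import Cfsg.Agent.Lib.Recog.UFourSylow.Cert.Keys

set_option autoImplicit false
set_option maxRecDepth 100000

/-!
Certificates, part 3 (owner: helper25; generator: `notes/u34_cert_helper25`).
-/

namespace CfsgLib.Recog.UFourSylow.Cert

/-- A certificate. -/
def tree2 : Tree :=
  .sign 0 (.rlt 0) (.sign 1 (.req 0 false) (.sign 2 (.req 0 false) (.sign 3 (.sign 4 (.sign 5 (.sign 6 (.sign 7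
  (.cut 0 2 (.lin 1 false) (.rlt 0)) (.cut 0 2 (.cut 1 0 (.cut 2 0 (.cut 3 4 (.cut 4 0 (.cut 5 0 (.req 0 true)
  (.req 0 false)) (.req 0 false)) (.lin 0 false)) (.req 0 false)) (.req 0 false)) (.rlt 0))) (.sign 7 (.cut 0 2
  (.cut 1 0 (.cut 2 0 (.cut 3 4 (.cut 4 0 (.cut 5 0 (.req 0 true) (.req 0 false)) (.req 0 false)) (.lin 0 false))
  (.req 0 false)) (.req 0 false)) (.rlt 0)) (.cut 0 2 (.cut 1 0 (.cut 2 0 (.cut 3 4 (.cut 4 0 (.cut 5 0 (.lin 1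
  true) (.req 0 false)) (.req 0 false)) (.lin 0 false)) (.req 0 false)) (.req 0 false)) (.rlt 0)))) (.req 0 false))
  (.req 0 false)) (.lin 0 true))))

theorem ok2 : certOK (keys.getD 2 []) tree2 = true := by decide +kernel

/-- A certificate. -/
def tree7 : Tree :=
  .sign 1 (.req 0 false) (.sign 0 (.sign 5 (.lin 1 false) (.sign 2 (.sign 3 (.sign 4 (.cut 1 0 (.lin 0 false) (.req
  0 false)) (.cut 1 0 (.lin 0 false) (.req 0 false))) (.sign 4 (.cut 1 0 (.req 0 true) (.req 0 false)) (.cut 1 0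
  (.req 0 true) (.req 0 false)))) (.sign 3 (.sign 4 (.cut 1 0 (.req 0 true) (.req 0 false)) (.cut 1 0 (.req 0 true)
  (.req 0 false))) (.sign 4 (.cut 1 0 (.req 0 true) (.req 0 false)) (.cut 1 0 (.req 0 true) (.req 0 false))))))
  (.sign 5 (.sign 2 (.sign 3 (.sign 4 (.cut 1 1 (.cut 1 0 (.req 0 true) (.cut 0 5 (.cut 2 6 (.cut 3 6 (.cut 5 0
  (.cut 2 4 (.req 0 false) (.cut 3 1 (.req 0 false) (.lin 0 false))) (.req 0 false)) (.lin 0 false)) (.lin 0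
  false)) (.rlt 0))) (.req 0 false)) (.cut 1 1 (.cut 1 0 (.req 0 true) (.cut 0 5 (.cut 2 6 (.cut 3 6 (.cut 5 0
  (.cut 2 4 (.req 0 false) (.cut 3 1 (.req 0 false) (.lin 0 false))) (.req 0 false)) (.lin 0 false)) (.lin 0
  false)) (.rlt 0))) (.req 0 false))) (.sign 4 (.cut 1 1 (.cut 2 1 (.lin 0 true) (.cut 1 0 (.req 0 true) (.cut 0 5
  (.cut 5 0 (.req 0 true) (.req 0 false)) (.rlt 0)))) (.req 0 false)) (.cut 1 1 (.cut 2 1 (.lin 0 true) (.cut 1 0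
  (.req 0 true) (.cut 0 5 (.cut 5 0 (.req 0 true) (.req 0 false)) (.rlt 0)))) (.req 0 false)))) (.sign 3 (.sign 4
  (.cut 1 1 (.cut 3 1 (.lin 0 true) (.cut 1 0 (.req 0 true) (.cut 0 5 (.cut 5 0 (.req 0 true) (.req 0 false)) (.rlt
  0)))) (.req 0 false)) (.cut 1 1 (.cut 3 1 (.lin 0 true) (.cut 1 0 (.req 0 true) (.cut 0 5 (.cut 5 0 (.req 0 true)
  (.req 0 false)) (.rlt 0)))) (.req 0 false))) (.lin 0 true))) (.lin 1 true)))

theorem ok7 : certOK (keys.getD 7 []) tree7 = true := by decide +kernel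

/-- A certificate. -/
def tree10 : Tree :=
  .req 0 false

theorem ok10 : certOK (keys.getD 10 []) tree10 = true := by decide +kernel

/-- A certificate. -/
def tree13 : Tree :=
  .req 0 false

theorem ok13 : certOK (keys.getD 13 []) tree13 = true := by decide +kernel

/-- A certificate. -/
def tree15_1 : Tree :=
  .sign 5 (.sign 6 (.sign 2 (.sign 3 (.sign 4 (.cut 1 1 (.cut 0 5 (.cut 2 6 (.cut 3 6 (.cut 5 4 (.cut 6 4 (.cut 4 7
  (.cut 1 0 (.req 0 true) (.cut 5 0 (.cut 6 0 (.cut 2 4 (.req 0 false) (.cut 3 1 (.req 0 false) (.lin 0 false)))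
  (.req 0 false)) (.req 0 false))) (.lin 2 true)) (.lin 1 false)) (.lin 1 false)) (.lin 0 false)) (.lin 0 false))
  (.req 1 false)) (.req 0 false)) (.cut 0 1 (.lin 2 false) (.req 1 false))) (.sign 4 (.cut 1 1 (.cut 0 6 (.cut 5 5
  (.cut 6 5 (.cut 2 1 (.lin 0 true) (.cut 1 0 (.req 0 true) (.cut 5 0 (.cut 6 0 (.req 0 true) (.req 0 false)) (.req
  0 false)))) (.lin 1 false)) (.lin 1 false)) (.req 1 false)) (.req 0 false)) (.cut 0 1 (.cut 1 1 (.cut 0 0 (.lin 1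
  false) (.req 1 false)) (.req 0 false)) (.req 1 false)))) (.sign 3 (.sign 4 (.cut 1 1 (.cut 0 6 (.cut 5 5 (.cut 6
  5 (.cut 3 1 (.lin 0 true) (.cut 1 0 (.req 0 true) (.cut 5 0 (.cut 6 0 (.req 0 true) (.req 0 false)) (.req 0
  false)))) (.lin 1 false)) (.lin 1 false)) (.req 1 false)) (.req 0 false)) (.cut 0 1 (.cut 1 1 (.cut 0 0 (.lin 1
  false) (.req 1 false)) (.req 0 false)) (.req 1 false))) (.lin 0 true))) (.sign 2 (.sign 3 (.sign 4 (.cut 1 0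
  (.req 0 true) (.req 0 false)) (.cut 0 3 (.cut 1 0 (.req 0 true) (.req 0 false)) (.req 1 false))) (.sign 4 (.cut 1
  0 (.req 0 true) (.req 0 false)) (.cut 0 3 (.cut 1 0 (.req 0 true) (.req 0 false)) (.req 1 false)))) (.sign 3
  (.sign 4 (.cut 1 0 (.req 0 true) (.req 0 false)) (.cut 0 3 (.cut 1 0 (.req 0 true) (.req 0 false)) (.req 1
  false))) (.lin 0 true)))) (.sign 6 (.sign 2 (.sign 3 (.sign 4 (.cut 1 0 (.req 0 true) (.req 0 false)) (.cut 0 3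
  (.cut 1 0 (.req 0 true) (.req 0 false)) (.req 1 false))) (.sign 4 (.cut 1 0 (.req 0 true) (.req 0 false)) (.cut 0
  3 (.cut 1 0 (.req 0 true) (.req 0 false)) (.req 1 false)))) (.sign 3 (.sign 4 (.cut 1 0 (.req 0 true) (.req 0
  false)) (.cut 0 3 (.cut 1 0 (.req 0 true) (.req 0 false)) (.req 1 false))) (.lin 0 true))) (.lin 1 true))

/-- A certificate. -/
def tree15 : Tree :=
  .sign 1 (.req 0 false) (.sign 0 (.sign 4 (.sign 5 (.sign 6 (.lin 1 false) (.sign 2 (.sign 3 (.cut 1 0 (.lin 0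
  false) (.req 0 false)) (.cut 1 0 (.req 0 true) (.req 0 false))) (.sign 3 (.cut 1 0 (.req 0 true) (.req 0 false))
  (.cut 1 0 (.req 0 true) (.req 0 false))))) (.sign 6 (.sign 2 (.sign 3 (.cut 1 0 (.lin 0 false) (.req 0 false))
  (.cut 1 0 (.req 0 true) (.req 0 false))) (.sign 3 (.cut 1 0 (.req 0 true) (.req 0 false)) (.cut 1 0 (.req 0 true)
  (.req 0 false)))) (.sign 2 (.sign 3 (.cut 1 0 (.lin 0 false) (.req 0 false)) (.cut 1 0 (.req 0 true) (.req 0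
  false))) (.sign 3 (.cut 1 0 (.req 0 true) (.req 0 false)) (.cut 1 0 (.req 0 true) (.req 0 false)))))) (.req 1
  false)) (tree15_1))

theorem ok15 : certOK (keys.getD 15 []) tree15 = true := by decide +kernel

/-- A certificate. -/
def tree17_1 : Tree :=
  .sign 6 (.sign 2 (.sign 3 (.sign 4 (.cut 1 1 (.cut 1 0 (.req 0 true) (.cut 0 5 (.cut 2 6 (.cut 3 6 (.cut 5 0
  (.cut 6 0 (.cut 2 4 (.req 0 false) (.cut 3 1 (.req 0 false) (.lin 0 false))) (.req 0 false)) (.req 0 false))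
  (.lin 0 false)) (.lin 0 false)) (.rlt 0))) (.req 0 false)) (.cut 1 1 (.cut 1 0 (.req 0 true) (.cut 0 5 (.cut 2 6
  (.cut 3 6 (.cut 5 0 (.cut 6 0 (.cut 2 4 (.req 0 false) (.cut 3 1 (.req 0 false) (.lin 0 false))) (.req 0 false))
  (.req 0 false)) (.lin 0 false)) (.lin 0 false)) (.rlt 0))) (.req 0 false))) (.sign 4 (.cut 1 1 (.cut 2 1 (.lin 0
  true) (.cut 1 0 (.req 0 true) (.cut 0 5 (.cut 5 0 (.cut 6 0 (.req 0 true) (.req 0 false)) (.req 0 false)) (.rlt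
  0)))) (.req 0 false)) (.cut 1 1 (.cut 2 1 (.lin 0 true) (.cut 1 0 (.req 0 true) (.cut 0 5 (.cut 5 0 (.cut 6 0
  (.req 0 true) (.req 0 false)) (.req 0 false)) (.rlt 0)))) (.req 0 false)))) (.sign 3 (.sign 4 (.cut 1 1 (.cut 3 1
  (.lin 0 true) (.cut 1 0 (.req 0 true) (.cut 0 5 (.cut 5 0 (.cut 6 0 (.req 0 true) (.req 0 false)) (.req 0 false))
  (.rlt 0)))) (.req 0 false)) (.cut 1 1 (.cut 3 1 (.lin 0 true) (.cut 1 0 (.req 0 true) (.cut 0 5 (.cut 5 0 (.cut 6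
  0 (.req 0 true) (.req 0 false)) (.req 0 false)) (.rlt 0)))) (.req 0 false))) (.lin 0 true))) (.sign 2 (.sign 3
  (.sign 4 (.cut 1 0 (.req 0 true) (.req 0 false)) (.cut 1 0 (.req 0 true) (.req 0 false))) (.sign 4 (.cut 1 0
  (.req 0 true) (.req 0 false)) (.cut 1 0 (.req 0 true) (.req 0 false)))) (.sign 3 (.sign 4 (.cut 1 0 (.req 0 true)
  (.req 0 false)) (.cut 1 0 (.req 0 true) (.req 0 false))) (.lin 0 true)))

/-- A certificate. -/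
def tree17_2 : Tree :=
  .sign 0 (.sign 5 (.sign 6 (.lin 1 false) (.sign 2 (.sign 3 (.sign 4 (.cut 1 0 (.lin 0 false) (.req 0 false))
  (.cut 1 0 (.lin 0 false) (.req 0 false))) (.sign 4 (.cut 1 0 (.req 0 true) (.req 0 false)) (.cut 1 0 (.req 0
  true) (.req 0 false)))) (.sign 3 (.sign 4 (.cut 1 0 (.req 0 true) (.req 0 false)) (.cut 1 0 (.req 0 true) (.req 0
  false))) (.sign 4 (.cut 1 0 (.req 0 true) (.req 0 false)) (.cut 1 0 (.req 0 true) (.req 0 false)))))) (.sign 6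
  (.sign 2 (.sign 3 (.sign 4 (.cut 1 0 (.lin 0 false) (.req 0 false)) (.cut 1 0 (.lin 0 false) (.req 0 false)))
  (.sign 4 (.cut 1 0 (.req 0 true) (.req 0 false)) (.cut 1 0 (.req 0 true) (.req 0 false)))) (.sign 3 (.sign 4
  (.cut 1 0 (.req 0 true) (.req 0 false)) (.cut 1 0 (.req 0 true) (.req 0 false))) (.sign 4 (.cut 1 0 (.req 0 true)
  (.req 0 false)) (.cut 1 0 (.req 0 true) (.req 0 false))))) (.sign 2 (.sign 3 (.sign 4 (.cut 1 0 (.lin 0 false)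
  (.req 0 false)) (.cut 1 0 (.lin 0 false) (.req 0 false))) (.sign 4 (.cut 1 0 (.req 0 true) (.req 0 false)) (.cut
  1 0 (.req 0 true) (.req 0 false)))) (.sign 3 (.sign 4 (.cut 1 0 (.req 0 true) (.req 0 false)) (.cut 1 0 (.req 0
  true) (.req 0 false))) (.sign 4 (.cut 1 0 (.req 0 true) (.req 0 false)) (.cut 1 0 (.req 0 true) (.req 0
  false))))))) (.sign 5 (tree17_1) (.sign 6 (.sign 2 (.sign 3 (.sign 4 (.cut 1 0 (.req 0 true) (.req 0 false))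
  (.cut 1 0 (.req 0 true) (.req 0 false))) (.sign 4 (.cut 1 0 (.req 0 true) (.req 0 false)) (.cut 1 0 (.req 0 true)
  (.req 0 false)))) (.sign 3 (.sign 4 (.cut 1 0 (.req 0 true) (.req 0 false)) (.cut 1 0 (.req 0 true) (.req 0
  false))) (.lin 0 true))) (.lin 1 true)))

/-- A certificate. -/
def tree17 : Tree :=
  .sign 1 (.req 0 false) (tree17_2)

theorem ok17 : certOK (keys.getD 17 []) tree17 = true := by decide +kernel

/-- A certificate. -/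
def tree21 : Tree :=
  .req 0 false

theorem ok21 : certOK (keys.getD 21 []) tree21 = true := by decide +kernel

/-- A certificate. -/
def tree25 : Tree :=
  .sign 0 (.rlt 0) (.sign 1 (.rlt 0) (.sign 2 (.rlt 0) (.sign 3 (.rlt 0) (.lin 0 true))))

theorem ok25 : certOK (keys.getD 25 []) tree25 = true := by decide +kernel

/-- A certificate. -/
def tree27_1 : Tree :=
  .cut 1 0 (.req 0 true) (.cut 0 0 (.lin 1 false) (.cut 3 1 (.lin 0 true) (.cut 2 0 (.cut 1 0 (.cut 3 2 (.cut 0 2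
  (.cut 4 1 (.req 0 true) (.lin 1 false)) (.lin 0 true)) (.req 0 true)) (.cut 0 4 (.cut 3 5 (.req 0 false) (.lin 0
  false)) (.rlt 0))) (.cut 0 14 (.cut 1 0 (.cut 4 1 (.cut 0 2 (.cut 3 0 (.lin 0 true) (.cut 2 0 (.cut 3 2 (.cut 4 0
  (.req 0 true) (.req 0 false)) (.lin 0 false)) (.cut 4 0 (.cut 0 0 (.cut 3 102 (.cut 2 101 (.cut 3 68 (.cut 2 67
  (.cut 3 58 (.cut 2 57 (.cut 3 0 (.lin 0 true) (.cut 2 0 (.req 0 true) (.cut 3 1 (.req 0 false) (.cut 2 0 (.lin 0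
  false) (.cut 3 0 (.req 0 false) (.cut 2 0 (.lin 0 false) (.cut 3 1 (.req 0 false) (.cut 2 1 (.lin 0 false) (.cut
  3 3 (.req 0 false) (.cut 2 3 (.lin 0 false) (.cut 3 5 (.req 0 false) (.cut 2 5 (.lin 0 false) (.cut 3 7 (.req 0
  false) (.cut 2 7 (.lin 0 false) (.cut 3 7 (.req 0 false) (.cut 2 7 (.lin 0 false) (.cut 3 6 (.req 0 false) (.cut
  3 15 (.cut 2 6 (.lin 0 false) (.cut 2 15 (.cut 3 13 (.cut 2 13 (.cut 3 4 (.req 0 false) (.cut 3 7 (.cut 2 4 (.lin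
  0 false) (.cut 2 7 (.cut 3 6 (.cut 2 5 (.cut 3 5 (.cut 2 3 (.cut 3 3 (.cut 2 0 (.cut 3 0 (.req 0 false) (.lin 0
  false)) (.req 0 false)) (.lin 0 false)) (.req 0 false)) (.lin 0 false)) (.req 0 false)) (.req 0 true)) (.lin 0
  true))) (.req 0 true))) (.lin 0 true)) (.req 0 true)) (.lin 0 true))) (.req 0 true))))))))))))))))))) (.lin 0
  true)) (.req 0 true)) (.lin 0 true)) (.req 0 true)) (.lin 0 true)) (.req 0 true)) (.lin 1 true)) (.req 0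
  false)))) (.lin 1 true)) (.req 0 false)) (.req 0 false)) (.rlt 0)))))

/-- A certificate. -/
def tree27_2 : Tree :=
  .cut 0 5949104 (.rlt 1) (.cut 4 2974552 (.lin 1 false) (.cut 0 16525294 (.rlt 1) (.cut 4 8262646 (.lin 1 false)
  (.cut 0 45903585 (.rlt 1) (.cut 4 22951792 (.lin 1 false) (.cut 0 127509903 (.rlt 1) (.cut 4 63754951 (.lin 1
  false) (.cut 0 354194242 (.rlt 1) (.cut 4 177097121 (.lin 1 false) (.cut 0 983871605 (.rlt 1) (.cut 4 491935802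
  (.lin 1 false) (.cut 0 2732938168 (.rlt 1) (.cut 4 1366469083 (.lin 1 false) (.cut 0 7591368363 (.rlt 1) (.cut 4
  3795684181 (.lin 1 false) (.cut 0 21085029891 (.rlt 1) (.cut 4 10542514945 (.lin 1 false) (.cut 0 58564942971
  (.rlt 1) (.cut 4 29282471485 (.lin 1 false) (.cut 0 162563897736 (.rlt 1) (.cut 4 81281948868 (.lin 1 false)
  (.cut 0 450739668765 (.rlt 1) (.cut 4 225369834382 (.lin 1 false) (.cut 0 1249872192257 (.rlt 1) (.cut 4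
  624936096128 (.lin 1 false) (.cut 0 3474999712477 (.rlt 1) (.cut 4 1737499856238 (.lin 1 false) (.cut 0
  9230467986266 (.rlt 1) (.cut 4 4615233993132 (.lin 1 false) (.cut 0 25322085973022 (.rlt 1) (.cut 4
  12661042986511 (.lin 1 false) (.cut 0 69968921767563 (.rlt 1) (.cut 4 34984460883781 (.lin 1 false) (.cut 1 0
  (.req 0 true) (.cut 0 109951162777599 (.rlt 1) (.cut 4 54975581388799 (.lin 1 false) (.cut 0 219902325555199
  (.rlt 1) (.cut 4 109951162777599 (.lin 1 false) (.cut 2 0 (.cut 3 439804651110394 (.lin 0 false) (.cut 1 0 (.req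
  0 true) (.req 0 false))) (.cut 1 0 (.cut 3 4 (.cut 2 439804651110390 (.lin 0 false) (.cut 3 0 (.req 0 true) (.req
  0 false))) (.req 0 false)) (.req 0 false)))))))))))))))))))))))))))))))))))))))))

/-- A certificate. -/
def tree27_3 : Tree :=
  .sign 0 (.sign 4 (.lin 1 false) (.sign 2 (.cut 1 1 (.cut 0 3 (.rlt 1) (.cut 4 1 (.lin 1 false) (.cut 0 10 (.rlt
  1) (.cut 3 12 (.lin 0 false) (.cut 1 0 (.req 0 true) (.req 0 false)))))) (.req 0 false)) (.cut 1 2 (.cut 0 3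
  (.rlt 1) (.cut 4 1 (.lin 1 false) (.cut 0 10 (.rlt 1) (.cut 4 4 (.lin 1 false) (.cut 0 27 (.rlt 1) (.cut 4 13
  (.lin 1 false) (.cut 0 77 (.rlt 1) (.cut 4 38 (.lin 1 false) (.cut 0 216 (.rlt 1) (.cut 4 108 (.lin 1 false)
  (.cut 0 604 (.rlt 1) (.cut 4 301 (.lin 1 false) (.cut 0 1677 (.rlt 1) (.cut 4 838 (.lin 1 false) (.cut 0 4660
  (.rlt 1) (.cut 4 2330 (.lin 1 false) (.cut 0 12949 (.rlt 1) (.cut 4 6474 (.lin 1 false) (.cut 0 35971 (.rlt 1)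
  (.cut 4 17985 (.lin 1 false) (.cut 0 99922 (.rlt 1) (.cut 4 49960 (.lin 1 false) (.cut 0 277560 (.rlt 1) (.cut 4
  138780 (.lin 1 false) (.cut 0 771004 (.rlt 1) (.cut 4 385501 (.lin 1 false) (.cut 0 2141677 (.rlt 1) (.cut 4
  1070838 (.lin 1 false) (tree27_2))))))))))))))))))))))))))))) (.req 0 false)))) (.sign 2 (.sign 4 (.cut 1 1 (.cut
  2 2 (.lin 0 true) (.cut 1 0 (.req 0 true) (.cut 0 0 (.lin 1 false) (.cut 2 1 (.lin 0 true) (.cut 3 1 (.cut 4 1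
  (.req 0 true) (.cut 0 3 (.lin 1 false) (.cut 2 3 (.lin 0 true) (.cut 3 0 (.req 0 true) (.cut 0 24 (.cut 2 25
  (.cut 4 1 (.cut 0 2 (.cut 2 3 (.cut 4 0 (.req 0 true) (.req 0 false)) (.lin 0 false)) (.lin 1 true)) (.req 0
  false)) (.lin 0 false)) (.rlt 0)))))) (.cut 0 14 (.cut 4 1 (.cut 0 2 (.cut 2 1 (.lin 0 true) (.cut 3 0 (.req 0
  true) (.cut 2 0 (.lin 0 true) (.cut 3 2 (.cut 2 4 (.cut 4 0 (.req 0 true) (.req 0 false)) (.lin 0 false)) (.cut 4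
  0 (.cut 0 0 (.cut 2 38 (.cut 3 35 (.cut 2 4 (.cut 3 1 (.req 0 true) (.lin 0 true)) (.req 0 true)) (.lin 0 true))
  (.req 0 true)) (.lin 1 true)) (.req 0 false)))))) (.lin 1 true)) (.req 0 false)) (.rlt 0))))))) (.req 0 false))
  (.lin 1 true)) (.lin 0 true))

/-- A certificate. -/
def tree27 : Tree :=
  .sign 1 (.req 0 false) (.sign 3 (.sign 0 (.sign 4 (.lin 1 false) (.sign 2 (.cut 1 0 (.lin 0 false) (.req 0
  false)) (.cut 1 1 (.cut 0 3 (.rlt 1) (.cut 2 2 (.lin 0 false) (.cut 1 0 (.cut 3 0 (.cut 4 0 (.lin 1 false) (.req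
  0 true)) (.req 0 true)) (.req 0 false)))) (.req 0 false)))) (.sign 4 (.sign 2 (.cut 1 1 (.cut 1 0 (.req 0 true)
  (.cut 0 5 (.cut 2 6 (.req 0 false) (.lin 0 false)) (.rlt 0))) (.req 0 false)) (.cut 1 2 (.cut 3 1 (.lin 0 true)
  (tree27_1)) (.req 0 false))) (.lin 1 true))) (tree27_3))

theorem ok27 : certOK (keys.getD 27 []) tree27 = true := by decide +kernel

/-- A certificate. -/
def tree29 : Tree :=
  .req 0 false

theorem ok29 : certOK (keys.getD 29 []) tree29 = true := by decide +kernel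

/-- A certificate. -/
def tree30_1 : Tree :=
  .cut 1 0 (.req 0 true) (.cut 0 0 (.lin 1 false) (.cut 3 1 (.lin 0 true) (.cut 2 0 (.cut 1 0 (.cut 3 2 (.cut 0 2
  (.cut 4 1 (.req 0 true) (.lin 1 false)) (.lin 0 true)) (.req 0 true)) (.cut 0 4 (.cut 3 5 (.req 0 false) (.lin 0
  false)) (.rlt 0))) (.cut 0 14 (.cut 1 0 (.cut 4 1 (.cut 0 2 (.cut 3 0 (.lin 0 true) (.cut 2 0 (.cut 3 2 (.cut 4 0
  (.req 0 true) (.req 0 false)) (.lin 0 false)) (.cut 4 0 (.cut 0 0 (.cut 3 102 (.cut 2 101 (.cut 3 68 (.cut 2 67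
  (.cut 3 58 (.cut 2 57 (.cut 3 0 (.lin 0 true) (.cut 2 0 (.req 0 true) (.cut 3 1 (.req 0 false) (.cut 2 0 (.lin 0
  false) (.cut 3 0 (.req 0 false) (.cut 2 0 (.lin 0 false) (.cut 3 1 (.req 0 false) (.cut 2 1 (.lin 0 false) (.cut
  3 3 (.req 0 false) (.cut 2 3 (.lin 0 false) (.cut 3 5 (.req 0 false) (.cut 2 5 (.lin 0 false) (.cut 3 7 (.req 0
  false) (.cut 2 7 (.lin 0 false) (.cut 3 7 (.req 0 false) (.cut 2 7 (.lin 0 false) (.cut 3 6 (.req 0 false) (.cut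
  3 15 (.cut 2 6 (.lin 0 false) (.cut 2 15 (.cut 3 13 (.cut 2 13 (.cut 3 4 (.req 0 false) (.cut 3 7 (.cut 2 4 (.lin
  0 false) (.cut 2 7 (.cut 3 6 (.cut 2 5 (.cut 3 5 (.cut 2 3 (.cut 3 3 (.cut 2 0 (.cut 3 0 (.req 0 false) (.lin 0
  false)) (.req 0 false)) (.lin 0 false)) (.req 0 false)) (.lin 0 false)) (.req 0 false)) (.req 0 true)) (.lin 0
  true))) (.req 0 true))) (.lin 0 true)) (.req 0 true)) (.lin 0 true))) (.req 0 true))))))))))))))))))) (.lin 0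
  true)) (.req 0 true)) (.lin 0 true)) (.req 0 true)) (.lin 0 true)) (.req 0 true)) (.lin 1 true)) (.req 0
  false)))) (.lin 1 true)) (.req 0 false)) (.req 0 false)) (.rlt 0)))))

/-- A certificate. -/
def tree30_2 : Tree :=
  .cut 0 5949104 (.rlt 1) (.cut 4 2974552 (.lin 1 false) (.cut 0 16525294 (.rlt 1) (.cut 4 8262646 (.lin 1 false)
  (.cut 0 45903585 (.rlt 1) (.cut 4 22951792 (.lin 1 false) (.cut 0 127509903 (.rlt 1) (.cut 4 63754951 (.lin 1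
  false) (.cut 0 354194242 (.rlt 1) (.cut 4 177097121 (.lin 1 false) (.cut 0 983871605 (.rlt 1) (.cut 4 491935802
  (.lin 1 false) (.cut 0 2732938168 (.rlt 1) (.cut 4 1366469083 (.lin 1 false) (.cut 0 7591368363 (.rlt 1) (.cut 4
  3795684181 (.lin 1 false) (.cut 0 21085029891 (.rlt 1) (.cut 4 10542514945 (.lin 1 false) (.cut 0 58564942971
  (.rlt 1) (.cut 4 29282471485 (.lin 1 false) (.cut 0 162563897736 (.rlt 1) (.cut 4 81281948868 (.lin 1 false)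
  (.cut 0 450739668765 (.rlt 1) (.cut 4 225369834382 (.lin 1 false) (.cut 0 1249872192257 (.rlt 1) (.cut 4
  624936096128 (.lin 1 false) (.cut 0 3474999712477 (.rlt 1) (.cut 4 1737499856238 (.lin 1 false) (.cut 0
  9230467986266 (.rlt 1) (.cut 4 4615233993132 (.lin 1 false) (.cut 0 25322085973022 (.rlt 1) (.cut 4
  12661042986511 (.lin 1 false) (.cut 0 69968921767563 (.rlt 1) (.cut 4 34984460883781 (.lin 1 false) (.cut 1 0
  (.req 0 true) (.cut 0 109951162777599 (.rlt 1) (.cut 4 54975581388799 (.lin 1 false) (.cut 0 219902325555199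
  (.rlt 1) (.cut 4 109951162777599 (.lin 1 false) (.cut 2 0 (.cut 3 439804651110394 (.lin 0 false) (.cut 1 0 (.req
  0 true) (.req 0 false))) (.cut 1 0 (.cut 3 4 (.cut 2 439804651110390 (.lin 0 false) (.cut 3 0 (.req 0 true) (.req
  0 false))) (.req 0 false)) (.req 0 false)))))))))))))))))))))))))))))))))))))))))

/-- A certificate. -/
def tree30_3 : Tree :=
  .sign 0 (.sign 4 (.lin 1 false) (.sign 2 (.cut 1 1 (.cut 0 3 (.rlt 1) (.cut 4 1 (.lin 1 false) (.cut 0 10 (.rlt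
  1) (.cut 3 12 (.lin 0 false) (.cut 1 0 (.req 0 true) (.req 0 false)))))) (.req 0 false)) (.cut 1 2 (.cut 0 3
  (.rlt 1) (.cut 4 1 (.lin 1 false) (.cut 0 10 (.rlt 1) (.cut 4 4 (.lin 1 false) (.cut 0 27 (.rlt 1) (.cut 4 13
  (.lin 1 false) (.cut 0 77 (.rlt 1) (.cut 4 38 (.lin 1 false) (.cut 0 216 (.rlt 1) (.cut 4 108 (.lin 1 false)
  (.cut 0 604 (.rlt 1) (.cut 4 301 (.lin 1 false) (.cut 0 1677 (.rlt 1) (.cut 4 838 (.lin 1 false) (.cut 0 4660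
  (.rlt 1) (.cut 4 2330 (.lin 1 false) (.cut 0 12949 (.rlt 1) (.cut 4 6474 (.lin 1 false) (.cut 0 35971 (.rlt 1)
  (.cut 4 17985 (.lin 1 false) (.cut 0 99922 (.rlt 1) (.cut 4 49960 (.lin 1 false) (.cut 0 277560 (.rlt 1) (.cut 4
  138780 (.lin 1 false) (.cut 0 771004 (.rlt 1) (.cut 4 385501 (.lin 1 false) (.cut 0 2141677 (.rlt 1) (.cut 4
  1070838 (.lin 1 false) (tree30_2))))))))))))))))))))))))))))) (.req 0 false)))) (.sign 2 (.sign 4 (.cut 1 1 (.cut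
  2 2 (.lin 0 true) (.cut 1 0 (.req 0 true) (.cut 0 0 (.lin 1 false) (.cut 2 1 (.lin 0 true) (.cut 3 1 (.cut 4 1
  (.req 0 true) (.cut 0 3 (.lin 1 false) (.cut 2 3 (.lin 0 true) (.cut 3 0 (.req 0 true) (.cut 0 24 (.cut 2 25
  (.cut 4 1 (.cut 0 2 (.cut 2 3 (.cut 4 0 (.req 0 true) (.req 0 false)) (.lin 0 false)) (.lin 1 true)) (.req 0
  false)) (.lin 0 false)) (.rlt 0)))))) (.cut 0 14 (.cut 4 1 (.cut 0 2 (.cut 2 1 (.lin 0 true) (.cut 3 0 (.req 0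
  true) (.cut 2 0 (.lin 0 true) (.cut 3 2 (.cut 2 4 (.cut 4 0 (.req 0 true) (.req 0 false)) (.lin 0 false)) (.cut 4
  0 (.cut 0 0 (.cut 2 38 (.cut 3 35 (.cut 2 4 (.cut 3 1 (.req 0 true) (.lin 0 true)) (.req 0 true)) (.lin 0 true))
  (.req 0 true)) (.lin 1 true)) (.req 0 false)))))) (.lin 1 true)) (.req 0 false)) (.rlt 0))))))) (.req 0 false))
  (.lin 1 true)) (.lin 0 true))

/-- A certificate. -/
def tree30 : Tree :=
  .sign 1 (.req 0 false) (.sign 3 (.sign 0 (.sign 4 (.lin 1 false) (.sign 2 (.cut 1 0 (.lin 0 false) (.req 0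
  false)) (.cut 1 1 (.cut 0 3 (.rlt 1) (.cut 2 2 (.lin 0 false) (.cut 1 0 (.cut 3 0 (.cut 4 0 (.lin 1 false) (.req
  0 true)) (.req 0 true)) (.req 0 false)))) (.req 0 false)))) (.sign 4 (.sign 2 (.cut 1 1 (.cut 1 0 (.req 0 true)
  (.cut 0 5 (.cut 2 6 (.req 0 false) (.lin 0 false)) (.rlt 0))) (.req 0 false)) (.cut 1 2 (.cut 3 1 (.lin 0 true)
  (tree30_1)) (.req 0 false))) (.lin 1 true))) (tree30_3))

theorem ok30 : certOK (keys.getD 30 []) tree30 = true := by decide +kernel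

/-- A certificate. -/
def tree35_1 : Tree :=
  .sign 2 (.sign 3 (.sign 4 (.sign 5 (.sign 0 (.lin 1 false) (.cut 1 0 (.req 0 true) (.rlt 0))) (.sign 0 (.cut 1 0
  (.lin 0 false) (.rlt 0)) (.cut 1 0 (.req 0 true) (.rlt 0)))) (.sign 5 (.sign 0 (.cut 1 0 (.lin 0 false) (.rlt 0))
  (.cut 1 0 (.req 0 true) (.rlt 0))) (.sign 0 (.cut 1 0 (.lin 0 false) (.rlt 0)) (.cut 1 0 (.req 0 true) (.rlt
  0))))) (.sign 4 (.sign 5 (.sign 0 (.cut 1 0 (.lin 0 false) (.rlt 0)) (.cut 1 0 (.req 0 true) (.rlt 0))) (.sign 0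
  (.cut 1 0 (.lin 0 false) (.req 0 false)) (.cut 1 0 (.req 0 true) (.rlt 0)))) (.sign 5 (.sign 0 (.cut 1 0 (.lin 0
  false) (.req 0 false)) (.cut 1 0 (.req 0 true) (.rlt 0))) (.sign 0 (.cut 1 0 (.lin 0 false) (.req 0 false)) (.lin
  1 true))))) (.sign 0 (.sign 3 (.sign 4 (.sign 5 (.lin 1 false) (.cut 1 1 (.cut 5 3 (.lin 1 false) (.cut 3 4 (.rlt
  1) (.cut 4 3 (.rlt 1) (.cut 5 13 (.lin 1 false) (.cut 0 3 (.rlt 1) (.cut 2 7 (.lin 0 false) (.cut 1 0 (.req 0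
  true) (.req 0 false)))))))) (.rlt 0))) (.sign 5 (.cut 1 1 (.cut 4 3 (.lin 1 false) (.cut 3 4 (.rlt 1) (.cut 5 3
  (.rlt 1) (.cut 4 13 (.lin 1 false) (.cut 0 3 (.rlt 1) (.cut 2 7 (.lin 0 false) (.cut 1 0 (.req 0 true) (.req 0
  false)))))))) (.rlt 0)) (.cut 1 1 (.cut 1 0 (.req 0 true) (.cut 2 0 (.cut 0 0 (.rlt 0) (.lin 0 false)) (.rlt 0)))
  (.rlt 0)))) (.sign 4 (.sign 5 (.cut 1 1 (.cut 1 0 (.req 0 true) (.cut 2 0 (.cut 0 0 (.rlt 0) (.lin 0 false))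
  (.rlt 0))) (.rlt 0)) (.cut 1 1 (.cut 1 0 (.req 0 true) (.cut 2 0 (.cut 0 0 (.rlt 0) (.lin 0 false)) (.rlt 0)))
  (.req 0 false))) (.sign 5 (.cut 1 1 (.cut 1 0 (.req 0 true) (.cut 2 0 (.cut 0 0 (.rlt 0) (.lin 0 false)) (.rlt
  0))) (.req 0 false)) (.cut 1 1 (.cut 0 1 (.lin 1 true) (.cut 2 3 (.lin 0 false) (.cut 1 0 (.cut 0 5 (.cut 2 11
  (.req 0 true) (.lin 0 true)) (.req 0 true)) (.req 0 false)))) (.req 0 false))))) (.lin 0 true))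

/-- A certificate. -/
def tree35 : Tree :=
  .sign 1 (.req 0 false) (tree35_1)

theorem ok35 : certOK (keys.getD 35 []) tree35 = true := by decide +kernel

/-- A certificate. -/
def tree36_1 : Tree :=
  .cut 1 1 (.cut 2 1 (.cut 5 8 (.cut 4 8 (.cut 5 0 (.req 0 false) (.cut 4 0 (.lin 1 true) (.cut 5 5 (.cut 4 5 (.cut
  5 4 (.cut 4 4 (.cut 5 1 (.cut 4 1 (.cut 1 0 (.cut 2 0 (.cut 5 0 (.req 0 false) (.req 0 true)) (.lin 0 true))
  (.cut 5 0 (.cut 2 0 (.lin 0 false) (.req 0 false)) (.req 0 true))) (.lin 1 false)) (.cut 1 0 (.cut 2 0 (.req 0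
  true) (.lin 0 true)) (.req 0 true))) (.lin 1 false)) (.req 0 true)) (.lin 1 false)) (.req 0 true)))) (.lin 1
  false)) (.req 0 true)) (.lin 0 true)) (.cut 5 26 (.cut 4 26 (.cut 2 1 (.lin 0 false) (.cut 5 20 (.cut 4 20 (.cut
  5 19 (.cut 4 19 (.cut 5 0 (.cut 2 13 (.cut 1 13 (.cut 4 0 (.cut 2 1 (.cut 1 1 (.req 0 false) (.lin 0 false))
  (.req 0 false)) (.lin 1 false)) (.lin 0 false)) (.req 0 false)) (.cut 1 22 (.cut 2 22 (.cut 5 9 (.cut 4 10 (.cut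
  1 12 (.cut 2 12 (.cut 5 5 (.cut 4 6 (.cut 1 8 (.cut 2 8 (.cut 4 0 (.lin 1 true) (.cut 1 6 (.cut 2 6 (.cut 5 3
  (.cut 4 3 (.cut 1 5 (.cut 2 5 (.cut 5 2 (.cut 4 2 (.cut 1 4 (.cut 2 4 (.cut 1 3 (.cut 2 3 (.cut 5 1 (.cut 4 1
  (.cut 1 1 (.cut 2 1 (.cut 5 0 (.cut 2 0 (.cut 1 0 (.req 0 false) (.lin 0 false)) (.req 0 false)) (.req 0 true))
  (.lin 0 true)) (.cut 5 0 (.cut 4 0 (.cut 1 0 (.cut 2 2 (.req 0 true) (.lin 0 true)) (.req 0 true)) (.lin 1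
  false)) (.req 0 true))) (.lin 1 false)) (.req 0 true)) (.lin 0 true)) (.req 0 true)) (.lin 0 true)) (.req 0
  true)) (.lin 1 false)) (.req 0 true)) (.lin 0 true)) (.req 0 true)) (.lin 1 false)) (.req 0 true)) (.lin 0 true))
  (.req 0 true))) (.lin 0 true)) (.req 0 true)) (.lin 1 false)) (.req 0 true)) (.lin 0 true)) (.req 0 true)) (.lin
  1 false)) (.req 0 true)) (.lin 0 true)) (.req 0 true))) (.lin 1 false)) (.req 0 true)) (.lin 1 false)) (.req 0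
  true))) (.lin 1 false)) (.req 0 true))

/-- A certificate. -/
def tree36_2 : Tree :=
  .cut 1 1 (.cut 2 1 (.cut 5 8 (.cut 4 8 (.cut 5 0 (.req 0 false) (.cut 4 0 (.lin 1 true) (.cut 5 5 (.cut 4 5 (.cut
  5 4 (.cut 4 4 (.cut 5 1 (.cut 4 1 (.cut 1 0 (.cut 2 0 (.cut 5 0 (.req 0 false) (.req 0 true)) (.lin 0 true))
  (.cut 5 0 (.cut 2 0 (.lin 0 false) (.req 0 false)) (.req 0 true))) (.lin 1 false)) (.cut 1 0 (.cut 2 0 (.req 0
  true) (.lin 0 true)) (.req 0 true))) (.lin 1 false)) (.req 0 true)) (.lin 1 false)) (.req 0 true)))) (.lin 1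
  false)) (.req 0 true)) (.lin 0 true)) (.cut 5 26 (.cut 4 26 (.cut 2 1 (.lin 0 false) (.cut 5 20 (.cut 4 20 (.cut
  5 19 (.cut 4 19 (.cut 5 0 (.cut 2 13 (.cut 1 13 (.cut 4 0 (.cut 2 1 (.cut 1 1 (.req 0 false) (.lin 0 false))
  (.req 0 false)) (.lin 1 false)) (.lin 0 false)) (.req 0 false)) (.cut 1 22 (.cut 2 22 (.cut 5 9 (.cut 4 10 (.cut
  1 12 (.cut 2 12 (.cut 5 5 (.cut 4 6 (.cut 1 8 (.cut 2 8 (.cut 4 0 (.lin 1 true) (.cut 1 6 (.cut 2 6 (.cut 5 3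
  (.cut 4 3 (.cut 1 5 (.cut 2 5 (.cut 5 2 (.cut 4 2 (.cut 1 4 (.cut 2 4 (.cut 1 3 (.cut 2 3 (.cut 5 1 (.cut 4 1
  (.cut 1 1 (.cut 2 1 (.cut 5 0 (.cut 2 0 (.cut 1 0 (.req 0 false) (.lin 0 false)) (.req 0 false)) (.req 0 true))
  (.lin 0 true)) (.cut 5 0 (.cut 4 0 (.cut 1 0 (.cut 2 2 (.req 0 true) (.lin 0 true)) (.req 0 true)) (.lin 1
  false)) (.req 0 true))) (.lin 1 false)) (.req 0 true)) (.lin 0 true)) (.req 0 true)) (.lin 0 true)) (.req 0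
  true)) (.lin 1 false)) (.req 0 true)) (.lin 0 true)) (.req 0 true)) (.lin 1 false)) (.req 0 true)) (.lin 0 true))
  (.req 0 true))) (.lin 0 true)) (.req 0 true)) (.lin 1 false)) (.req 0 true)) (.lin 0 true)) (.req 0 true)) (.lin
  1 false)) (.req 0 true)) (.lin 0 true)) (.req 0 true))) (.lin 1 false)) (.req 0 true)) (.lin 1 false)) (.req 0
  true))) (.lin 1 false)) (.req 0 true))

/-- A certificate. -/
def tree36_3 : Tree :=
  .sign 5 (.sign 2 (.sign 4 (.sign 3 (.cut 0 0 (.lin 0 false) (.rlt 0)) (.cut 0 0 (.lin 0 false) (.rlt 0))) (.sign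
  3 (.cut 0 0 (.lin 0 false) (.rlt 0)) (.cut 0 0 (.lin 0 false) (.rlt 0)))) (.sign 4 (.sign 3 (.cut 0 1 (.cut 4 0
  (.cut 5 0 (.req 0 true) (.lin 1 false)) (.lin 1 false)) (.rlt 0)) (.cut 0 1 (.cut 4 0 (.cut 5 0 (.req 0 true)
  (.lin 1 false)) (.lin 1 false)) (.rlt 0))) (.sign 3 (.cut 0 1 (.cut 5 0 (.lin 1 true) (.cut 1 1 (.lin 0 true)
  (.cut 0 0 (.cut 1 12 (.cut 2 12 (.cut 1 7 (.cut 2 7 (.cut 5 0 (.req 0 true) (.cut 4 0 (.lin 1 false) (.cut 1 1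
  (.cut 2 1 (.cut 1 0 (.cut 2 0 (.req 0 true) (.lin 0 true)) (.req 0 true)) (.lin 0 true)) (.req 0 true)))) (.lin 0
  true)) (.req 0 true)) (.lin 0 true)) (.req 0 true)) (.cut 2 2 (.cut 1 4 (.req 0 false) (.lin 0 false)) (.req 0
  false))))) (.rlt 0)) (.cut 0 1 (.cut 5 0 (.lin 1 true) (.cut 1 1 (.lin 0 true) (.cut 0 0 (.cut 1 12 (.cut 2 12
  (.cut 1 7 (.cut 2 7 (.cut 5 0 (.req 0 true) (.cut 4 0 (.lin 1 false) (.cut 1 1 (.cut 2 1 (.cut 1 0 (.cut 2 0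
  (.req 0 true) (.lin 0 true)) (.req 0 true)) (.lin 0 true)) (.req 0 true)))) (.lin 0 true)) (.req 0 true)) (.lin 0
  true)) (.req 0 true)) (.cut 2 2 (.cut 1 4 (.req 0 false) (.lin 0 false)) (.req 0 false))))) (.rlt 0))))) (.sign 4
  (.sign 2 (.sign 3 (.cut 0 0 (.lin 0 false) (.req 0 false)) (.cut 0 0 (.lin 0 false) (.req 0 false))) (.sign 3
  (.cut 0 0 (.cut 1 1 (.lin 0 true) (.cut 4 0 (.lin 1 true) (tree36_1))) (.req 0 false)) (.cut 0 0 (.cut 1 1 (.lin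
  0 true) (.cut 4 0 (.lin 1 true) (tree36_2))) (.req 0 false)))) (.lin 1 true))

/-- A certificate. -/
def tree36_4 : Tree :=
  .sign 3 (.cut 5 0 (.lin 1 true) (.cut 1 0 (.req 0 true) (.cut 0 6 (.cut 2 1 (.lin 0 true) (.cut 0 0 (.cut 2 4
  (.cut 1 4 (.req 0 true) (.lin 0 true)) (.req 0 true)) (.cut 1 8 (.cut 2 20 (.cut 5 0 (.lin 1 true) (.cut 1 2
  (.cut 2 1 (.lin 0 true) (.cut 2 12 (.cut 0 4 (.cut 2 10 (.cut 1 0 (.cut 2 8 (.cut 0 0 (.cut 2 0 (.cut 4 0 (.cut 5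
  0 (.req 0 true) (.lin 1 false)) (.req 0 true)) (.lin 0 false)) (.cut 5 0 (.lin 1 true) (.cut 2 1 (.lin 0 true)
  (.cut 0 1 (.cut 2 2 (.cut 4 0 (.req 0 false) (.cut 5 0 (.lin 1 true) (.cut 5 2 (.cut 4 2 (.cut 0 0 (.cut 2 0
  (.cut 4 0 (.cut 5 0 (.req 0 true) (.lin 1 false)) (.req 0 true)) (.lin 0 false)) (.cut 5 0 (.lin 1 true) (.req 0
  false))) (.lin 1 true)) (.cut 0 0 (.cut 2 0 (.cut 5 25 (.cut 4 28 (.cut 4 2 (.lin 1 false) (.cut 5 4 (.req 0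
  true) (.cut 4 4 (.lin 1 false) (.cut 5 13 (.cut 4 13 (.cut 5 5 (.req 0 true) (.cut 4 5 (.lin 1 false) (.cut 5 5
  (.cut 4 5 (.cut 5 4 (.cut 4 2 (.cut 5 2 (.req 0 true) (.lin 1 false)) (.req 0 true)) (.req 0 false)) (.lin 1
  true)) (.req 0 false)))) (.lin 1 true)) (.req 0 false))))) (.lin 1 true)) (.req 0 false)) (.lin 0 false)) (.req 0
  false))))) (.lin 0 false)) (.cut 5 1 (.lin 1 true) (.req 0 false)))))) (.lin 0 false)) (.cut 0 0 (.cut 5 4 (.cut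
  4 4 (.cut 1 0 (.cut 2 1 (.cut 5 0 (.cut 4 0 (.req 0 false) (.lin 1 true)) (.req 0 false)) (.lin 0 false)) (.req 0
  false)) (.lin 1 true)) (.req 0 false)) (.req 0 false))) (.lin 0 false)) (.rlt 0)) (.lin 0 false))) (.req 0
  false))) (.lin 0 false)) (.req 0 false)))) (.rlt 0)))) (.cut 5 0 (.lin 1 true) (.cut 1 0 (.req 0 true) (.cut 0 6
  (.cut 2 1 (.lin 0 true) (.cut 0 0 (.cut 2 4 (.cut 1 4 (.req 0 true) (.lin 0 true)) (.req 0 true)) (.cut 1 8 (.cut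
  2 20 (.cut 5 0 (.lin 1 true) (.cut 1 2 (.cut 2 1 (.lin 0 true) (.cut 2 12 (.cut 0 4 (.cut 2 10 (.cut 1 0 (.cut 2
  8 (.cut 0 0 (.cut 2 0 (.cut 4 0 (.cut 5 0 (.req 0 true) (.lin 1 false)) (.req 0 true)) (.lin 0 false)) (.cut 5 0
  (.lin 1 true) (.cut 2 1 (.lin 0 true) (.cut 0 1 (.cut 2 2 (.cut 4 0 (.req 0 false) (.cut 5 0 (.lin 1 true) (.cut
  5 2 (.cut 4 2 (.cut 0 0 (.cut 2 0 (.cut 4 0 (.cut 5 0 (.req 0 true) (.lin 1 false)) (.req 0 true)) (.lin 0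
  false)) (.cut 5 0 (.lin 1 true) (.req 0 false))) (.lin 1 true)) (.cut 0 0 (.cut 2 0 (.cut 5 25 (.cut 4 28 (.cut 4
  2 (.lin 1 false) (.cut 5 4 (.req 0 true) (.cut 4 4 (.lin 1 false) (.cut 5 13 (.cut 4 13 (.cut 5 5 (.req 0 true)
  (.cut 4 5 (.lin 1 false) (.cut 5 5 (.cut 4 5 (.cut 5 4 (.cut 4 2 (.cut 5 2 (.req 0 true) (.lin 1 false)) (.req 0
  true)) (.req 0 false)) (.lin 1 true)) (.req 0 false)))) (.lin 1 true)) (.req 0 false))))) (.lin 1 true)) (.req 0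
  false)) (.lin 0 false)) (.req 0 false))))) (.lin 0 false)) (.cut 5 1 (.lin 1 true) (.req 0 false)))))) (.lin 0
  false)) (.cut 0 0 (.cut 5 4 (.cut 4 4 (.cut 1 0 (.cut 2 1 (.cut 5 0 (.cut 4 0 (.req 0 false) (.lin 1 true)) (.req
  0 false)) (.lin 0 false)) (.req 0 false)) (.lin 1 true)) (.req 0 false)) (.req 0 false))) (.lin 0 false)) (.rlt
  0)) (.lin 0 false))) (.req 0 false))) (.lin 0 false)) (.req 0 false)))) (.rlt 0))))

/-- A certificate. -/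
def tree36_5 : Tree :=
  .sign 3 (.cut 2 0 (.lin 0 true) (.cut 1 0 (.req 0 true) (.cut 0 6 (.cut 4 0 (.lin 1 true) (.cut 2 0 (.lin 0 true)
  (.cut 0 4 (.cut 0 0 (.cut 5 8 (.cut 4 8 (.cut 1 2 (.req 0 true) (.cut 2 2 (.lin 0 true) (.cut 5 1 (.cut 4 1 (.cut
  1 3 (.req 0 true) (.cut 2 3 (.lin 0 true) (.cut 5 0 (.cut 1 30 (.cut 2 30 (.cut 4 0 (.cut 1 5 (.req 0 true) (.cut
  1 12 (.cut 2 18 (.cut 2 5 (.lin 0 true) (.cut 1 9 (.cut 2 9 (.cut 1 3 (.req 0 true) (.cut 2 3 (.lin 0 true) (.cut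
  1 4 (.cut 2 4 (.cut 1 3 (.cut 2 1 (.cut 1 1 (.req 0 true) (.lin 0 true)) (.req 0 true)) (.req 0 false)) (.lin 0
  false)) (.req 0 false)))) (.lin 0 false)) (.req 0 false))) (.lin 0 false)) (.req 0 false))) (.lin 1 false)) (.lin
  0 false)) (.req 0 false)) (.req 0 true)))) (.lin 1 false)) (.req 0 true)))) (.lin 1 false)) (.req 0 true)) (.cut
  1 1 (.cut 2 9 (.cut 1 0 (.cut 2 1 (.lin 0 true) (.cut 5 0 (.req 0 false) (.cut 4 1 (.lin 1 true) (.cut 0 1 (.cut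
  2 2 (.cut 5 0 (.req 0 false) (.cut 4 0 (.lin 1 true) (.cut 0 0 (.cut 2 0 (.cut 5 0 (.cut 4 0 (.req 0 true) (.lin
  1 false)) (.req 0 true)) (.lin 0 false)) (.cut 4 2 (.cut 5 1 (.req 0 false) (.lin 1 true)) (.req 0 false)))))
  (.lin 0 false)) (.req 0 false))))) (.req 0 false)) (.lin 0 false)) (.req 0 false))) (.req 0 false)))) (.req 0
  false)))) (.cut 2 0 (.lin 0 true) (.cut 1 0 (.req 0 true) (.cut 0 6 (.cut 4 0 (.lin 1 true) (.cut 2 0 (.lin 0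
  true) (.cut 0 4 (.cut 0 0 (.cut 5 8 (.cut 4 8 (.cut 1 2 (.req 0 true) (.cut 2 2 (.lin 0 true) (.cut 5 1 (.cut 4 1
  (.cut 1 3 (.req 0 true) (.cut 2 3 (.lin 0 true) (.cut 5 0 (.cut 1 30 (.cut 2 30 (.cut 4 0 (.cut 1 5 (.req 0 true)
  (.cut 1 12 (.cut 2 18 (.cut 2 5 (.lin 0 true) (.cut 1 9 (.cut 2 9 (.cut 1 3 (.req 0 true) (.cut 2 3 (.lin 0 true)
  (.cut 1 4 (.cut 2 4 (.cut 1 3 (.cut 2 1 (.cut 1 1 (.req 0 true) (.lin 0 true)) (.req 0 true)) (.req 0 false))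
  (.lin 0 false)) (.req 0 false)))) (.lin 0 false)) (.req 0 false))) (.lin 0 false)) (.req 0 false))) (.lin 1
  false)) (.lin 0 false)) (.req 0 false)) (.req 0 true)))) (.lin 1 false)) (.req 0 true)))) (.lin 1 false)) (.req 0
  true)) (.cut 1 1 (.cut 2 9 (.cut 1 0 (.cut 2 1 (.lin 0 true) (.cut 5 0 (.req 0 false) (.cut 4 1 (.lin 1 true)
  (.cut 0 1 (.cut 2 2 (.cut 5 0 (.req 0 false) (.cut 4 0 (.lin 1 true) (.cut 0 0 (.cut 2 0 (.cut 5 0 (.cut 4 0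
  (.req 0 true) (.lin 1 false)) (.req 0 true)) (.lin 0 false)) (.cut 4 2 (.cut 5 1 (.req 0 false) (.lin 1 true))
  (.req 0 false))))) (.lin 0 false)) (.req 0 false))))) (.req 0 false)) (.lin 0 false)) (.req 0 false))) (.req 0
  false)))) (.req 0 false))))

/-- A certificate. -/
def tree36 : Tree :=
  .sign 0 (.sign 1 (.rlt 0) (.sign 5 (.sign 4 (.lin 1 false) (.sign 2 (.sign 3 (.cut 1 0 (.lin 0 false) (.rlt 0))
  (.cut 1 0 (.lin 0 false) (.rlt 0))) (.sign 3 (.cut 1 1 (.cut 0 3 (.rlt 1) (.cut 5 2 (.rlt 1) (.cut 4 6 (.lin 1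
  false) (.cut 0 38 (.rlt 1) (.cut 2 82 (.lin 0 false) (.cut 1 0 (.req 0 true) (.req 0 false))))))) (.rlt 0)) (.cut
  1 1 (.cut 0 3 (.rlt 1) (.cut 5 2 (.rlt 1) (.cut 4 6 (.lin 1 false) (.cut 0 38 (.rlt 1) (.cut 2 82 (.lin 0 false)
  (.cut 1 0 (.req 0 true) (.req 0 false))))))) (.rlt 0))))) (.sign 2 (.sign 4 (.sign 3 (.cut 1 0 (.lin 0 false)
  (.req 0 false)) (.cut 1 0 (.lin 0 false) (.req 0 false))) (.sign 3 (.cut 1 0 (.lin 0 false) (.req 0 false)) (.cut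
  1 0 (.lin 0 false) (.req 0 false)))) (.sign 4 (.sign 3 (.cut 1 1 (.cut 0 1 (.rlt 1) (.cut 1 0 (.req 0 true) (.cut
  2 0 (.lin 0 false) (.rlt 0)))) (.req 0 false)) (.cut 1 1 (.cut 0 1 (.rlt 1) (.cut 1 0 (.req 0 true) (.cut 2 0
  (.lin 0 false) (.rlt 0)))) (.req 0 false))) (.sign 3 (.cut 1 1 (.cut 0 1 (.lin 1 true) (.cut 1 0 (.req 0 true)
  (.cut 2 0 (.lin 0 false) (.req 0 false)))) (.req 0 false)) (.cut 1 1 (.cut 0 1 (.lin 1 true) (.cut 1 0 (.req 0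
  true) (.cut 2 0 (.lin 0 false) (.req 0 false)))) (.req 0 false))))))) (.sign 1 (tree36_3) (.sign 2 (.sign 5
  (.sign 4 (.sign 3 (.cut 5 0 (.rlt 1) (.cut 0 1 (.lin 1 false) (.cut 1 2 (.cut 2 4 (.lin 0 true) (.cut 1 0 (.req 0
  true) (.cut 0 4 (.cut 2 10 (.cut 4 4 (.cut 5 4 (.cut 5 0 (.rlt 1) (.cut 0 0 (.lin 1 false) (.cut 1 0 (.cut 4 0
  (.req 0 true) (.cut 2 2 (.lin 0 true) (.cut 5 1 (.req 0 true) (.cut 4 0 (.cut 0 0 (.lin 1 false) (.rlt 1)) (.lin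
  1 false))))) (.rlt 0)))) (.lin 1 false)) (.lin 1 false)) (.lin 0 false)) (.rlt 0)))) (.rlt 0)))) (.cut 5 0 (.rlt
  1) (.cut 0 1 (.lin 1 false) (.cut 1 2 (.cut 2 4 (.lin 0 true) (.cut 1 0 (.req 0 true) (.cut 0 4 (.cut 2 10 (.cut
  4 4 (.cut 5 4 (.cut 5 0 (.rlt 1) (.cut 0 0 (.lin 1 false) (.cut 1 0 (.cut 4 0 (.req 0 true) (.cut 2 2 (.lin 0
  true) (.cut 5 1 (.req 0 true) (.cut 4 0 (.cut 0 0 (.lin 1 false) (.rlt 1)) (.lin 1 false))))) (.rlt 0)))) (.lin 1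
  false)) (.lin 1 false)) (.lin 0 false)) (.rlt 0)))) (.rlt 0))))) (tree36_4)) (.sign 4 (tree36_5) (.lin 1 true)))
  (.lin 0 true)))

theorem ok36 : certOK (keys.getD 36 []) tree36 = true := by decide +kernel

/-- A certificate. -/
def tree37_1 : Tree :=
  .sign 5 (.sign 1 (.sign 4 (.sign 2 (.sign 3 (.cut 0 0 (.lin 0 false) (.rlt 0)) (.cut 0 0 (.lin 0 false) (.rlt
  0))) (.sign 3 (.cut 0 0 (.lin 1 false) (.rlt 0)) (.cut 0 0 (.lin 1 false) (.rlt 0)))) (.sign 2 (.sign 3 (.cut 0 0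
  (.lin 0 false) (.rlt 0)) (.cut 0 0 (.lin 0 false) (.rlt 0))) (.sign 3 (.cut 0 0 (.cut 1 1 (.cut 2 0 (.cut 4 1
  (.cut 5 2 (.req 0 true) (.lin 1 false)) (.req 0 true)) (.lin 0 true)) (.req 0 true)) (.rlt 0)) (.cut 0 0 (.cut 1
  1 (.cut 2 0 (.cut 4 1 (.cut 5 2 (.req 0 true) (.lin 1 false)) (.req 0 true)) (.lin 0 true)) (.req 0 true)) (.rlt
  0))))) (.sign 2 (.sign 4 (.sign 3 (.cut 0 1 (.cut 4 0 (.cut 5 0 (.req 0 true) (.lin 1 false)) (.lin 1 false))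
  (.rlt 0)) (.cut 0 1 (.cut 4 0 (.cut 5 0 (.req 0 true) (.lin 1 false)) (.lin 1 false)) (.rlt 0))) (.sign 3 (.cut 0
  1 (.cut 5 0 (.lin 1 true) (.cut 0 0 (.req 0 true) (.cut 1 1 (.cut 2 4 (.cut 5 1 (.cut 4 0 (.cut 1 0 (.cut 5 0
  (.lin 1 true) (.req 0 false)) (.req 0 false)) (.lin 1 true)) (.req 0 false)) (.lin 0 false)) (.req 0 false))))
  (.rlt 0)) (.cut 0 1 (.cut 5 0 (.lin 1 true) (.cut 0 0 (.req 0 true) (.cut 1 1 (.cut 2 4 (.cut 5 1 (.cut 4 0 (.cut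
  1 0 (.cut 5 0 (.lin 1 true) (.req 0 false)) (.req 0 false)) (.lin 1 true)) (.req 0 false)) (.lin 0 false)) (.req
  0 false)))) (.rlt 0)))) (.lin 0 true))) (.sign 4 (.sign 1 (.sign 2 (.sign 3 (.cut 0 0 (.lin 0 false) (.req 0
  false)) (.cut 0 0 (.lin 0 false) (.req 0 false))) (.sign 3 (.cut 0 0 (.cut 5 10 (.cut 4 11 (.cut 1 0 (.lin 0
  true) (.cut 5 2 (.cut 4 3 (.cut 5 1 (.cut 4 0 (.lin 1 true) (.cut 4 1 (.cut 5 0 (.req 0 false) (.cut 1 0 (.cut 2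
  0 (.cut 4 0 (.lin 1 true) (.req 0 false)) (.lin 0 true)) (.req 0 true))) (.lin 1 false))) (.req 0 true)) (.lin 1
  false)) (.req 0 true))) (.lin 1 false)) (.req 0 true)) (.req 0 false)) (.cut 0 0 (.cut 5 10 (.cut 4 11 (.cut 1 0
  (.lin 0 true) (.cut 5 2 (.cut 4 3 (.cut 5 1 (.cut 4 0 (.lin 1 true) (.cut 4 1 (.cut 5 0 (.req 0 false) (.cut 1 0
  (.cut 2 0 (.cut 4 0 (.lin 1 true) (.req 0 false)) (.lin 0 true)) (.req 0 true))) (.lin 1 false))) (.req 0 true))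
  (.lin 1 false)) (.req 0 true))) (.lin 1 false)) (.req 0 true)) (.req 0 false)))) (.sign 2 (.sign 3 (.cut 0 0
  (.cut 5 0 (.cut 4 1 (.cut 1 4 (.req 0 true) (.cut 2 5 (.lin 0 true) (.cut 4 0 (.lin 1 true) (.cut 1 1 (.req 0
  true) (.req 0 false))))) (.lin 1 false)) (.req 0 true)) (.req 0 false)) (.cut 0 0 (.cut 5 0 (.cut 4 1 (.cut 1 4
  (.req 0 true) (.cut 2 5 (.lin 0 true) (.cut 4 0 (.lin 1 true) (.cut 1 1 (.req 0 true) (.req 0 false))))) (.lin 1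
  false)) (.req 0 true)) (.req 0 false))) (.lin 0 true))) (.lin 1 true))

/-- A certificate. -/
def tree37 : Tree :=
  .sign 0 (.rlt 0) (tree37_1)

theorem ok37 : certOK (keys.getD 37 []) tree37 = true := by decide +kernel

/-- A certificate. -/
def tree38_1 : Tree :=
  .sign 1 (.sign 2 (.sign 3 (.cut 0 0 (.lin 0 false) (.req 0 false)) (.cut 0 0 (.lin 0 false) (.req 0 false)))
  (.sign 3 (.cut 0 0 (.cut 4 21 (.cut 5 21 (.cut 4 2 (.req 0 false) (.cut 5 2 (.lin 1 true) (.cut 1 0 (.lin 0 true)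
  (.cut 4 3 (.cut 5 3 (.cut 1 1 (.cut 2 1 (.cut 4 1 (.req 0 false) (.cut 1 0 (.cut 2 0 (.cut 4 0 (.req 0 false)
  (.req 0 true)) (.lin 0 true)) (.req 0 true))) (.lin 0 true)) (.cut 2 1 (.lin 0 false) (.cut 4 1 (.cut 5 1 (.cut 4
  0 (.req 0 false) (.cut 1 1 (.cut 2 0 (.cut 1 0 (.req 0 false) (.lin 0 false)) (.req 0 false)) (.req 0 true)))
  (.lin 1 false)) (.req 0 true)))) (.lin 1 false)) (.req 0 true))))) (.lin 1 false)) (.req 0 true)) (.req 0 false))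
  (.cut 0 0 (.cut 4 21 (.cut 5 21 (.cut 4 2 (.req 0 false) (.cut 5 2 (.lin 1 true) (.cut 1 0 (.lin 0 true) (.cut 4
  3 (.cut 5 3 (.cut 1 1 (.cut 2 1 (.cut 4 1 (.req 0 false) (.cut 1 0 (.cut 2 0 (.cut 4 0 (.req 0 false) (.req 0
  true)) (.lin 0 true)) (.req 0 true))) (.lin 0 true)) (.cut 2 1 (.lin 0 false) (.cut 4 1 (.cut 5 1 (.cut 4 0 (.req
  0 false) (.cut 1 1 (.cut 2 0 (.cut 1 0 (.req 0 false) (.lin 0 false)) (.req 0 false)) (.req 0 true))) (.lin 1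
  false)) (.req 0 true)))) (.lin 1 false)) (.req 0 true))))) (.lin 1 false)) (.req 0 true)) (.req 0 false))))
  (.sign 2 (.sign 3 (.cut 0 0 (.cut 4 3 (.cut 1 36 (.cut 2 37 (.cut 5 3 (.cut 4 1 (.req 0 false) (.cut 1 1 (.req 0
  true) (.cut 2 2 (.lin 0 true) (.cut 5 1 (.lin 1 true) (.cut 1 13 (.cut 2 13 (.cut 4 0 (.req 0 false) (.cut 1 9
  (.req 0 true) (.cut 2 9 (.lin 0 true) (.cut 5 0 (.lin 1 true) (.cut 1 2 (.req 0 true) (.req 0 false)))))) (.lin 0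
  false)) (.req 0 false)))))) (.lin 1 false)) (.lin 0 false)) (.req 0 false)) (.req 0 true)) (.req 0 false)) (.cut
  0 0 (.cut 4 3 (.cut 1 36 (.cut 2 37 (.cut 5 3 (.cut 4 1 (.req 0 false) (.cut 1 1 (.req 0 true) (.cut 2 2 (.lin 0
  true) (.cut 5 1 (.lin 1 true) (.cut 1 13 (.cut 2 13 (.cut 4 0 (.req 0 false) (.cut 1 9 (.req 0 true) (.cut 2 9
  (.lin 0 true) (.cut 5 0 (.lin 1 true) (.cut 1 2 (.req 0 true) (.req 0 false)))))) (.lin 0 false)) (.req 0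
  false)))))) (.lin 1 false)) (.lin 0 false)) (.req 0 false)) (.req 0 true)) (.req 0 false))) (.lin 0 true))

/-- A certificate. -/
def tree38 : Tree :=
  .sign 0 (.rlt 0) (.sign 4 (.sign 1 (.sign 2 (.sign 5 (.sign 3 (.cut 0 0 (.lin 0 false) (.rlt 0)) (.cut 0 0 (.lin
  0 false) (.rlt 0))) (.sign 3 (.cut 0 0 (.lin 0 false) (.rlt 0)) (.cut 0 0 (.lin 0 false) (.rlt 0)))) (.sign 5
  (.sign 3 (.cut 0 0 (.lin 1 false) (.rlt 0)) (.cut 0 0 (.lin 1 false) (.rlt 0))) (.sign 3 (.cut 0 0 (.req 0 true)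
  (.rlt 0)) (.cut 0 0 (.req 0 true) (.rlt 0))))) (.sign 2 (.sign 5 (.sign 3 (.cut 0 1 (.cut 4 0 (.req 0 true) (.lin
  1 false)) (.rlt 0)) (.cut 0 1 (.cut 4 0 (.req 0 true) (.lin 1 false)) (.rlt 0))) (.sign 3 (.cut 0 1 (.cut 4 2
  (.lin 1 true) (.cut 0 0 (.req 0 true) (.cut 1 0 (.cut 2 3 (.cut 4 1 (.cut 5 0 (.cut 2 2 (.lin 0 true) (.req 0
  true)) (.lin 1 true)) (.req 0 false)) (.lin 0 false)) (.req 0 false)))) (.rlt 0)) (.cut 0 1 (.cut 4 2 (.lin 1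
  true) (.cut 0 0 (.req 0 true) (.cut 1 0 (.cut 2 3 (.cut 4 1 (.cut 5 0 (.cut 2 2 (.lin 0 true) (.req 0 true))
  (.lin 1 true)) (.req 0 false)) (.lin 0 false)) (.req 0 false)))) (.rlt 0)))) (.lin 0 true))) (.sign 5 (tree38_1)
  (.lin 1 true)))

theorem ok38 : certOK (keys.getD 38 []) tree38 = true := by decide +kernel

end CfsgLib.Recog.UFourSylow.Cert
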