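import Cfsg.Agent.Lib.Recog.UFourSylow.Cert.Key
import Cfsg.Agent.Lib.Recog.UFourSylow.Cert.Keys

set_option autoImplicit false
set_option maxRecDepth 100000

/-!
Certificates, part 4 (owner: helper25; generator: `notes/u34_cert_helper25`).
-/

namespace CfsgLib.Recog.UFourSylow.Cert

/-- A certificate. -/
def tree0 : Tree :=
  .req 0 false

theorem ok0 : certOK (keys.getD 0 []) tree0 = true := by decide +kernel

/-- A certificate. -/
def tree1_1 : Tree :=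
  .sign 5 (.sign 2 (.sign 3 (.sign 6 (.sign 7 (.cut 0 1 (.lin 1 false) (.req 1 false)) (.cut 0 1 (.cut 1 1 (.cut 0
  0 (.cut 1 0 (.req 0 true) (.req 1 true)) (.req 1 false)) (.req 0 false)) (.req 1 false))) (.sign 7 (.cut 0 1
  (.cut 1 1 (.cut 0 0 (.cut 1 0 (.req 0 true) (.req 1 true)) (.req 1 false)) (.req 0 false)) (.req 1 false)) (.cut
  0 2 (.cut 1 1 (.cut 0 0 (.cut 1 0 (.req 0 true) (.req 1 true)) (.req 1 false)) (.req 0 false)) (.req 1 false))))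
  (.sign 6 (.sign 7 (.cut 0 1 (.lin 1 false) (.req 1 false)) (.cut 0 2 (.cut 1 1 (.cut 0 0 (.cut 1 0 (.req 0 true)
  (.req 1 true)) (.req 1 false)) (.req 0 false)) (.req 1 false))) (.sign 7 (.cut 0 2 (.cut 1 1 (.cut 0 0 (.cut 1 0
  (.req 0 true) (.req 1 true)) (.req 1 false)) (.req 0 false)) (.req 1 false)) (.cut 0 2 (.cut 1 1 (.cut 0 0 (.cut
  1 0 (.req 0 true) (.req 1 true)) (.req 1 false)) (.req 0 false)) (.req 1 false))))) (.sign 3 (.sign 6 (.sign 7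
  (.cut 0 1 (.lin 1 false) (.req 1 false)) (.cut 0 2 (.cut 1 1 (.cut 0 0 (.cut 1 0 (.req 0 true) (.req 1 true))
  (.req 1 false)) (.req 0 false)) (.req 1 false))) (.sign 7 (.cut 0 2 (.cut 1 1 (.cut 0 0 (.cut 1 0 (.req 0 true)
  (.req 1 true)) (.req 1 false)) (.req 0 false)) (.req 1 false)) (.cut 0 2 (.cut 1 1 (.cut 0 0 (.cut 1 0 (.req 0
  true) (.req 1 true)) (.req 1 false)) (.req 0 false)) (.req 1 false)))) (.lin 0 true))) (.sign 2 (.sign 3 (.sign 6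
  (.sign 7 (.cut 0 1 (.lin 2 false) (.req 1 false)) (.cut 0 1 (.cut 1 1 (.cut 0 0 (.cut 1 0 (.req 0 true) (.req 0
  false)) (.req 1 false)) (.req 0 false)) (.req 1 false))) (.sign 7 (.cut 0 1 (.cut 1 1 (.cut 0 0 (.cut 1 0 (.req 0
  true) (.req 0 false)) (.req 1 false)) (.req 0 false)) (.req 1 false)) (.cut 0 2 (.cut 1 0 (.req 0 true) (.req 0
  false)) (.req 1 false)))) (.sign 6 (.sign 7 (.cut 0 1 (.cut 1 1 (.cut 0 0 (.cut 1 0 (.req 0 true) (.req 1 true))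
  (.req 1 false)) (.req 0 false)) (.req 1 false)) (.cut 0 2 (.cut 1 1 (.cut 0 0 (.cut 1 0 (.req 0 true) (.req 1
  true)) (.req 1 false)) (.req 0 false)) (.req 1 false))) (.sign 7 (.cut 0 2 (.cut 1 1 (.cut 0 0 (.cut 1 0 (.req 0
  true) (.req 1 true)) (.req 1 false)) (.req 0 false)) (.req 1 false)) (.cut 0 2 (.cut 1 1 (.cut 0 0 (.cut 1 0
  (.req 0 true) (.req 0 false)) (.req 1 false)) (.req 0 false)) (.req 1 false))))) (.sign 3 (.sign 6 (.sign 7 (.cut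
  0 1 (.cut 1 1 (.cut 0 0 (.cut 1 0 (.req 0 true) (.req 1 true)) (.req 1 false)) (.req 0 false)) (.req 1 false))
  (.cut 0 2 (.cut 1 1 (.cut 0 0 (.cut 1 0 (.req 0 true) (.req 1 true)) (.req 1 false)) (.req 0 false)) (.req 1
  false))) (.sign 7 (.cut 0 2 (.cut 1 1 (.cut 0 0 (.cut 1 0 (.req 0 true) (.req 1 true)) (.req 1 false)) (.req 0
  false)) (.req 1 false)) (.cut 0 2 (.cut 1 1 (.cut 0 0 (.cut 1 0 (.req 0 true) (.req 0 false)) (.req 1 false))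
  (.req 0 false)) (.req 1 false)))) (.lin 0 true)))

/-- A certificate. -/
def tree1_2 : Tree :=
  .sign 5 (.sign 2 (.sign 3 (.sign 6 (.sign 7 (.cut 0 1 (.lin 2 false) (.req 1 false)) (.cut 0 1 (.cut 1 1 (.cut 0
  0 (.cut 1 0 (.req 0 true) (.req 0 false)) (.req 1 false)) (.req 0 false)) (.req 1 false))) (.sign 7 (.cut 0 1
  (.cut 1 1 (.cut 0 0 (.cut 1 0 (.req 0 true) (.req 0 false)) (.req 1 false)) (.req 0 false)) (.req 1 false)) (.cut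
  0 2 (.cut 1 0 (.req 0 true) (.req 0 false)) (.req 1 false)))) (.sign 6 (.sign 7 (.cut 0 1 (.cut 1 1 (.cut 0 0
  (.cut 1 0 (.req 0 true) (.req 1 true)) (.req 1 false)) (.req 0 false)) (.req 1 false)) (.cut 0 2 (.cut 1 1 (.cut
  0 0 (.cut 1 0 (.req 0 true) (.req 1 true)) (.req 1 false)) (.req 0 false)) (.req 1 false))) (.sign 7 (.cut 0 2
  (.cut 1 1 (.cut 0 0 (.cut 1 0 (.req 0 true) (.req 1 true)) (.req 1 false)) (.req 0 false)) (.req 1 false)) (.cut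
  0 2 (.cut 1 1 (.cut 0 0 (.cut 1 0 (.req 0 true) (.req 0 false)) (.req 1 false)) (.req 0 false)) (.req 1
  false))))) (.sign 3 (.sign 6 (.sign 7 (.cut 0 1 (.cut 1 1 (.cut 0 0 (.cut 1 0 (.req 0 true) (.req 1 true)) (.req
  1 false)) (.req 0 false)) (.req 1 false)) (.cut 0 2 (.cut 1 1 (.cut 0 0 (.cut 1 0 (.req 0 true) (.req 1 true))
  (.req 1 false)) (.req 0 false)) (.req 1 false))) (.sign 7 (.cut 0 2 (.cut 1 1 (.cut 0 0 (.cut 1 0 (.req 0 true)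
  (.req 1 true)) (.req 1 false)) (.req 0 false)) (.req 1 false)) (.cut 0 2 (.cut 1 1 (.cut 0 0 (.cut 1 0 (.req 0
  true) (.req 0 false)) (.req 1 false)) (.req 0 false)) (.req 1 false)))) (.lin 0 true))) (.sign 2 (.sign 3 (.sign
  6 (.sign 7 (.cut 0 1 (.lin 2 false) (.req 1 false)) (.cut 0 1 (.cut 1 0 (.req 0 true) (.req 0 false)) (.req 1
  false))) (.sign 7 (.cut 0 1 (.cut 1 0 (.req 0 true) (.req 0 false)) (.req 1 false)) (.lin 1 true))) (.sign 6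
  (.sign 7 (.cut 0 1 (.cut 1 0 (.req 0 true) (.req 0 false)) (.req 1 false)) (.cut 0 2 (.cut 1 0 (.req 0 true)
  (.req 0 false)) (.req 1 false))) (.sign 7 (.cut 0 2 (.cut 1 0 (.req 0 true) (.req 0 false)) (.req 1 false)) (.lin
  1 true)))) (.sign 3 (.sign 6 (.sign 7 (.cut 0 1 (.cut 1 0 (.req 0 true) (.req 0 false)) (.req 1 false)) (.cut 0 2
  (.cut 1 0 (.req 0 true) (.req 0 false)) (.req 1 false))) (.sign 7 (.cut 0 2 (.cut 1 0 (.req 0 true) (.req 0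
  false)) (.req 1 false)) (.lin 1 true))) (.lin 0 true)))

/-- A certificate. -/
def tree1 : Tree :=
  .sign 1 (.req 0 false) (.sign 0 (.req 1 false) (.sign 4 (tree1_1) (tree1_2)))

theorem ok1 : certOK (keys.getD 1 []) tree1 = true := by decide +kernel

/-- A certificate. -/
def tree3 : Tree :=
  .sign 1 (.req 0 false) (.req 1 false)

theorem ok3 : certOK (keys.getD 3 []) tree3 = true := by decide +kernel

/-- A certificate. -/
def tree5_1 : Tree :=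
  .cut 1 0 (.req 0 true) (.cut 0 0 (.lin 1 false) (.cut 3 1 (.lin 0 true) (.cut 2 0 (.cut 1 0 (.cut 3 2 (.cut 0 2
  (.cut 5 1 (.req 0 true) (.lin 1 false)) (.lin 0 true)) (.req 0 true)) (.cut 0 4 (.cut 3 5 (.req 0 false) (.lin 0
  false)) (.rlt 0))) (.cut 0 14 (.cut 1 0 (.cut 5 1 (.cut 0 2 (.cut 3 0 (.lin 0 true) (.cut 2 0 (.cut 3 2 (.cut 5 0
  (.req 0 true) (.req 0 false)) (.lin 0 false)) (.cut 5 0 (.cut 0 0 (.cut 3 102 (.cut 2 101 (.cut 3 68 (.cut 2 67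
  (.cut 3 58 (.cut 2 57 (.cut 3 0 (.lin 0 true) (.cut 2 0 (.req 0 true) (.cut 3 1 (.req 0 false) (.cut 2 0 (.lin 0
  false) (.cut 3 0 (.req 0 false) (.cut 2 0 (.lin 0 false) (.cut 3 1 (.req 0 false) (.cut 2 1 (.lin 0 false) (.cut
  3 3 (.req 0 false) (.cut 2 3 (.lin 0 false) (.cut 3 5 (.req 0 false) (.cut 2 5 (.lin 0 false) (.cut 3 7 (.req 0
  false) (.cut 2 7 (.lin 0 false) (.cut 3 7 (.req 0 false) (.cut 2 7 (.lin 0 false) (.cut 3 6 (.req 0 false) (.cut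
  3 15 (.cut 2 6 (.lin 0 false) (.cut 2 15 (.cut 3 13 (.cut 2 13 (.cut 3 4 (.req 0 false) (.cut 3 7 (.cut 2 4 (.lin
  0 false) (.cut 2 7 (.cut 3 6 (.cut 2 5 (.cut 3 5 (.cut 2 3 (.cut 3 3 (.cut 2 0 (.cut 3 0 (.req 0 false) (.lin 0
  false)) (.req 0 false)) (.lin 0 false)) (.req 0 false)) (.lin 0 false)) (.req 0 false)) (.req 0 true)) (.lin 0
  true))) (.req 0 true))) (.lin 0 true)) (.req 0 true)) (.lin 0 true))) (.req 0 true))))))))))))))))))) (.lin 0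
  true)) (.req 0 true)) (.lin 0 true)) (.req 0 true)) (.lin 0 true)) (.req 0 true)) (.lin 1 true)) (.req 0
  false)))) (.lin 1 true)) (.req 0 false)) (.req 0 false)) (.rlt 0)))))

/-- A certificate. -/
def tree5_2 : Tree :=
  .cut 1 0 (.req 0 true) (.cut 0 0 (.lin 1 false) (.cut 3 1 (.lin 0 true) (.cut 2 0 (.cut 1 0 (.cut 3 2 (.cut 0 2
  (.cut 5 1 (.req 0 true) (.lin 1 false)) (.lin 0 true)) (.req 0 true)) (.cut 0 4 (.cut 3 5 (.req 0 false) (.lin 0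
  false)) (.rlt 0))) (.cut 0 14 (.cut 1 0 (.cut 5 1 (.cut 0 2 (.cut 3 0 (.lin 0 true) (.cut 2 0 (.cut 3 2 (.cut 5 0
  (.req 0 true) (.req 0 false)) (.lin 0 false)) (.cut 5 0 (.cut 0 0 (.cut 3 102 (.cut 2 101 (.cut 3 68 (.cut 2 67
  (.cut 3 58 (.cut 2 57 (.cut 3 0 (.lin 0 true) (.cut 2 0 (.req 0 true) (.cut 3 1 (.req 0 false) (.cut 2 0 (.lin 0
  false) (.cut 3 0 (.req 0 false) (.cut 2 0 (.lin 0 false) (.cut 3 1 (.req 0 false) (.cut 2 1 (.lin 0 false) (.cut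
  3 3 (.req 0 false) (.cut 2 3 (.lin 0 false) (.cut 3 5 (.req 0 false) (.cut 2 5 (.lin 0 false) (.cut 3 7 (.req 0
  false) (.cut 2 7 (.lin 0 false) (.cut 3 7 (.req 0 false) (.cut 2 7 (.lin 0 false) (.cut 3 6 (.req 0 false) (.cut
  3 15 (.cut 2 6 (.lin 0 false) (.cut 2 15 (.cut 3 13 (.cut 2 13 (.cut 3 4 (.req 0 false) (.cut 3 7 (.cut 2 4 (.lin
  0 false) (.cut 2 7 (.cut 3 6 (.cut 2 5 (.cut 3 5 (.cut 2 3 (.cut 3 3 (.cut 2 0 (.cut 3 0 (.req 0 false) (.lin 0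
  false)) (.req 0 false)) (.lin 0 false)) (.req 0 false)) (.lin 0 false)) (.req 0 false)) (.req 0 true)) (.lin 0
  true))) (.req 0 true))) (.lin 0 true)) (.req 0 true)) (.lin 0 true))) (.req 0 true))))))))))))))))))) (.lin 0
  true)) (.req 0 true)) (.lin 0 true)) (.req 0 true)) (.lin 0 true)) (.req 0 true)) (.lin 1 true)) (.req 0
  false)))) (.lin 1 true)) (.req 0 false)) (.req 0 false)) (.rlt 0)))))

/-- A certificate. -/
def tree5_3 : Tree :=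
  .cut 0 5949104 (.rlt 1) (.cut 5 2974552 (.lin 1 false) (.cut 0 16525294 (.rlt 1) (.cut 5 8262646 (.lin 1 false)
  (.cut 0 45903585 (.rlt 1) (.cut 5 22951792 (.lin 1 false) (.cut 0 127509903 (.rlt 1) (.cut 5 63754951 (.lin 1
  false) (.cut 0 354194242 (.rlt 1) (.cut 5 177097121 (.lin 1 false) (.cut 0 983871605 (.rlt 1) (.cut 5 491935802
  (.lin 1 false) (.cut 0 2732938168 (.rlt 1) (.cut 5 1366469083 (.lin 1 false) (.cut 0 7591368363 (.rlt 1) (.cut 5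
  3795684181 (.lin 1 false) (.cut 0 21085029891 (.rlt 1) (.cut 5 10542514945 (.lin 1 false) (.cut 0 58564942971
  (.rlt 1) (.cut 5 29282471485 (.lin 1 false) (.cut 0 162563897736 (.rlt 1) (.cut 5 81281948868 (.lin 1 false)
  (.cut 0 450739668765 (.rlt 1) (.cut 5 225369834382 (.lin 1 false) (.cut 0 1249872192257 (.rlt 1) (.cut 5
  624936096128 (.lin 1 false) (.cut 0 3474999712477 (.rlt 1) (.cut 5 1737499856238 (.lin 1 false) (.cut 0
  9230467986266 (.rlt 1) (.cut 5 4615233993132 (.lin 1 false) (.cut 0 25322085973022 (.rlt 1) (.cut 5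
  12661042986511 (.lin 1 false) (.cut 0 69968921767563 (.rlt 1) (.cut 5 34984460883781 (.lin 1 false) (.cut 1 0
  (.req 0 true) (.cut 0 109951162777599 (.rlt 1) (.cut 5 54975581388799 (.lin 1 false) (.cut 0 219902325555199
  (.rlt 1) (.cut 5 109951162777599 (.lin 1 false) (.cut 2 0 (.cut 3 439804651110394 (.lin 0 false) (.cut 1 0 (.req
  0 true) (.req 0 false))) (.cut 1 0 (.cut 3 4 (.cut 2 439804651110390 (.lin 0 false) (.cut 3 0 (.req 0 true) (.req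
  0 false))) (.req 0 false)) (.req 0 false)))))))))))))))))))))))))))))))))))))))))

/-- A certificate. -/
def tree5_4 : Tree :=
  .cut 0 5949104 (.rlt 1) (.cut 5 2974552 (.lin 1 false) (.cut 0 16525294 (.rlt 1) (.cut 5 8262646 (.lin 1 false)
  (.cut 0 45903585 (.rlt 1) (.cut 5 22951792 (.lin 1 false) (.cut 0 127509903 (.rlt 1) (.cut 5 63754951 (.lin 1
  false) (.cut 0 354194242 (.rlt 1) (.cut 5 177097121 (.lin 1 false) (.cut 0 983871605 (.rlt 1) (.cut 5 491935802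
  (.lin 1 false) (.cut 0 2732938168 (.rlt 1) (.cut 5 1366469083 (.lin 1 false) (.cut 0 7591368363 (.rlt 1) (.cut 5
  3795684181 (.lin 1 false) (.cut 0 21085029891 (.rlt 1) (.cut 5 10542514945 (.lin 1 false) (.cut 0 58564942971
  (.rlt 1) (.cut 5 29282471485 (.lin 1 false) (.cut 0 162563897736 (.rlt 1) (.cut 5 81281948868 (.lin 1 false)
  (.cut 0 450739668765 (.rlt 1) (.cut 5 225369834382 (.lin 1 false) (.cut 0 1249872192257 (.rlt 1) (.cut 5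
  624936096128 (.lin 1 false) (.cut 0 3474999712477 (.rlt 1) (.cut 5 1737499856238 (.lin 1 false) (.cut 0
  9230467986266 (.rlt 1) (.cut 5 4615233993132 (.lin 1 false) (.cut 0 25322085973022 (.rlt 1) (.cut 5
  12661042986511 (.lin 1 false) (.cut 0 69968921767563 (.rlt 1) (.cut 5 34984460883781 (.lin 1 false) (.cut 1 0
  (.req 0 true) (.cut 0 109951162777599 (.rlt 1) (.cut 5 54975581388799 (.lin 1 false) (.cut 0 219902325555199
  (.rlt 1) (.cut 5 109951162777599 (.lin 1 false) (.cut 2 0 (.cut 3 439804651110394 (.lin 0 false) (.cut 1 0 (.req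
  0 true) (.req 0 false))) (.cut 1 0 (.cut 3 4 (.cut 2 439804651110390 (.lin 0 false) (.cut 3 0 (.req 0 true) (.req
  0 false))) (.req 0 false)) (.req 0 false)))))))))))))))))))))))))))))))))))))))))

/-- A certificate. -/
def tree5_5 : Tree :=
  .sign 4 (.cut 1 2 (.cut 0 3 (.rlt 1) (.cut 5 1 (.lin 1 false) (.cut 0 10 (.rlt 1) (.cut 5 4 (.lin 1 false) (.cut
  0 27 (.rlt 1) (.cut 5 13 (.lin 1 false) (.cut 0 77 (.rlt 1) (.cut 5 38 (.lin 1 false) (.cut 0 216 (.rlt 1) (.cut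
  5 108 (.lin 1 false) (.cut 0 604 (.rlt 1) (.cut 5 301 (.lin 1 false) (.cut 0 1677 (.rlt 1) (.cut 5 838 (.lin 1
  false) (.cut 0 4660 (.rlt 1) (.cut 5 2330 (.lin 1 false) (.cut 0 12949 (.rlt 1) (.cut 5 6474 (.lin 1 false) (.cut
  0 35971 (.rlt 1) (.cut 5 17985 (.lin 1 false) (.cut 0 99922 (.rlt 1) (.cut 5 49960 (.lin 1 false) (.cut 0 277560
  (.rlt 1) (.cut 5 138780 (.lin 1 false) (.cut 0 771004 (.rlt 1) (.cut 5 385501 (.lin 1 false) (.cut 0 2141677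
  (.rlt 1) (.cut 5 1070838 (.lin 1 false) (tree5_3))))))))))))))))))))))))))))) (.req 0 false)) (.cut 1 2 (.cut 0 3
  (.rlt 1) (.cut 5 1 (.lin 1 false) (.cut 0 10 (.rlt 1) (.cut 5 4 (.lin 1 false) (.cut 0 27 (.rlt 1) (.cut 5 13
  (.lin 1 false) (.cut 0 77 (.rlt 1) (.cut 5 38 (.lin 1 false) (.cut 0 216 (.rlt 1) (.cut 5 108 (.lin 1 false)
  (.cut 0 604 (.rlt 1) (.cut 5 301 (.lin 1 false) (.cut 0 1677 (.rlt 1) (.cut 5 838 (.lin 1 false) (.cut 0 4660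
  (.rlt 1) (.cut 5 2330 (.lin 1 false) (.cut 0 12949 (.rlt 1) (.cut 5 6474 (.lin 1 false) (.cut 0 35971 (.rlt 1)
  (.cut 5 17985 (.lin 1 false) (.cut 0 99922 (.rlt 1) (.cut 5 49960 (.lin 1 false) (.cut 0 277560 (.rlt 1) (.cut 5
  138780 (.lin 1 false) (.cut 0 771004 (.rlt 1) (.cut 5 385501 (.lin 1 false) (.cut 0 2141677 (.rlt 1) (.cut 5
  1070838 (.lin 1 false) (tree5_4))))))))))))))))))))))))))))) (.req 0 false))

/-- A certificate. -/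
def tree5_6 : Tree :=
  .sign 4 (.cut 1 1 (.cut 2 2 (.lin 0 true) (.cut 1 0 (.req 0 true) (.cut 0 0 (.lin 1 false) (.cut 2 1 (.lin 0
  true) (.cut 3 1 (.cut 5 1 (.req 0 true) (.cut 0 3 (.lin 1 false) (.cut 2 3 (.lin 0 true) (.cut 3 0 (.req 0 true)
  (.cut 0 24 (.cut 2 25 (.cut 5 1 (.cut 0 2 (.cut 2 3 (.cut 5 0 (.req 0 true) (.req 0 false)) (.lin 0 false)) (.lin
  1 true)) (.req 0 false)) (.lin 0 false)) (.rlt 0)))))) (.cut 0 14 (.cut 5 1 (.cut 0 2 (.cut 2 1 (.lin 0 true)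
  (.cut 3 0 (.req 0 true) (.cut 2 0 (.lin 0 true) (.cut 3 2 (.cut 2 4 (.cut 5 0 (.req 0 true) (.req 0 false)) (.lin
  0 false)) (.cut 5 0 (.cut 0 0 (.cut 2 38 (.cut 3 35 (.cut 2 4 (.cut 3 1 (.req 0 true) (.lin 0 true)) (.req 0
  true)) (.lin 0 true)) (.req 0 true)) (.lin 1 true)) (.req 0 false)))))) (.lin 1 true)) (.req 0 false)) (.rlt
  0))))))) (.req 0 false)) (.cut 1 1 (.cut 2 2 (.lin 0 true) (.cut 1 0 (.req 0 true) (.cut 0 0 (.lin 1 false) (.cut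
  2 1 (.lin 0 true) (.cut 3 1 (.cut 5 1 (.req 0 true) (.cut 0 3 (.lin 1 false) (.cut 2 3 (.lin 0 true) (.cut 3 0
  (.req 0 true) (.cut 0 24 (.cut 2 25 (.cut 5 1 (.cut 0 2 (.cut 2 3 (.cut 5 0 (.req 0 true) (.req 0 false)) (.lin 0
  false)) (.lin 1 true)) (.req 0 false)) (.lin 0 false)) (.rlt 0)))))) (.cut 0 14 (.cut 5 1 (.cut 0 2 (.cut 2 1
  (.lin 0 true) (.cut 3 0 (.req 0 true) (.cut 2 0 (.lin 0 true) (.cut 3 2 (.cut 2 4 (.cut 5 0 (.req 0 true) (.req 0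
  false)) (.lin 0 false)) (.cut 5 0 (.cut 0 0 (.cut 2 38 (.cut 3 35 (.cut 2 4 (.cut 3 1 (.req 0 true) (.lin 0
  true)) (.req 0 true)) (.lin 0 true)) (.req 0 true)) (.lin 1 true)) (.req 0 false)))))) (.lin 1 true)) (.req 0
  false)) (.rlt 0))))))) (.req 0 false))

/-- A certificate. -/
def tree5 : Tree :=
  .sign 1 (.req 0 false) (.sign 3 (.sign 0 (.sign 5 (.lin 1 false) (.sign 2 (.sign 4 (.cut 1 0 (.lin 0 false) (.req
  0 false)) (.cut 1 0 (.lin 0 false) (.req 0 false))) (.sign 4 (.cut 1 1 (.cut 0 3 (.rlt 1) (.cut 2 2 (.lin 0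
  false) (.cut 1 0 (.cut 3 0 (.cut 5 0 (.lin 1 false) (.req 0 true)) (.req 0 true)) (.req 0 false)))) (.req 0
  false)) (.cut 1 1 (.cut 0 3 (.rlt 1) (.cut 2 2 (.lin 0 false) (.cut 1 0 (.cut 3 0 (.cut 5 0 (.lin 1 false) (.req
  0 true)) (.req 0 true)) (.req 0 false)))) (.req 0 false))))) (.sign 5 (.sign 2 (.sign 4 (.cut 1 1 (.cut 1 0 (.req
  0 true) (.cut 0 5 (.cut 2 6 (.req 0 false) (.lin 0 false)) (.rlt 0))) (.req 0 false)) (.cut 1 1 (.cut 1 0 (.req 0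
  true) (.cut 0 5 (.cut 2 6 (.req 0 false) (.lin 0 false)) (.rlt 0))) (.req 0 false))) (.sign 4 (.cut 1 2 (.cut 3 1
  (.lin 0 true) (tree5_1)) (.req 0 false)) (.cut 1 2 (.cut 3 1 (.lin 0 true) (tree5_2)) (.req 0 false)))) (.lin 1
  true))) (.sign 0 (.sign 5 (.lin 1 false) (.sign 2 (.sign 4 (.cut 1 1 (.cut 0 3 (.rlt 1) (.cut 5 1 (.lin 1 false)
  (.cut 0 10 (.rlt 1) (.cut 3 12 (.lin 0 false) (.cut 1 0 (.req 0 true) (.req 0 false)))))) (.req 0 false)) (.cut 1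
  1 (.cut 0 3 (.rlt 1) (.cut 5 1 (.lin 1 false) (.cut 0 10 (.rlt 1) (.cut 3 12 (.lin 0 false) (.cut 1 0 (.req 0
  true) (.req 0 false)))))) (.req 0 false))) (tree5_5))) (.sign 2 (.sign 5 (tree5_6) (.lin 1 true)) (.lin 0
  true))))

theorem ok5 : certOK (keys.getD 5 []) tree5 = true := by decide +kernel

/-- A certificate. -/
def tree8 : Tree :=
  .sign 1 (.req 0 false) (.sign 0 (.sign 4 (.req 1 false) (.sign 5 (.lin 1 false) (.sign 2 (.sign 3 (.cut 1 0 (.lin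
  0 false) (.req 0 false)) (.cut 1 0 (.req 0 true) (.req 0 false))) (.sign 3 (.cut 1 0 (.req 0 true) (.req 0
  false)) (.cut 1 0 (.req 0 true) (.req 0 false)))))) (.sign 5 (.sign 2 (.sign 3 (.sign 4 (.cut 0 1 (.lin 2 false)
  (.req 1 false)) (.cut 1 1 (.cut 0 5 (.cut 2 6 (.cut 3 6 (.cut 5 2 (.cut 4 5 (.cut 1 0 (.req 0 true) (.cut 5 0
  (.cut 2 4 (.req 0 false) (.cut 3 1 (.req 0 false) (.lin 0 false))) (.req 0 false))) (.lin 2 true)) (.lin 1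
  false)) (.lin 0 false)) (.lin 0 false)) (.req 1 false)) (.req 0 false))) (.sign 4 (.cut 0 1 (.cut 1 1 (.cut 0 0
  (.lin 1 false) (.req 1 false)) (.req 0 false)) (.req 1 false)) (.cut 1 1 (.cut 0 6 (.cut 5 2 (.cut 2 1 (.lin 0
  true) (.cut 1 0 (.req 0 true) (.cut 5 0 (.req 0 true) (.req 0 false)))) (.lin 1 false)) (.req 1 false)) (.req 0
  false)))) (.sign 3 (.sign 4 (.cut 0 1 (.cut 1 1 (.cut 0 0 (.lin 1 false) (.req 1 false)) (.req 0 false)) (.req 1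
  false)) (.cut 1 1 (.cut 0 6 (.cut 5 2 (.cut 3 1 (.lin 0 true) (.cut 1 0 (.req 0 true) (.cut 5 0 (.req 0 true)
  (.req 0 false)))) (.lin 1 false)) (.req 1 false)) (.req 0 false))) (.lin 0 true))) (.lin 1 true)))

theorem ok8 : certOK (keys.getD 8 []) tree8 = true := by decide +kernel

/-- A certificate. -/
def tree9 : Tree :=
  .req 0 false

theorem ok9 : certOK (keys.getD 9 []) tree9 = true := by decide +kernel

/-- A certificate. -/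
def tree11 : Tree :=
  .req 0 false

theorem ok11 : certOK (keys.getD 11 []) tree11 = true := by decide +kernel

/-- A certificate. -/
def tree16_1 : Tree :=
  .sign 6 (.sign 2 (.sign 3 (.sign 4 (.cut 0 1 (.lin 2 false) (.req 1 false)) (.cut 0 1 (.lin 2 false) (.req 1
  false))) (.sign 4 (.cut 0 1 (.cut 1 30 (.cut 5 1 (.cut 0 0 (.cut 1 0 (.req 0 true) (.req 1 true)) (.rlt 1)) (.lin
  1 false)) (.req 1 true)) (.req 1 false)) (.cut 0 1 (.cut 1 30 (.cut 5 1 (.cut 0 0 (.cut 1 0 (.req 0 true) (.req 1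
  true)) (.rlt 1)) (.lin 1 false)) (.req 1 true)) (.req 1 false)))) (.sign 3 (.sign 4 (.cut 0 1 (.cut 1 30 (.cut 5
  1 (.cut 0 0 (.cut 1 0 (.req 0 true) (.req 1 true)) (.rlt 1)) (.lin 1 false)) (.req 1 true)) (.req 1 false)) (.cut
  0 1 (.cut 1 30 (.cut 5 1 (.cut 0 0 (.cut 1 0 (.req 0 true) (.req 1 true)) (.rlt 1)) (.lin 1 false)) (.req 1
  true)) (.req 1 false))) (.lin 0 true))) (.sign 2 (.sign 3 (.sign 4 (.cut 0 2 (.cut 5 2 (.lin 1 true) (.cut 1 1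
  (.cut 0 0 (.cut 1 0 (.req 0 true) (.req 1 true)) (.req 1 false)) (.req 0 false))) (.req 1 false)) (.cut 0 2 (.cut
  5 2 (.lin 1 true) (.cut 1 1 (.cut 0 0 (.cut 1 0 (.req 0 true) (.req 1 true)) (.req 1 false)) (.req 0 false)))
  (.req 1 false))) (.sign 4 (.cut 0 2 (.cut 5 2 (.lin 1 true) (.cut 1 1 (.cut 0 0 (.cut 1 0 (.req 0 true) (.req 1
  true)) (.req 1 false)) (.req 0 false))) (.req 1 false)) (.cut 0 2 (.cut 5 2 (.lin 1 true) (.cut 1 1 (.cut 0 0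
  (.cut 1 0 (.req 0 true) (.req 1 true)) (.req 1 false)) (.req 0 false))) (.req 1 false)))) (.sign 3 (.sign 4 (.cut
  0 2 (.cut 5 2 (.lin 1 true) (.cut 1 1 (.cut 0 0 (.cut 1 0 (.req 0 true) (.req 1 true)) (.req 1 false)) (.req 0
  false))) (.req 1 false)) (.cut 0 2 (.cut 5 2 (.lin 1 true) (.cut 1 1 (.cut 0 0 (.cut 1 0 (.req 0 true) (.req 1
  true)) (.req 1 false)) (.req 0 false))) (.req 1 false))) (.lin 0 true)))

/-- A certificate. -/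
def tree16 : Tree :=
  .sign 5 (.sign 1 (.sign 0 (.rlt 0) (.sign 6 (.sign 2 (.sign 3 (.sign 4 (.cut 0 0 (.lin 0 false) (.rlt 0)) (.cut 0
  0 (.lin 0 false) (.rlt 0))) (.sign 4 (.cut 0 0 (.req 1 true) (.rlt 0)) (.cut 0 0 (.req 1 true) (.rlt 0)))) (.sign
  3 (.sign 4 (.cut 0 0 (.req 1 true) (.rlt 0)) (.cut 0 0 (.req 1 true) (.rlt 0))) (.sign 4 (.cut 0 0 (.req 1 true)
  (.rlt 0)) (.cut 0 0 (.req 1 true) (.rlt 0))))) (.sign 2 (.sign 3 (.sign 4 (.cut 0 0 (.lin 0 false) (.rlt 0))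
  (.cut 0 0 (.lin 0 false) (.rlt 0))) (.sign 4 (.cut 0 0 (.req 1 true) (.rlt 0)) (.cut 0 0 (.req 1 true) (.rlt
  0)))) (.sign 3 (.sign 4 (.cut 0 0 (.req 1 true) (.rlt 0)) (.cut 0 0 (.req 1 true) (.rlt 0))) (.lin 2 true)))))
  (.sign 0 (.req 1 false) (tree16_1))) (.sign 1 (.req 0 false) (.sign 0 (.req 1 false) (.sign 6 (.sign 2 (.sign 3
  (.sign 4 (.cut 0 1 (.lin 2 false) (.req 1 false)) (.cut 0 1 (.lin 2 false) (.req 1 false))) (.sign 4 (.cut 0 1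
  (.cut 1 0 (.req 1 false) (.req 0 false)) (.req 1 false)) (.cut 0 1 (.cut 1 0 (.req 1 false) (.req 0 false)) (.req
  1 false)))) (.sign 3 (.sign 4 (.cut 0 1 (.cut 1 0 (.req 1 false) (.req 0 false)) (.req 1 false)) (.cut 0 1 (.cut
  1 0 (.req 1 false) (.req 0 false)) (.req 1 false))) (.lin 0 true))) (.lin 1 true))))

theorem ok16 : certOK (keys.getD 16 []) tree16 = true := by decide +kernel

/-- A certificate. -/
def tree18_1 : Tree :=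
  .sign 5 (.sign 6 (.sign 2 (.sign 3 (.sign 4 (.cut 0 1 (.lin 2 false) (.req 1 false)) (.cut 1 1 (.cut 0 5 (.cut 2
  6 (.cut 3 6 (.cut 5 4 (.cut 6 4 (.cut 4 7 (.cut 1 0 (.req 0 true) (.cut 5 0 (.cut 6 0 (.cut 2 4 (.req 0 false)
  (.cut 3 1 (.req 0 false) (.lin 0 false))) (.req 0 false)) (.req 0 false))) (.lin 2 true)) (.lin 1 false)) (.lin 1
  false)) (.lin 0 false)) (.lin 0 false)) (.req 1 false)) (.req 0 false))) (.sign 4 (.cut 0 1 (.cut 1 1 (.cut 0 0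
  (.lin 1 false) (.req 1 false)) (.req 0 false)) (.req 1 false)) (.cut 1 1 (.cut 0 6 (.cut 5 5 (.cut 6 5 (.cut 2 1
  (.lin 0 true) (.cut 1 0 (.req 0 true) (.cut 5 0 (.cut 6 0 (.req 0 true) (.req 0 false)) (.req 0 false)))) (.lin 1
  false)) (.lin 1 false)) (.req 1 false)) (.req 0 false)))) (.sign 3 (.sign 4 (.cut 0 1 (.cut 1 1 (.cut 0 0 (.lin 1
  false) (.req 1 false)) (.req 0 false)) (.req 1 false)) (.cut 1 1 (.cut 0 6 (.cut 5 5 (.cut 6 5 (.cut 3 1 (.lin 0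
  true) (.cut 1 0 (.req 0 true) (.cut 5 0 (.cut 6 0 (.req 0 true) (.req 0 false)) (.req 0 false)))) (.lin 1 false))
  (.lin 1 false)) (.req 1 false)) (.req 0 false))) (.lin 0 true))) (.sign 2 (.sign 3 (.sign 4 (.cut 0 3 (.cut 1 0
  (.req 0 true) (.req 0 false)) (.req 1 false)) (.cut 1 0 (.req 0 true) (.req 0 false))) (.sign 4 (.cut 0 3 (.cut 1
  0 (.req 0 true) (.req 0 false)) (.req 1 false)) (.cut 1 0 (.req 0 true) (.req 0 false)))) (.sign 3 (.sign 4 (.cut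
  0 3 (.cut 1 0 (.req 0 true) (.req 0 false)) (.req 1 false)) (.cut 1 0 (.req 0 true) (.req 0 false))) (.lin 0
  true)))) (.sign 6 (.sign 2 (.sign 3 (.sign 4 (.cut 0 3 (.cut 1 0 (.req 0 true) (.req 0 false)) (.req 1 false))
  (.cut 1 0 (.req 0 true) (.req 0 false))) (.sign 4 (.cut 0 3 (.cut 1 0 (.req 0 true) (.req 0 false)) (.req 1
  false)) (.cut 1 0 (.req 0 true) (.req 0 false)))) (.sign 3 (.sign 4 (.cut 0 3 (.cut 1 0 (.req 0 true) (.req 0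
  false)) (.req 1 false)) (.cut 1 0 (.req 0 true) (.req 0 false))) (.lin 0 true))) (.lin 1 true))

/-- A certificate. -/
def tree18 : Tree :=
  .sign 1 (.req 0 false) (.sign 0 (.sign 4 (.req 1 false) (.sign 5 (.sign 6 (.lin 1 false) (.sign 2 (.sign 3 (.cut
  1 0 (.lin 0 false) (.req 0 false)) (.cut 1 0 (.req 0 true) (.req 0 false))) (.sign 3 (.cut 1 0 (.req 0 true)
  (.req 0 false)) (.cut 1 0 (.req 0 true) (.req 0 false))))) (.sign 6 (.sign 2 (.sign 3 (.cut 1 0 (.lin 0 false)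
  (.req 0 false)) (.cut 1 0 (.req 0 true) (.req 0 false))) (.sign 3 (.cut 1 0 (.req 0 true) (.req 0 false)) (.cut 1
  0 (.req 0 true) (.req 0 false)))) (.sign 2 (.sign 3 (.cut 1 0 (.lin 0 false) (.req 0 false)) (.cut 1 0 (.req 0
  true) (.req 0 false))) (.sign 3 (.cut 1 0 (.req 0 true) (.req 0 false)) (.cut 1 0 (.req 0 true) (.req 0
  false))))))) (tree18_1))

theorem ok18 : certOK (keys.getD 18 []) tree18 = true := by decide +kernel

/-- A certificate. -/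
def tree19 : Tree :=
  .req 0 false

theorem ok19 : certOK (keys.getD 19 []) tree19 = true := by decide +kernel

/-- A certificate. -/
def tree22 : Tree :=
  .req 0 false

theorem ok22 : certOK (keys.getD 22 []) tree22 = true := by decide +kernel

/-- A certificate. -/
def tree24 : Tree :=
  .sign 0 (.rlt 0) (.sign 1 (.rlt 0) (.sign 2 (.rlt 0) (.sign 3 (.rlt 0) (.lin 0 true))))

theorem ok24 : certOK (keys.getD 24 []) tree24 = true := by decide +kernel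

/-- A certificate. -/
def tree31 : Tree :=
  .sign 1 (.req 0 false) (.sign 0 (.sign 4 (.lin 1 false) (.sign 2 (.sign 3 (.cut 1 0 (.lin 0 false) (.req 0
  false)) (.cut 1 0 (.req 0 true) (.req 0 false))) (.sign 3 (.cut 1 0 (.req 0 true) (.req 0 false)) (.cut 1 0 (.req
  0 true) (.req 0 false))))) (.sign 4 (.sign 2 (.sign 3 (.cut 1 1 (.cut 1 0 (.req 0 true) (.cut 0 5 (.cut 2 6 (.cut
  3 6 (.cut 4 0 (.cut 2 4 (.req 0 false) (.cut 3 1 (.req 0 false) (.lin 0 false))) (.req 0 false)) (.lin 0 false))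
  (.lin 0 false)) (.rlt 0))) (.req 0 false)) (.cut 1 1 (.cut 2 1 (.lin 0 true) (.cut 1 0 (.req 0 true) (.cut 0 5
  (.cut 4 0 (.req 0 true) (.req 0 false)) (.rlt 0)))) (.req 0 false))) (.sign 3 (.cut 1 1 (.cut 3 1 (.lin 0 true)
  (.cut 1 0 (.req 0 true) (.cut 0 5 (.cut 4 0 (.req 0 true) (.req 0 false)) (.rlt 0)))) (.req 0 false)) (.lin 0
  true))) (.lin 1 true)))

theorem ok31 : certOK (keys.getD 31 []) tree31 = true := by decide +kernel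

/-- A certificate. -/
def tree32 : Tree :=
  .req 0 false

theorem ok32 : certOK (keys.getD 32 []) tree32 = true := by decide +kernel

/-- A certificate. -/
def tree34_1 : Tree :=
  .cut 4 7 (.cut 1 0 (.lin 0 true) (.cut 4 1 (.cut 3 0 (.req 0 true) (.cut 5 0 (.lin 1 false) (.cut 4 0 (.cut 3 5
  (.cut 5 11 (.cut 5 0 (.lin 1 false) (.cut 1 0 (.req 0 false) (.cut 2 0 (.lin 0 false) (.cut 3 4 (.cut 5 8 (.cut 1
  1 (.cut 2 1 (.cut 3 0 (.cut 1 0 (.cut 2 0 (.req 0 true) (.lin 0 true)) (.req 0 true)) (.req 0 false)) (.lin 0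
  true)) (.cut 2 1 (.lin 0 false) (.cut 3 0 (.req 0 true) (.cut 5 1 (.lin 1 false) (.cut 3 2 (.cut 5 4 (.cut 1 1
  (.req 0 false) (.cut 2 1 (.lin 0 false) (.cut 1 3 (.cut 2 3 (.cut 3 0 (.req 0 true) (.req 0 false)) (.lin 0
  true)) (.cut 2 3 (.lin 0 false) (.cut 3 0 (.req 0 true) (.cut 1 4 (.req 0 false) (.cut 2 4 (.lin 0 false) (.cut 5
  1 (.lin 1 false) (.cut 1 451 (.cut 2 451 (.cut 1 423 (.cut 2 423 (.cut 1 0 (.req 0 false) (.cut 2 0 (.lin 0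
  false) (.cut 1 8 (.cut 3 0 (.cut 5 0 (.cut 2 8 (.cut 1 0 (.req 0 false) (.req 0 true)) (.lin 0 true)) (.lin 1
  true)) (.req 0 false)) (.cut 2 8 (.lin 0 false) (.cut 3 0 (.req 0 true) (.cut 1 124 (.req 0 false) (.cut 2 124
  (.lin 0 false) (.cut 1 68 (.req 0 false) (.cut 2 68 (.lin 0 false) (.cut 5 1 (.lin 1 false) (.cut 1 13 (.cut 2 13
  (.cut 1 7 (.cut 2 7 (.cut 1 6 (.req 0 false) (.req 0 true)) (.lin 0 true)) (.req 0 true)) (.lin 0 true)) (.req 0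
  true)))))))))))) (.lin 0 true)) (.req 0 true)) (.lin 0 true)) (.req 0 true)))))))))) (.lin 1 true)) (.req 0
  false)))))) (.lin 1 true)) (.req 0 false))))) (.lin 1 true)) (.req 0 false)) (.cut 1 0 (.cut 2 0 (.req 0 true)
  (.lin 0 true)) (.req 0 true))))) (.req 0 true))) (.req 0 true)

/-- A certificate. -/
def tree34_2 : Tree :=
  .cut 3 0 (.cut 4 0 (.req 0 false) (.cut 1 20 (.cut 2 20 (.cut 5 0 (.lin 1 true) (.cut 1 19 (.cut 2 19 (.cut 1 1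
  (.cut 2 1 (.cut 4 3 (.req 0 false) (.cut 5 3 (.lin 1 true) (.cut 1 0 (.cut 2 0 (.cut 4 162 (.cut 5 162 (.cut 4 79
  (.req 0 false) (.cut 5 79 (.lin 1 true) (.cut 4 64 (.req 0 false) (.cut 4 7 (.cut 5 64 (.lin 1 true) (.cut 5 2
  (.cut 4 2 (.req 0 false) (.lin 1 true)) (.req 0 false))) (.req 0 true))))) (.lin 1 false)) (.req 0 true)) (.lin 0
  true)) (.cut 4 1 (.cut 2 0 (.lin 0 false) (.req 0 false)) (.req 0 true))))) (.lin 0 true)) (.cut 4 3 (.cut 5 3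
  (.cut 2 1 (.lin 0 false) (.cut 1 14 (.cut 2 14 (.cut 1 2 (.cut 2 2 (.cut 4 2 (.cut 5 2 (.cut 4 0 (.req 0 false)
  (.cut 1 0 (.req 0 false) (.cut 4 0 (.cut 2 1 (.cut 1 0 (.req 0 false) (.lin 0 false)) (.req 0 false)) (.req 0
  true)))) (.lin 1 false)) (.req 0 true)) (.lin 0 true)) (.cut 4 0 (.cut 5 0 (.cut 2 2 (.lin 0 false) (.cut 1 8
  (.req 0 false) (.cut 2 8 (.lin 0 false) (.cut 1 1 (.req 0 false) (.req 0 true))))) (.lin 1 false)) (.req 0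
  true))) (.lin 0 true)) (.req 0 true))) (.lin 1 false)) (.req 0 true))) (.lin 0 true)) (.req 0 true))) (.lin 0
  true)) (.req 0 true))) (.cut 1 11 (.cut 2 11 (.cut 4 4 (.cut 5 134 (.cut 3 47 (.cut 5 100 (.cut 5 1 (.lin 1 true)
  (.cut 1 10 (.cut 2 10 (.cut 4 3 (.cut 3 46 (.cut 5 95 (.cut 3 45 (.cut 5 93 (.cut 1 1 (.cut 2 1 (.cut 3 20 (.cut
  5 43 (.cut 3 19 (.cut 5 41 (.cut 3 1 (.cut 5 5 (.cut 4 0 (.req 0 false) (.cut 5 0 (.lin 1 true) (.cut 1 0 (.cut 2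
  0 (.cut 4 1 (.cut 3 0 (.req 0 false) (.cut 4 0 (.req 0 false) (.req 0 true))) (.req 0 true)) (.lin 0 true)) (.cut
  3 0 (.cut 4 0 (.cut 2 0 (.lin 0 false) (.req 0 false)) (.req 0 true)) (.req 0 true))))) (.lin 1 false)) (.cut 4 0
  (.cut 5 3 (.lin 1 true) (.cut 3 0 (.req 0 false) (.cut 5 1 (.lin 1 true) (.cut 5 32 (.cut 1 0 (.cut 2 0 (.cut 3 7
  (.req 0 false) (.req 0 true)) (.lin 0 true)) (.cut 3 0 (.cut 5 0 (.req 0 true) (.lin 1 false)) (.req 0 true)))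
  (.lin 1 false))))) (.req 0 true))) (.lin 1 false)) (.req 0 true)) (.lin 1 false)) (.req 0 true)) (.lin 0 true))
  (.cut 4 0 (.cut 3 1 (.cut 5 2 (.cut 2 1 (.lin 0 false) (.cut 1 0 (.req 0 false) (.cut 2 0 (.lin 0 false) (.cut 1
  6 (.cut 2 6 (.cut 1 2 (.cut 2 2 (.cut 3 0 (.req 0 false) (.req 0 true)) (.lin 0 true)) (.cut 3 0 (.cut 5 0 (.cut
  2 2 (.lin 0 false) (.req 0 false)) (.lin 1 false)) (.req 0 true))) (.lin 0 true)) (.req 0 true))))) (.lin 1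
  false)) (.req 0 true)) (.req 0 true))) (.lin 1 false)) (.req 0 true)) (.lin 1 false)) (.req 0 true)) (.req 0
  true)) (.lin 0 true)) (.req 0 true))) (.lin 1 false)) (.req 0 true)) (.lin 1 false)) (.req 0 true)) (.lin 0
  true)) (.req 0 true))

/-- A certificate. -/
def tree34_3 : Tree :=
  .cut 1 2 (.cut 2 2 (.cut 3 213 (.cut 5 426 (.cut 3 9 (.req 0 true) (.cut 5 19 (.lin 1 false) (.cut 3 0 (.req 0
  true) (.cut 5 1 (.lin 1 false) (.cut 3 197 (.cut 5 394 (.cut 1 1 (.cut 2 1 (.cut 3 8 (.req 0 true) (.cut 5 17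
  (.lin 1 false) (.cut 3 150 (.cut 5 300 (.cut 1 0 (.cut 2 0 (.cut 3 99 (.req 0 true) (.cut 5 199 (.lin 1 false)
  (.cut 3 17 (.cut 5 34 (.cut 3 15 (.req 0 true) (.cut 3 0 (.cut 5 9 (.lin 1 false) (.req 0 true)) (.req 0 false)))
  (.lin 1 true)) (.req 0 false)))) (.lin 0 false)) (.cut 3 1 (.cut 5 2 (.cut 3 0 (.cut 2 0 (.lin 0 true) (.req 0
  true)) (.req 0 false)) (.lin 1 true)) (.req 0 false))) (.lin 1 true)) (.req 0 false)))) (.lin 0 false)) (.cut 3 0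
  (.cut 2 0 (.lin 0 true) (.req 0 true)) (.req 0 false))) (.lin 1 true)) (.req 0 false)))))) (.lin 1 true)) (.req 0
  false)) (.lin 0 false)) (.cut 3 9 (.cut 5 18 (.cut 2 2 (.lin 0 true) (.cut 3 8 (.cut 5 16 (.cut 1 3 (.cut 2 3
  (.cut 3 3 (.req 0 true) (.cut 5 7 (.lin 1 false) (.cut 1 1 (.cut 2 1 (.cut 3 3 (.cut 5 6 (.cut 3 1 (.req 0 true)
  (.cut 5 3 (.lin 1 false) (.cut 1 0 (.req 0 true) (.req 0 false)))) (.lin 1 true)) (.req 0 false)) (.lin 0 false))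
  (.cut 3 0 (.cut 5 0 (.cut 2 1 (.lin 0 true) (.req 0 true)) (.lin 1 true)) (.req 0 false))))) (.lin 0 false))
  (.cut 3 3 (.cut 5 6 (.cut 2 3 (.lin 0 true) (.cut 1 0 (.req 0 true) (.cut 2 0 (.lin 0 true) (.cut 1 6 (.cut 2 6
  (.cut 3 1 (.req 0 true) (.cut 1 4 (.cut 2 4 (.cut 5 3 (.lin 1 false) (.cut 3 0 (.req 0 true) (.cut 1 0 (.req 0
  true) (.req 0 false)))) (.lin 0 false)) (.req 0 false))) (.lin 0 false)) (.cut 3 1 (.cut 5 2 (.cut 2 6 (.lin 0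
  true) (.cut 1 9 (.req 0 true) (.cut 2 9 (.lin 0 true) (.cut 3 0 (.req 0 true) (.cut 1 4 (.cut 2 4 (.cut 1 2 (.cut
  2 2 (.cut 5 1 (.lin 1 false) (.cut 2 0 (.cut 1 0 (.req 0 true) (.lin 0 true)) (.req 0 true))) (.lin 0 false))
  (.req 0 false)) (.lin 0 false)) (.req 0 false)))))) (.lin 1 true)) (.req 0 false)))))) (.lin 1 true)) (.req 0
  false))) (.lin 1 true)) (.req 0 false))) (.lin 1 true)) (.req 0 false))

/-- A certificate. -/
def tree34_4 : Tree :=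
  .sign 4 (.sign 5 (.cut 0 1 (.cut 2 0 (.lin 0 true) (.cut 0 0 (.cut 3 0 (.cut 4 0 (.req 0 true) (.lin 1 false))
  (.req 0 true)) (.cut 1 0 (.cut 2 2 (.cut 4 0 (.cut 5 0 (.lin 1 true) (.req 0 false)) (.req 0 false)) (.lin 0
  false)) (.req 0 false)))) (.req 0 false)) (.cut 0 0 (.cut 3 0 (.cut 1 1 (.req 0 true) (.cut 4 31 (.cut 5 29 (.cut
  2 2 (.lin 0 true) (.cut 4 1 (.lin 1 true) (.cut 1 10 (.cut 2 10 (.cut 4 23 (.cut 5 23 (.cut 1 9 (.cut 2 9 (.cut 1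
  1 (.cut 2 1 (.cut 4 1 (.req 0 true) (.cut 5 1 (.lin 1 false) (.cut 4 1 (.req 0 true) (.cut 5 1 (.lin 1 false)
  (.cut 4 14 (.cut 5 14 (.cut 1 0 (.cut 2 0 (.cut 4 9 (.req 0 true) (.cut 5 9 (.lin 1 false) (.cut 4 3 (.cut 5 3
  (.cut 4 2 (.req 0 true) (.req 0 false)) (.lin 1 true)) (.req 0 false)))) (.lin 0 false)) (.req 0 false)) (.lin 1
  true)) (.req 0 false)))))) (.lin 0 false)) (.cut 4 2 (.cut 5 2 (.cut 4 1 (.cut 5 1 (.cut 1 4 (.cut 2 6 (.cut 2 1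
  (.lin 0 true) (.cut 1 2 (.cut 2 2 (.cut 1 1 (.cut 2 1 (.cut 4 0 (.req 0 true) (.cut 1 0 (.cut 2 0 (.cut 5 0 (.lin
  1 false) (.req 0 true)) (.lin 0 false)) (.req 0 false))) (.lin 0 false)) (.cut 4 0 (.req 0 true) (.req 0 false)))
  (.lin 0 false)) (.cut 4 0 (.cut 5 0 (.req 0 false) (.lin 1 true)) (.req 0 false)))) (.lin 0 false)) (.req 0
  false)) (.lin 1 true)) (.req 0 false)) (.lin 1 true)) (.req 0 false))) (.lin 0 false)) (.req 0 false)) (.lin 1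
  true)) (.req 0 false)) (.lin 0 false)) (.req 0 false)))) (.lin 1 true)) (.req 0 false))) (.req 0 true)) (.req 0
  false))) (.sign 5 (.cut 0 0 (.cut 5 1 (.lin 1 true) (.cut 2 0 (.lin 0 true) (.cut 1 0 (.cut 2 0 (.cut 3 0 (.cut 4
  0 (.req 0 false) (.req 0 true)) (.req 0 true)) (.lin 0 false)) (.cut 2 0 (.lin 0 true) (.cut 3 0 (.cut 1 0 (.cut
  2 0 (.cut 4 6 (.cut 5 6 (.cut 4 5 (.req 0 false) (.req 0 true)) (.lin 1 false)) (.req 0 true)) (.lin 0 false))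
  (.req 0 false)) (.cut 4 1 (.cut 5 1 (.lin 1 true) (.cut 1 0 (.cut 2 0 (.cut 3 1 (.cut 4 0 (.req 0 false) (.req 0
  true)) (.req 0 true)) (.lin 0 false)) (.cut 2 0 (.lin 0 true) (.cut 4 0 (.cut 1 2 (.cut 2 2 (.cut 3 5 (.req 0
  false) (.cut 5 11 (.lin 1 true) (.cut 1 1 (.cut 3 19 (.cut 5 38 (.cut 2 1 (.cut 3 0 (.req 0 false) (.cut 1 0
  (.req 0 true) (.cut 3 14 (.req 0 false) (.cut 5 31 (.lin 1 true) (.cut 3 2 (.cut 5 4 (.cut 2 0 (.lin 0 true)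
  (.cut 3 0 (.req 0 false) (.req 0 true))) (.lin 1 false)) (.req 0 true)))))) (.lin 0 false)) (.lin 1 false)) (.req
  0 true)) (.req 0 false)))) (.lin 0 false)) (.req 0 false)) (.cut 3 0 (.cut 1 4 (.cut 2 4 (.cut 5 1 (.cut 1 3
  (.req 0 true) (.req 0 false)) (.lin 1 false)) (.lin 0 false)) (.req 0 false)) (.req 0 true)))))) (.req 0
  true))))))) (.req 0 false)) (.lin 1 true))

/-- A certificate. -/
def tree34_5 : Tree :=
  .sign 2 (.sign 3 (.sign 4 (.sign 5 (.cut 0 1 (.lin 1 false) (.rlt 0)) (.cut 0 1 (.cut 0 0 (.req 0 true) (.cut 1 2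
  (.cut 2 5 (.cut 3 31 (.cut 2 2 (.lin 0 true) (.cut 5 0 (.lin 1 false) (.cut 1 0 (.cut 2 0 (.cut 3 0 (.req 0 true)
  (.cut 4 1 (.cut 5 63 (.cut 5 1 (.lin 1 false) (.cut 3 0 (.req 0 true) (.cut 4 0 (.cut 3 17 (.req 0 true) (.cut 5
  37 (.lin 1 false) (.cut 3 6 (.req 0 true) (.req 0 false)))) (.req 0 false)))) (.lin 1 true)) (.req 0 false)))
  (.lin 0 false)) (.cut 3 0 (.cut 4 0 (.cut 5 0 (.cut 1 0 (.req 0 true) (.req 0 false)) (.lin 1 true)) (.req 0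
  false)) (.req 0 false))))) (.req 0 false)) (.lin 0 false)) (.req 0 false))) (.rlt 0))) (.sign 5 (.cut 0 1 (.cut 4
  0 (.lin 1 false) (.cut 0 0 (.req 0 true) (.cut 1 0 (.cut 2 3 (.cut 3 0 (.cut 4 136 (.cut 5 136 (.cut 4 6 (.req 0
  false) (.cut 5 6 (.lin 1 true) (.cut 2 2 (.lin 0 true) (.cut 4 9 (.cut 5 9 (.cut 4 7 (.req 0 false) (.cut 4 0
  (.cut 5 1 (.lin 1 true) (.req 0 false)) (.req 0 true))) (.lin 1 false)) (.req 0 true))))) (.lin 1 false)) (.req 0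
  true)) (.req 0 false)) (.lin 0 false)) (.req 0 false)))) (.req 0 false)) (.cut 0 1 (.cut 2 0 (.lin 0 true) (.cut
  0 0 (.cut 4 0 (.cut 1 2 (.req 0 true) (.cut 3 2 (.req 0 true) (.cut 5 5 (.lin 1 false) (.cut 2 2 (.lin 0 true)
  (.cut 1 0 (.req 0 true) (.cut 3 0 (.req 0 true) (.cut 5 1 (.lin 1 false) (.cut 2 0 (.lin 0 true)
  (tree34_3))))))))) (.req 0 true)) (.cut 1 0 (.cut 2 2 (.cut 3 0 (.lin 1 true) (.req 0 false)) (.lin 0 false))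
  (.req 0 false)))) (.req 0 false)))) (tree34_4)) (.lin 0 true)

/-- A certificate. -/
def tree34 : Tree :=
  .sign 0 (.req 0 false) (.sign 1 (.sign 3 (.sign 4 (.sign 2 (.sign 5 (.cut 0 0 (.lin 0 false) (.req 0 false))
  (.cut 0 0 (.lin 0 false) (.req 0 false))) (.sign 5 (.cut 0 0 (.lin 1 false) (.req 0 false)) (.cut 0 0 (.req 0
  true) (.req 0 false)))) (.sign 2 (.sign 5 (.cut 0 0 (.lin 0 false) (.req 0 false)) (.cut 0 0 (.lin 0 false) (.req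
  0 false))) (.sign 5 (.cut 0 0 (.cut 4 4 (.cut 3 1 (.cut 1 2 (.cut 2 1 (.cut 4 0 (.lin 1 false) (.req 0 true))
  (.lin 0 true)) (.req 0 true)) (.lin 1 false)) (.req 0 true)) (.req 0 false)) (.cut 0 0 (tree34_1) (.req 0
  false))))) (.sign 4 (.sign 2 (.sign 5 (.cut 0 0 (.lin 0 false) (.req 0 false)) (.cut 0 0 (.lin 0 false) (.req 0
  false))) (.sign 5 (.cut 0 0 (.cut 3 5 (.cut 4 10 (.cut 5 10 (.cut 1 0 (.lin 0 true) (.cut 3 0 (.cut 4 0 (.req 0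
  true) (.lin 1 false)) (.req 0 true))) (.lin 1 false)) (.lin 1 false)) (.req 0 true)) (.req 0 false)) (.cut 0 0
  (.cut 3 8 (.cut 4 1 (.lin 1 true) (.cut 1 0 (.lin 0 true) (.cut 3 1 (.cut 3 0 (.req 0 false) (.cut 1 0 (.cut 2 0
  (.cut 5 9 (.cut 4 11 (.req 0 true) (.lin 1 false)) (.req 0 true)) (.lin 0 true)) (.req 0 true))) (.req 0 true))))
  (.req 0 true)) (.req 0 false)))) (.sign 5 (.sign 2 (.cut 0 0 (.lin 0 false) (.req 0 false)) (.cut 0 0 (.cut 5 1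
  (.lin 1 true) (.cut 3 0 (.req 0 false) (.cut 4 0 (.req 0 false) (.cut 5 2 (.lin 1 true) (.cut 1 0 (.lin 0 true)
  (.cut 3 65 (tree34_2) (.req 0 true))))))) (.req 0 false))) (.lin 1 true)))) (tree34_5))

theorem ok34 : certOK (keys.getD 34 []) tree34 = true := by decide +kernel

/-- A certificate. -/
def tree39_1 : Tree :=
  .sign 5 (.sign 1 (.sign 4 (.sign 2 (.sign 3 (.cut 0 0 (.lin 0 false) (.rlt 0)) (.cut 0 0 (.lin 0 false) (.rlt
  0))) (.sign 3 (.cut 0 0 (.lin 1 false) (.rlt 0)) (.cut 0 0 (.lin 1 false) (.rlt 0)))) (.sign 2 (.sign 3 (.cut 0 0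
  (.lin 0 false) (.rlt 0)) (.cut 0 0 (.lin 0 false) (.rlt 0))) (.sign 3 (.cut 0 0 (.cut 1 1 (.cut 2 0 (.cut 4 1
  (.cut 5 2 (.req 0 true) (.lin 1 false)) (.req 0 true)) (.lin 0 true)) (.req 0 true)) (.rlt 0)) (.cut 0 0 (.cut 1
  1 (.cut 2 0 (.cut 4 1 (.cut 5 2 (.req 0 true) (.lin 1 false)) (.req 0 true)) (.lin 0 true)) (.req 0 true)) (.rlt
  0))))) (.sign 2 (.sign 4 (.sign 3 (.cut 0 1 (.cut 4 0 (.cut 5 0 (.req 0 true) (.lin 1 false)) (.lin 1 false))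
  (.rlt 0)) (.cut 0 1 (.cut 4 0 (.cut 5 0 (.req 0 true) (.lin 1 false)) (.lin 1 false)) (.rlt 0))) (.sign 3 (.cut 0
  1 (.cut 5 0 (.lin 1 true) (.cut 0 0 (.req 0 true) (.cut 1 1 (.cut 2 4 (.cut 5 1 (.cut 4 0 (.cut 1 0 (.cut 5 0
  (.lin 1 true) (.req 0 false)) (.req 0 false)) (.lin 1 true)) (.req 0 false)) (.lin 0 false)) (.req 0 false))))
  (.rlt 0)) (.cut 0 1 (.cut 5 0 (.lin 1 true) (.cut 0 0 (.req 0 true) (.cut 1 1 (.cut 2 4 (.cut 5 1 (.cut 4 0 (.cut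
  1 0 (.cut 5 0 (.lin 1 true) (.req 0 false)) (.req 0 false)) (.lin 1 true)) (.req 0 false)) (.lin 0 false)) (.req
  0 false)))) (.rlt 0)))) (.lin 0 true))) (.sign 4 (.sign 1 (.sign 2 (.sign 3 (.cut 0 0 (.lin 0 false) (.req 0
  false)) (.cut 0 0 (.lin 0 false) (.req 0 false))) (.sign 3 (.cut 0 0 (.cut 5 10 (.cut 4 11 (.cut 1 0 (.lin 0
  true) (.cut 5 2 (.cut 4 3 (.cut 5 1 (.cut 4 0 (.lin 1 true) (.cut 4 1 (.cut 5 0 (.req 0 false) (.cut 1 0 (.cut 2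
  0 (.cut 4 0 (.lin 1 true) (.req 0 false)) (.lin 0 true)) (.req 0 true))) (.lin 1 false))) (.req 0 true)) (.lin 1
  false)) (.req 0 true))) (.lin 1 false)) (.req 0 true)) (.req 0 false)) (.cut 0 0 (.cut 5 10 (.cut 4 11 (.cut 1 0
  (.lin 0 true) (.cut 5 2 (.cut 4 3 (.cut 5 1 (.cut 4 0 (.lin 1 true) (.cut 4 1 (.cut 5 0 (.req 0 false) (.cut 1 0
  (.cut 2 0 (.cut 4 0 (.lin 1 true) (.req 0 false)) (.lin 0 true)) (.req 0 true))) (.lin 1 false))) (.req 0 true))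
  (.lin 1 false)) (.req 0 true))) (.lin 1 false)) (.req 0 true)) (.req 0 false)))) (.sign 2 (.sign 3 (.cut 0 0
  (.cut 5 0 (.cut 4 1 (.cut 1 4 (.req 0 true) (.cut 2 5 (.lin 0 true) (.cut 4 0 (.lin 1 true) (.cut 1 1 (.req 0
  true) (.req 0 false))))) (.lin 1 false)) (.req 0 true)) (.req 0 false)) (.cut 0 0 (.cut 5 0 (.cut 4 1 (.cut 1 4
  (.req 0 true) (.cut 2 5 (.lin 0 true) (.cut 4 0 (.lin 1 true) (.cut 1 1 (.req 0 true) (.req 0 false))))) (.lin 1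
  false)) (.req 0 true)) (.req 0 false))) (.lin 0 true))) (.lin 1 true))

/-- A certificate. -/
def tree39 : Tree :=
  .sign 0 (.rlt 0) (tree39_1)

theorem ok39 : certOK (keys.getD 39 []) tree39 = true := by decide +kernel

/-- A certificate. -/
def tree42_1 : Tree :=
  .sign 4 (.sign 5 (.sign 0 (.lin 1 false) (.sign 2 (.sign 3 (.cut 1 0 (.req 0 true) (.rlt 0)) (.cut 1 0 (.req 0
  true) (.rlt 0))) (.lin 0 true))) (.sign 2 (.sign 0 (.sign 3 (.cut 1 0 (.lin 0 false) (.rlt 0)) (.cut 1 0 (.lin 0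
  false) (.rlt 0))) (.sign 3 (.cut 1 0 (.req 0 true) (.rlt 0)) (.cut 1 0 (.req 0 true) (.rlt 0)))) (.sign 0 (.sign
  3 (.cut 1 1 (.cut 4 2 (.rlt 1) (.cut 5 2 (.lin 1 false) (.cut 1 0 (.req 0 true) (.cut 2 0 (.cut 0 0 (.rlt 0)
  (.lin 0 false)) (.rlt 0))))) (.rlt 0)) (.cut 1 1 (.cut 4 2 (.rlt 1) (.cut 5 2 (.lin 1 false) (.cut 1 0 (.req 0
  true) (.cut 2 0 (.cut 0 0 (.rlt 0) (.lin 0 false)) (.rlt 0))))) (.rlt 0))) (.lin 0 true)))) (.sign 5 (.sign 2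
  (.sign 0 (.sign 3 (.cut 1 0 (.lin 0 false) (.rlt 0)) (.cut 1 0 (.lin 0 false) (.rlt 0))) (.sign 3 (.cut 1 0 (.cut
  4 0 (.cut 5 0 (.lin 1 true) (.req 0 false)) (.req 0 true)) (.rlt 0)) (.cut 1 0 (.cut 4 0 (.cut 5 0 (.lin 1 true)
  (.req 0 false)) (.req 0 true)) (.rlt 0)))) (.sign 0 (.sign 3 (.cut 1 1 (.cut 4 0 (.lin 1 false) (.cut 5 0 (.req 0
  true) (.cut 1 0 (.req 0 true) (.cut 2 0 (.cut 0 0 (.rlt 0) (.lin 0 false)) (.rlt 0))))) (.rlt 0)) (.cut 1 1 (.cut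
  4 0 (.lin 1 false) (.cut 5 0 (.req 0 true) (.cut 1 0 (.req 0 true) (.cut 2 0 (.cut 0 0 (.rlt 0) (.lin 0 false))
  (.rlt 0))))) (.rlt 0))) (.lin 0 true))) (.sign 0 (.sign 2 (.sign 3 (.cut 1 0 (.lin 0 false) (.req 0 false)) (.cut
  1 0 (.lin 0 false) (.req 0 false))) (.sign 3 (.cut 1 1 (.cut 4 0 (.req 0 false) (.cut 0 1 (.lin 1 true) (.cut 2 3
  (.lin 0 false) (.cut 1 0 (.cut 0 5 (.cut 2 11 (.req 0 true) (.lin 0 true)) (.req 0 true)) (.req 0 false)))))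
  (.req 0 false)) (.cut 1 1 (.cut 4 0 (.req 0 false) (.cut 0 1 (.lin 1 true) (.cut 2 3 (.lin 0 false) (.cut 1 0
  (.cut 0 5 (.cut 2 11 (.req 0 true) (.lin 0 true)) (.req 0 true)) (.req 0 false))))) (.req 0 false)))) (.lin 1
  true)))

/-- A certificate. -/
def tree42 : Tree :=
  .sign 1 (.rlt 0) (tree42_1)

theorem ok42 : certOK (keys.getD 42 []) tree42 = true := by decide +kernel

end CfsgLib.Recog.UFourSylow.Cert
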