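import Cfsg.Agent.Lib.Recog.UFourSylow.Cert.Split
import Cfsg.Agent.Lib.Recog.UFourSylow.Cert.Search
import Cfsg.Agent.Lib.Recog.UFourSylow.Cert.Trees1
import Cfsg.Agent.Lib.Recog.UFourSylow.Cert.Trees2
import Cfsg.Agent.Lib.Recog.UFourSylow.Cert.Trees3
import Cfsg.Agent.Lib.Recog.UFourSylow.Cert.Trees4

set_option autoImplicit false

/-!
The degree lemma of the `U₃(4)` Sylow corner in the case that `N(S)/S` has odd part fifteen (owner: helper25).
-/

namespace CfsgLib.Recog.UFourSylow.Cert

theorem keys_length : keys.length = 44 := by decide +kernel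

theorem no_blocks {L : List Blk} (hB : Blocks L) : False := by
  obtain ⟨n, hn, hi⟩ := List.getElem_of_mem (keyOf_mem hB)
  rw [keys_length] at hn
  replace hi : keys.getD n [] = keyOf L := by simp [List.getD_eq_getElem?_getD, keys_length, hn, hi]
  match n, hn with
  | 0, _ => exact refute hB (by rw [← hi]; exact ok0)
  | 1, _ => exact refute hB (by rw [← hi]; exact ok1)
  | 2, _ => exact refute hB (by rw [← hi]; exact ok2)
  | 3, _ => exact refute hB (by rw [← hi]; exact ok3)
  | 4, _ => exact refute hB (by rw [← hi]; exact ok4)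
  | 5, _ => exact refute hB (by rw [← hi]; exact ok5)
  | 6, _ => exact refute hB (by rw [← hi]; exact ok6)
  | 7, _ => exact refute hB (by rw [← hi]; exact ok7)
  | 8, _ => exact refute hB (by rw [← hi]; exact ok8)
  | 9, _ => exact refute hB (by rw [← hi]; exact ok9)
  | 10, _ => exact refute hB (by rw [← hi]; exact ok10)
  | 11, _ => exact refute hB (by rw [← hi]; exact ok11)
  | 12, _ => exact refute hB (by rw [← hi]; exact ok12)
  | 13, _ => exact refute hB (by rw [← hi]; exact ok13)
  | 14, _ => exact refute hB (by rw [← hi]; exact ok14)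
  | 15, _ => exact refute hB (by rw [← hi]; exact ok15)
  | 16, _ => exact refute hB (by rw [← hi]; exact ok16)
  | 17, _ => exact refute hB (by rw [← hi]; exact ok17)
  | 18, _ => exact refute hB (by rw [← hi]; exact ok18)
  | 19, _ => exact refute hB (by rw [← hi]; exact ok19)
  | 20, _ => exact refute hB (by rw [← hi]; exact ok20)
  | 21, _ => exact refute hB (by rw [← hi]; exact ok21)
  | 22, _ => exact refute hB (by rw [← hi]; exact ok22)
  | 23, _ => exact refute hB (by rw [← hi]; exact ok23)
  | 24, _ => exact refute hB (by rw [← hi]; exact ok24)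
  | 25, _ => exact refute hB (by rw [← hi]; exact ok25)
  | 26, _ => exact refute hB (by rw [← hi]; exact ok26)
  | 27, _ => exact refute hB (by rw [← hi]; exact ok27)
  | 28, _ => exact refute hB (by rw [← hi]; exact ok28)
  | 29, _ => exact refute hB (by rw [← hi]; exact ok29)
  | 30, _ => exact refute hB (by rw [← hi]; exact ok30)
  | 31, _ => exact refute hB (by rw [← hi]; exact ok31)
  | 32, _ => exact refute hB (by rw [← hi]; exact ok32)
  | 33, _ => exact refute hB (by rw [← hi]; exact ok33)
  | 34, _ => exact refute hB (by rw [← hi]; exact ok34)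
  | 35, _ => exact refute hB (by rw [← hi]; exact ok35)
  | 36, _ => exact refute hB (by rw [← hi]; exact ok36)
  | 37, _ => exact refute hB (by rw [← hi]; exact ok37)
  | 38, _ => exact refute hB (by rw [← hi]; exact ok38)
  | 39, _ => exact refute hB (by rw [← hi]; exact ok39)
  | 40, _ => exact refute hB (by rw [← hi]; exact ok40)
  | 41, _ => exact refute hB (by rw [← hi]; exact ok41)
  | 42, _ => exact refute hB (by rw [← hi]; exact ok42)
  | 43, _ => exact refute hB (by rw [← hi]; exact ok43)
  | m + 44, hm => omega

/-- Some character other than the principal one has degree less than its value at an involution plus `32`, and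
that value is not positive. -/
theorem Fifteen.exists_small {ι : Type*} [Fintype ι] (X : Fifteen ι) :
    ∃ i, i ≠ X.one ∧ X.d i < 5 * X.b i - 4 * (X.w i).total + 32 ∧ 5 * X.b i - 4 * (X.w i).total ≤ 0 := by
  classical
  by_contra h
  push Not at h
  refine no_blocks (X.blocks_ok fun i hi => ?_)
  rcases le_or_gt (5 * X.b i - 4 * (X.w i).total + 32) (X.d i) with c | c
  · exact Or.inl c
  · have := h i hi c; exact Or.inr (by omega)

end CfsgLib.Recog.UFourSylow.Cert
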