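import Mathlib.Algebra.Order.Field.Basic
import Mathlib.Data.Int.Order.Lemmas
import Mathlib.Data.Rat.Lemmas
import Mathlib.Tactic.Linarith
import Mathlib.Tactic.NormNum
import Mathlib.Tactic.Ring
import Mathlib.Tactic.FieldSimp

set_option autoImplicit false

/-!
A checker for certificates that linear equations in integers and linear relations in their reciprocals have no
solution (owner: helper25; for the degree lemma of the `U₃(4)` Sylow corner).

A box gives for each unknown its sign, a lower and perhaps an upper bound of the absolute value, and its residue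
modulo 64.  A certificate splits boxes and names at each leaf the relation which fails on the whole box.
-/

namespace CfsgLib.Recog.UFourSylow.Cert

/-- The state of an unknown: any sign with two least absolute values, or a sign with bounds (`0`: none). -/
inductive St where
  | any (lp ln : ℕ)
  | pos (lo hi : ℕ)
  | neg (lo hi : ℕ)

/-- The meaning of a state. -/
def St.Holds : St → ℤ → Prop
  | .any lp ln, D => ((lp : ℤ) ≤ D ∧ (64 : ℤ) ∣ D - lp) ∨ ((ln : ℤ) ≤ -D ∧ (64 : ℤ) ∣ -D - ln)
  | .pos lo hi, D => (lo : ℤ) ≤ D ∧ (64 : ℤ) ∣ D - lo ∧ (hi = 0 ∨ D ≤ hi)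
  | .neg lo hi, D => (lo : ℤ) ≤ -D ∧ (64 : ℤ) ∣ -D - lo ∧ (hi = 0 ∨ -D ≤ hi)

/-- The scale of the fixed point numbers. -/
def scale : ℤ := 281474976710656

/-- A lower bound of `a * D` for `lo ≤ D ≤ hi`. -/
def linPos (a : ℤ) (lo hi : ℕ) : Option ℤ :=
  if 0 ≤ a then some (a * lo) else if hi = 0 then none else some (a * hi)

/-- A lower bound of `scale * a / D` for `lo ≤ D ≤ hi`. -/
def rcpPos (a : ℤ) (lo hi : ℕ) : ℤ :=
  if 0 ≤ a then (if hi = 0 then 0 else a * scale / hi) else a * scale / lo

/-- A lower bound of `a * D` on a state. -/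
def St.lin (a : ℤ) : St → Option ℤ
  | .any _ _ => if a = 0 then some 0 else none
  | .pos lo hi => linPos a lo hi
  | .neg lo hi => linPos (-a) lo hi

/-- A lower bound of `scale * a / D` on a state. -/
def St.rcp (a : ℤ) : St → ℤ
  | .any lp ln => min (rcpPos a lp 0) (rcpPos (-a) ln 0)
  | .pos lo hi => rcpPos a lo hi
  | .neg lo hi => rcpPos (-a) lo hi

/-- Least absolute values are positive. -/
def St.good : St → Bool
  | .any lp ln => Nat.ble 1 lp && Nat.ble 1 ln
  | .pos lo _ => Nat.ble 1 lo
  | .neg lo _ => Nat.ble 1 lo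

/-- A lower bound of a linear form on a box. -/
def linSum : List ℤ → List St → Option ℤ
  | a :: as, s :: ss =>
    match s.lin a, linSum as ss with
    | some x, some y => some (x + y)
    | _, _ => none
  | _, _ => some 0

/-- A lower bound of a form in the reciprocals on a box, scaled. -/
def rcpSum : List ℤ → List St → ℤ
  | a :: as, s :: ss => s.rcp a + rcpSum as ss
  | _, _ => 0

/-- A linear form. -/
def dot : List ℤ → List ℤ → ℤ
  | a :: as, D :: Ds => a * D + dot as Ds
  | _, _ => 0

/-- A form in the reciprocals. -/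
def rdot : List ℤ → List ℤ → ℚ
  | a :: as, D :: Ds => (a : ℚ) / D + rdot as Ds
  | _, _ => 0

/-- Relations: `lin` and `req` are equations, `rlt` strict inequalities. -/
structure Prob where
  lin : List (List ℤ × ℤ)
  req : List (List ℤ × ℤ)
  rlt : List (List ℤ × ℤ)

/-- A solution. -/
structure Prob.Sat (P : Prob) (Ds : List ℤ) : Prop where
  lin : ∀ e ∈ P.lin, dot e.1 Ds = e.2
  req : ∀ e ∈ P.req, rdot e.1 Ds = e.2
  rlt : ∀ e ∈ P.rlt, rdot e.1 Ds < e.2

/-- A certificate: leaves name a relation, `sign` splits the sign, `cut` the absolute value at `lo + 64 k`. -/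
inductive Tree where
  | lin (q : ℕ) (flip : Bool)
  | req (q : ℕ) (flip : Bool)
  | rlt (q : ℕ)
  | sign (i : ℕ) (p n : Tree)
  | cut (i k : ℕ) (l r : Tree)

/-- A linear equation fails on a box. -/
def linDead (e : List ℤ × ℤ) (flip : Bool) (ss : List St) : Bool :=
  match linSum (if flip then e.1.map Neg.neg else e.1) ss with
  | some m => decide ((if flip then -e.2 else e.2) < m)
  | none => false

/-- An equation in reciprocals fails on a box. -/
def reqDead (e : List ℤ × ℤ) (flip : Bool) (ss : List St) : Bool :=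
  decide ((if flip then -e.2 else e.2) * scale < rcpSum (if flip then e.1.map Neg.neg else e.1) ss)

/-- The checker. -/
def check (P : Prob) : Tree → List St → Bool
  | .lin q f, ss => linDead (P.lin.getD q ([], 0)) f ss
  | .req q f, ss => reqDead (P.req.getD q ([], 0)) f ss
  | .rlt q, ss => decide ((P.rlt.getD q ([], 1)).2 * scale ≤ rcpSum (P.rlt.getD q ([], 1)).1 ss)
  | .sign i p n, ss =>
    match ss[i]? with
    | some (.any lp ln) => check P p (ss.set i (.pos lp 0)) && check P n (ss.set i (.neg ln 0))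
    | _ => false
  | .cut i k l r, ss =>
    match ss[i]? with
    | some (.pos lo hi) => Nat.ble 1 lo && (check P l (ss.set i (.pos lo (lo + 64 * k))) &&
        check P r (ss.set i (.pos (lo + 64 * k + 64) hi)))
    | some (.neg lo hi) => Nat.ble 1 lo && (check P l (ss.set i (.neg lo (lo + 64 * k))) &&
        check P r (ss.set i (.neg (lo + 64 * k + 64) hi)))
    | _ => false

theorem linPos_le {a D : ℤ} {lo hi : ℕ} (h1 : (lo : ℤ) ≤ D) (h2 : hi = 0 ∨ D ≤ hi) {m : ℤ}
    (hm : linPos a lo hi = some m) : m ≤ a * D := by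
  unfold linPos at hm
  split_ifs at hm with ha h0
  · rw [← Option.some_inj.1 hm]; exact mul_le_mul_of_nonneg_left h1 ha
  · rw [← Option.some_inj.1 hm]
    exact mul_le_mul_of_nonpos_left (h2.resolve_left h0) (le_of_lt (not_le.1 ha))

theorem rcpPos_le {a D : ℤ} {lo hi : ℕ} (hlo : 1 ≤ lo) (h1 : (lo : ℤ) ≤ D) (h2 : hi = 0 ∨ D ≤ hi) :
    (rcpPos a lo hi : ℚ) ≤ scale * (a / D) := by
  have hlo' : (0 : ℤ) < lo := by exact_mod_cast hlo
  have hD : 0 < D := lt_of_lt_of_le hlo' h1
  have hD' : (0 : ℚ) < D := by exact_mod_cast hD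
  have key : ∀ x : ℤ, x * D ≤ a * scale → (x : ℚ) ≤ scale * (a / D) := fun x hx => by
    rw [← mul_div_assoc, le_div_iff₀ hD', mul_comm (scale : ℚ)]
    exact_mod_cast hx
  have hs : (0 : ℤ) ≤ scale := by decide
  refine key _ ?_
  unfold rcpPos
  split_ifs with ha h0
  · rw [zero_mul]; exact mul_nonneg ha hs
  · have hd := Int.ediv_mul_le (a * scale) (b := (hi : ℤ)) (by exact_mod_cast h0)
    have hq : 0 ≤ a * scale / (hi : ℤ) := Int.ediv_nonneg (mul_nonneg ha hs) (Int.natCast_nonneg _)
    exact le_trans (mul_le_mul_of_nonneg_left (h2.resolve_left h0) hq) hd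
  · have hd := Int.ediv_mul_le (a * scale) (b := (lo : ℤ)) (by omega)
    have hq : a * scale / (lo : ℤ) ≤ 0 := by
      by_contra hc
      push Not at hc
      have := mul_pos hc hlo'
      have : a * scale < 0 := mul_neg_of_neg_of_pos (not_le.1 ha) (by decide)
      omega
    exact le_trans (mul_le_mul_of_nonpos_left h1 hq) hd

theorem rcpSum_le : ∀ {as : List ℤ} {ss : List St} {Ds : List ℤ}, List.Forall₂ St.Holds ss Ds →
    (∀ s ∈ ss, s.good = true) → (rcpSum as ss : ℚ) ≤ scale * rdot as Ds
  | [], _, _, _, _ => by simp [rcpSum, rdot]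
  | a :: as, _, _, .nil, _ => by simp [rcpSum, rdot]
  | a :: as, s :: ss, D :: Ds, .cons h hh, hg => by
    have hrest := rcpSum_le (as := as) hh fun t ht => hg t (List.mem_cons_of_mem _ ht)
    have hgs := hg s (List.mem_cons_self ..)
    have hone : (s.rcp a : ℚ) ≤ scale * (a / D) := by
      have hneg : ∀ {lo hi : ℕ}, 1 ≤ lo → (lo : ℤ) ≤ -D → (hi = 0 ∨ -D ≤ hi) →
          (rcpPos (-a) lo hi : ℚ) ≤ scale * (a / D) := fun h0 h1 h2 => by
        have := rcpPos_le (a := -a) h0 h1 h2
        rwa [Int.cast_neg, Int.cast_neg, neg_div_neg_eq] at this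
      cases s with
      | any lp ln =>
        simp only [St.good, Bool.and_eq_true, Nat.ble_eq] at hgs
        simp only [St.rcp, Int.cast_min]
        rcases h with ⟨h1, -⟩ | ⟨h1, -⟩
        · exact le_trans (min_le_left _ _) (rcpPos_le hgs.1 h1 (Or.inl rfl))
        · exact le_trans (min_le_right _ _) (hneg hgs.2 h1 (Or.inl rfl))
      | pos lo hi =>
        simp only [St.good, Nat.ble_eq] at hgs
        exact rcpPos_le hgs h.1 h.2.2
      | neg lo hi =>
        simp only [St.good, Nat.ble_eq] at hgs
        exact hneg hgs h.1 h.2.2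
    simp only [rcpSum, rdot, Int.cast_add, mul_add]
    exact add_le_add hone hrest

theorem linSum_le : ∀ {as : List ℤ} {ss : List St} {Ds : List ℤ}, List.Forall₂ St.Holds ss Ds →
    ∀ m, linSum as ss = some m → m ≤ dot as Ds
  | [], _, _, _, m, hm => by simp [linSum] at hm; simp [dot, ← hm]
  | a :: as, _, _, .nil, m, hm => by simp [linSum] at hm; simp [dot, ← hm]
  | a :: as, s :: ss, D :: Ds, .cons h hh, m, hm => by
    simp only [linSum] at hm
    split at hm
    · rename_i x y hx hy
      rw [← Option.some_inj.1 hm]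
      refine add_le_add ?_ (linSum_le hh y hy)
      cases s with
      | any lp ln =>
        simp only [St.lin] at hx
        split_ifs at hx with ha
        rw [← Option.some_inj.1 hx, ha, zero_mul]
      | pos lo hi => exact linPos_le h.1 h.2.2 hx
      | neg lo hi =>
        have := linPos_le (a := -a) (D := -D) h.1 h.2.2 hx
        rwa [neg_mul_neg] at this
    · simp at hm

theorem dot_neg : ∀ as Ds : List ℤ, dot (as.map Neg.neg) Ds = -dot as Ds
  | [], _ => by simp [dot]
  | _ :: _, [] => by simp [dot]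
  | a :: as, D :: Ds => by simp only [List.map_cons, dot, dot_neg as Ds, neg_mul, neg_add_rev]; omega

theorem rdot_neg : ∀ as Ds : List ℤ, rdot (as.map Neg.neg) Ds = -rdot as Ds
  | [], _ => by simp [rdot]
  | _ :: _, [] => by simp [rdot]
  | a :: as, D :: Ds => by simp only [List.map_cons, rdot, rdot_neg as Ds, Int.cast_neg, neg_div, neg_add_rev]; ring

theorem forall₂_set : ∀ {ss : List St} {Ds : List ℤ} (_ : List.Forall₂ St.Holds ss Ds) (i : ℕ) {s : St},
    ss[i]? = some s → ∃ D, s.Holds D ∧ ∀ t : St, t.Holds D → List.Forall₂ St.Holds (ss.set i t) Ds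
  | _, _, .nil, i, s, h => by simp at h
  | _ :: _, D :: _, .cons h hh, 0, s, hs => by
    simp only [List.getElem?_cons_zero, Option.some_inj] at hs
    subst hs
    exact ⟨D, h, fun t ht => List.Forall₂.cons ht hh⟩
  | _ :: _, D :: _, .cons h hh, i + 1, s, hs => by
    simp only [List.getElem?_cons_succ] at hs
    obtain ⟨D', h1, h2⟩ := forall₂_set hh i hs
    exact ⟨D', h1, fun t ht => List.Forall₂.cons h (h2 t ht)⟩

theorem step {x : ℤ} {lo k hi : ℕ} (h1 : (lo : ℤ) ≤ x) (h2 : (64 : ℤ) ∣ x - lo) (h3 : hi = 0 ∨ x ≤ hi) :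
    ((lo : ℤ) ≤ x ∧ (64 : ℤ) ∣ x - lo ∧ (lo + 64 * k = 0 ∨ x ≤ ((lo + 64 * k : ℕ) : ℤ))) ∨
    (((lo + 64 * k + 64 : ℕ) : ℤ) ≤ x ∧ (64 : ℤ) ∣ x - ((lo + 64 * k + 64 : ℕ) : ℤ) ∧ (hi = 0 ∨ x ≤ hi)) := by
  rcases le_or_gt x ((lo + 64 * k : ℕ) : ℤ) with h | h
  · exact Or.inl ⟨h1, h2, Or.inr h⟩
  · refine Or.inr ⟨?_, ?_, h3⟩ <;> omega

/-- Soundness. -/
theorem check_sound (P : Prob) {Ds : List ℤ} (hP : P.Sat Ds) : ∀ (t : Tree) {ss : List St},
    check P t ss = true → (∀ s ∈ ss, s.good = true) → List.Forall₂ St.Holds ss Ds → False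
  | .lin q f, ss, hc, _, hs => by
    simp only [check, linDead] at hc
    have hE : dot (P.lin.getD q ([], 0)).1 Ds = (P.lin.getD q ([], 0)).2 := by
      rw [List.getD_eq_getElem?_getD]
      cases h : P.lin[q]? with
      | none => simp [dot]
      | some e => exact hP.lin e (List.mem_of_getElem? h)
    split at hc
    · rename_i m hm
      have hle := linSum_le hs m hm
      have hlt := of_decide_eq_true hc
      generalize P.lin.getD q ([], 0) = e at *
      cases f <;> simp [dot_neg, hE] at hle hlt <;> omega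
    · simp at hc
  | .req q f, ss, hc, hg, hs => by
    simp only [check, reqDead] at hc
    have hE : rdot (P.req.getD q ([], 0)).1 Ds = (P.req.getD q ([], 0)).2 := by
      rw [List.getD_eq_getElem?_getD]
      cases h : P.req[q]? with
      | none => simp [rdot]
      | some e => exact hP.req e (List.mem_of_getElem? h)
    have hle := rcpSum_le (as := if f then (P.req.getD q ([], 0)).1.map Neg.neg else (P.req.getD q ([], 0)).1) hs hg
    have hlt := (Int.cast_lt (R := ℚ)).2 (of_decide_eq_true hc)
    rw [Int.cast_mul] at hlt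
    generalize P.req.getD q ([], 0) = e at *
    cases f <;> simp [rdot_neg, hE] at hle hlt <;> linarith
  | .rlt q, ss, hc, hg, hs => by
    simp only [check] at hc
    have hE : rdot (P.rlt.getD q ([], 1)).1 Ds < (P.rlt.getD q ([], 1)).2 := by
      rw [List.getD_eq_getElem?_getD]
      cases h : P.rlt[q]? with
      | none => simp [rdot]
      | some e => exact hP.rlt e (List.mem_of_getElem? h)
    have hle := rcpSum_le (as := (P.rlt.getD q ([], 1)).1) hs hg
    have hlt := (Int.cast_le (R := ℚ)).2 (of_decide_eq_true hc)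
    rw [Int.cast_mul] at hlt
    have := mul_lt_mul_of_pos_left hE (by norm_num [scale] : (0 : ℚ) < scale)
    linarith
  | .sign i p n, ss, hc, hg, hs => by
    simp only [check] at hc
    split at hc
    · rename_i lp ln hi
      rw [Bool.and_eq_true] at hc
      obtain ⟨D, hD, hset⟩ := forall₂_set hs i hi
      have hgs := hg _ (List.mem_of_getElem? hi)
      simp only [St.good, Bool.and_eq_true] at hgs
      rcases hD with ⟨a, b⟩ | ⟨a, b⟩
      · refine check_sound P hP p hc.1 (fun s hm => ?_) (hset _ ⟨a, b, Or.inl rfl⟩)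
        rcases List.mem_or_eq_of_mem_set hm with h | rfl
        exacts [hg s h, hgs.1]
      · refine check_sound P hP n hc.2 (fun s hm => ?_) (hset _ ⟨a, b, Or.inl rfl⟩)
        rcases List.mem_or_eq_of_mem_set hm with h | rfl
        exacts [hg s h, hgs.2]
    · simp at hc
  | .cut i k l r, ss, hc, hg, hs => by
    simp only [check] at hc
    have good : ∀ t : St, t.good = true → ∀ s ∈ ss.set i t, s.good = true := fun t ht s hm =>
      (List.mem_or_eq_of_mem_set hm).elim (hg s) fun e => e ▸ ht
    split at hc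
    · rename_i lo hi hi'
      simp only [Bool.and_eq_true, Nat.ble_eq] at hc
      obtain ⟨D, hD, hset⟩ := forall₂_set hs i hi'
      rcases step (k := k) hD.1 hD.2.1 hD.2.2 with h | h
      · exact check_sound P hP l hc.2.1 (good _ (by simp [St.good]; omega)) (hset _ h)
      · exact check_sound P hP r hc.2.2 (good _ (by simp [St.good])) (hset _ h)
    · rename_i lo hi hi'
      simp only [Bool.and_eq_true, Nat.ble_eq] at hc
      obtain ⟨D, hD, hset⟩ := forall₂_set hs i hi'
      rcases step (k := k) hD.1 hD.2.1 hD.2.2 with h | h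
      · exact check_sound P hP l hc.2.1 (good _ (by simp [St.good]; omega)) (hset _ h)
      · exact check_sound P hP r hc.2.2 (good _ (by simp [St.good])) (hset _ h)
    · simp at hc

end CfsgLib.Recog.UFourSylow.Cert
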