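import Cfsg.Agent.Lib.Recog.UFourSylow.Cert.Types
import Mathlib.Algebra.BigOperators.Field
import Mathlib.Algebra.BigOperators.Ring.Finset
import Mathlib.Algebra.Order.BigOperators.Group.Finset
import Mathlib.Data.Rat.Lemmas

set_option autoImplicit false

/-!
The abstract data of the principal block in the case that `N(S)/S` has odd part fifteen (owner: helper25).

`w i` lists the coefficients of the character `i` at the five vanishing characters with norm five, `b i` the one at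
the vanishing character with norm sixteen, `d i` is its degree.
-/

namespace CfsgLib.Recog.UFourSylow.Cert

/-- The data of the case fifteen. -/
structure Fifteen (ι : Type*) [Fintype ι] where
  one : ι
  σ : Equiv.Perm ι
  w : ι → Vec
  b : ι → ℤ
  d : ι → ℤ
  σ_one : σ one = one
  σ_w : ∀ i, w (σ i) = (w i).rot
  σ_b : ∀ i, b (σ i) = b i
  σ_d : ∀ i, d (σ i) = d i
  w_one : w one = ⟨1, 0, 0, 0, 0⟩
  b_one : b one = 1
  d_one : d one = 1
  g00 : ∑ i, (w i).a0 * (w i).a0 = 5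
  g11 : ∑ i, (w i).a1 * (w i).a1 = 5
  g01 : ∑ i, (w i).a0 * (w i).a1 = 1
  g12 : ∑ i, (w i).a1 * (w i).a2 = 1
  g13 : ∑ i, (w i).a1 * (w i).a3 = 1
  gb0 : ∑ i, b i * (w i).a0 = 4
  gb1 : ∑ i, b i * (w i).a1 = 4
  gbb : ∑ i, b i * b i = 16
  lin0 : ∑ i, (w i).a0 * d i = 0
  lin1 : ∑ i, (w i).a1 * d i = 0
  linb : ∑ i, b i * d i = 0
  /-- the element of order four is inverted by no involution -/
  recb : ∑ i, ((((5 * b i - 4 * (w i).total) ^ 2 * b i : ℤ) : ℚ) / d i) = 0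
  /-- the pairs of involutions with product an involution are the same at every vanishing character -/
  req : ∑ i, ((((5 * b i - 4 * (w i).total) ^ 2 * (w i).a1 : ℤ) : ℚ) / d i) =
    ∑ i, ((((5 * b i - 4 * (w i).total) ^ 2 * (w i).a0 : ℤ) : ℚ) / d i)
  rneg : ∑ i, ((((5 * b i - 4 * (w i).total) ^ 2 * (w i).a0 : ℤ) : ℚ) / d i) < 0
  cong : ∀ i, (64 : ℤ) ∣ d i + 3 * (5 * b i - 4 * (w i).total) - 4 * b i
  dpos : ∀ i, 0 < d i
  mult1 : ∀ i, 0 ≤ d i + 3 * (5 * b i - 4 * (w i).total) + 60 * b i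
  mult2 : ∀ i, 0 ≤ d i + 3 * (5 * b i - 4 * (w i).total) - 4 * b i
  /-- the involutions are not in the kernel -/
  faith : ∀ i, i ≠ one → 5 * b i - 4 * (w i).total + 16 ≤ d i

/-- The contributions of an orbit to the five products. -/
def Typ.gram (t : Typ) : ℤ × ℤ × ℤ × ℤ × ℤ :=
  ((t.orb.map fun u => u.a0 * u.a0).sum, (t.orb.map fun u => u.a1 * u.a1).sum,
    (t.orb.map fun u => u.a0 * u.a1).sum, (t.orb.map fun u => u.a1 * u.a2).sum,
    (t.orb.map fun u => u.a1 * u.a3).sum)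

/-- The sums of the first two coefficients over an orbit. -/
def Typ.s0 (t : Typ) : ℤ := (t.orb.map fun u => u.a0).sum

/-- The sums of the first two coefficients over an orbit. -/
def Typ.s1 (t : Typ) : ℤ := (t.orb.map fun u => u.a1).sum

/-- An orbit of characters: type, coefficient at the norm sixteen, degree, both with the sign of the member. -/
structure Blk where
  t : ℕ
  β : ℤ
  D : ℤ

/-- The value at the involutions, with the sign of the member. -/
def Blk.tv (B : Blk) : ℤ := 5 * B.β - 4 * (typ B.t).rep.total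

/-- The conditions on one block which contradict the degree lemma. -/
def Blk.Ok (B : Blk) : Prop :=
  ∀ d t c : ℤ, (d = B.D ∧ t = B.tv ∧ c = B.β) ∨ (d = -B.D ∧ t = -B.tv ∧ c = -B.β) → 0 < d →
    t + 16 ≤ d ∧ (t + 32 ≤ d ∨ 1 ≤ t) ∧ 0 ≤ d + 3 * t + 60 * c ∧ 0 ≤ d + 3 * t - 4 * c ∧
      (64 : ℤ) ∣ d + 3 * t - 4 * c

/-- What the orbits satisfy. -/
structure Blocks (L : List Blk) : Prop where
  idx : ∀ B ∈ L, B.t < 75
  sorted : L.Pairwise fun B C => B.t < C.t ∨ (B.t = C.t ∧ B.β ≤ C.β)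
  gram : (L.map fun B => (typ B.t).gram.1).sum = 4 ∧ (L.map fun B => (typ B.t).gram.2.1).sum = 5 ∧
    (L.map fun B => (typ B.t).gram.2.2.1).sum = 1 ∧ (L.map fun B => (typ B.t).gram.2.2.2.1).sum = 1 ∧
    (L.map fun B => (typ B.t).gram.2.2.2.2).sum = 1
  gb0 : (L.map fun B => B.β * (typ B.t).s0).sum = 3
  gb1 : (L.map fun B => B.β * (typ B.t).s1).sum = 4
  gbb : (L.map fun B => ((typ B.t).n : ℤ) * B.β * B.β).sum ≤ 15
  ne : ∀ B ∈ L, B.D ≠ 0
  ok : ∀ B ∈ L, B.Ok
  lin0 : (L.map fun B => (typ B.t).s0 * B.D).sum = -1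
  lin1 : (L.map fun B => (typ B.t).s1 * B.D).sum = 0
  rec0 : (L.map fun B => ((B.tv ^ 2 * (typ B.t).s0 : ℤ) : ℚ) / B.D).sum < -1
  rec1 : (L.map fun B => ((B.tv ^ 2 * (typ B.t).s1 : ℤ) : ℚ) / B.D).sum < 0
  req : (L.map fun B => ((B.tv ^ 2 * ((typ B.t).s0 - (typ B.t).s1) : ℤ) : ℚ) / B.D).sum = -1
  full : (L.map fun B => ((typ B.t).n : ℤ) * B.β * B.β).sum = 15 →
    (L.map fun B => ((typ B.t).n : ℤ) * B.β * B.D).sum = -1 ∧
    (L.map fun B => ((B.tv ^ 2 * ((typ B.t).n * B.β) : ℤ) : ℚ) / B.D).sum = -1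

end CfsgLib.Recog.UFourSylow.Cert
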