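import Cfsg.Agent.Lib.Recog.UFourSylow.Cert.Box
import Cfsg.Agent.Lib.Recog.UFourSylow.Cert.Data

set_option autoImplicit false

/-!
The system of relations of a list of orbits with their coefficients at the norm sixteen (owner: helper25).
-/

namespace CfsgLib.Recog.UFourSylow.Cert

/-- Types with coefficients. -/
abbrev Key : Type := List (ℕ × ℤ)

/-- The key of a list of orbits. -/
def keyOf (L : List Blk) : Key := L.map fun B => (B.t, B.β)

/-- The value at the involutions. -/
def keyTv (e : ℕ × ℤ) : ℤ := 5 * e.2 - 4 * (typ e.1).rep.total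

/-- The conditions on an absolute value. -/
def admits (d t c : ℤ) : Bool :=
  decide (t + 16 ≤ d ∧ (t + 32 ≤ d ∨ 1 ≤ t) ∧ 0 ≤ d + 3 * t + 60 * c ∧ 0 ≤ d + 3 * t - 4 * c)

/-- The least candidate. -/
def residue (t c : ℤ) : ℕ :=
  if (4 * c - 3 * t) % 64 = 0 then 64 else ((4 * c - 3 * t) % 64).toNat

/-- The least admissible absolute value (`0` if there is none below a bound). -/
def least (t c : ℤ) : ℕ :=
  match (List.range 10).find? fun k => admits ((residue t c + 64 * k : ℕ) : ℤ) t c with
  | some k => residue t c + 64 * k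
  | none => 0

/-- The first state. -/
def start (k : Key) : List St := k.map fun e => .any (least (keyTv e) e.2) (least (-keyTv e) (-e.2))

/-- The norm used by the orbits is the whole. -/
def isFull (k : Key) : Bool := decide ((k.map fun e => ((typ e.1).n : ℤ) * e.2 * e.2).sum = 15)

/-- The relations. -/
def probOf (k : Key) : Prob where
  lin := [(k.map fun e => (typ e.1).s0, -1), (k.map fun e => (typ e.1).s1, 0)] ++
    if isFull k then [(k.map fun e => ((typ e.1).n : ℤ) * e.2, -1)] else []
  req := [(k.map fun e => keyTv e ^ 2 * ((typ e.1).s0 - (typ e.1).s1), -1)] ++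
    if isFull k then [(k.map fun e => keyTv e ^ 2 * ((typ e.1).n * e.2), -1)] else []
  rlt := [(k.map fun e => keyTv e ^ 2 * (typ e.1).s0, -1), (k.map fun e => keyTv e ^ 2 * (typ e.1).s1, 0)]

/-- The certificate check of a key. -/
def certOK (k : Key) (t : Tree) : Bool := (start k).all St.good && check (probOf k) t (start k)

theorem least_spec {d t c : ℤ} (hd : 0 < d) (h : t + 16 ≤ d ∧ (t + 32 ≤ d ∨ 1 ≤ t) ∧ 0 ≤ d + 3 * t + 60 * c ∧
      0 ≤ d + 3 * t - 4 * c ∧ (64 : ℤ) ∣ d + 3 * t - 4 * c) (hl : 1 ≤ least t c) :
    (least t c : ℤ) ≤ d ∧ (64 : ℤ) ∣ d - least t c := by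
  obtain ⟨h1, h2, h3, h4, h5⟩ := h
  have hr : 1 ≤ residue t c ∧ residue t c ≤ 64 ∧ (64 : ℤ) ∣ (residue t c : ℤ) + 3 * t - 4 * c := by
    unfold residue
    split_ifs with h0 <;> refine ⟨?_, ?_, ?_⟩ <;> omega
  rcases hk : (List.range 10).find? fun k => admits ((residue t c + 64 * k : ℕ) : ℤ) t c with _ | k
  · simp only [least, hk] at hl
    omega
  · simp only [least, hk] at hl ⊢
    obtain ⟨-, as, bs, hsplit, has⟩ := List.find?_eq_some_iff_append.1 hk
    refine ⟨?_, by omega⟩
    by_contra hlt
    obtain ⟨m, hm⟩ : ∃ m : ℕ, d = residue t c + 64 * m := ⟨((d - residue t c) / 64).toNat, by omega⟩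
    have hmk : m < k := by omega
    have hlen : as.length = k := by
      have := congrArg (fun l : List ℕ => l[as.length]?) hsplit
      rw [List.getElem?_append_right le_rfl, Nat.sub_self, List.getElem?_cons_zero,
        List.getElem?_eq_some_iff] at this
      obtain ⟨hlt', he⟩ := this
      simpa using he
    have hmem : m ∈ as := by
      have hg : (List.range 10)[m]? = as[m]? := by rw [hsplit, List.getElem?_append_left (by omega)]
      have hk10 : k < 10 := List.mem_range.1 (List.mem_of_find?_eq_some hk)
      rw [List.getElem?_range (by omega)] at hg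
      exact List.mem_of_getElem? hg.symm
    have := has m hmem
    simp only [admits, Bool.not_eq_true', decide_eq_false_iff_not] at this
    refine this ⟨?_, ?_, ?_, ?_⟩ <;> omega

theorem rdot_map (f : ℕ × ℤ → ℤ) : ∀ L : List Blk,
    rdot ((keyOf L).map f) (L.map Blk.D) = (L.map fun B => ((f (B.t, B.β) : ℤ) : ℚ) / B.D).sum
  | [] => rfl
  | B :: L => by simp only [keyOf, List.map_cons, rdot, List.sum_cons]; rw [← rdot_map f L]; rfl

theorem dot_map (f : ℕ × ℤ → ℤ) : ∀ L : List Blk,
    dot ((keyOf L).map f) (L.map Blk.D) = (L.map fun B => f (B.t, B.β) * B.D).sum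
  | [] => rfl
  | B :: L => by simp only [keyOf, List.map_cons, dot, List.sum_cons]; rw [← dot_map f L]; rfl

theorem start_holds : ∀ L : List Blk, (∀ B ∈ L, B.Ok ∧ B.D ≠ 0) → ((start (keyOf L)).all St.good = true) →
    List.Forall₂ St.Holds (start (keyOf L)) (L.map Blk.D)
  | [], _, _ => List.Forall₂.nil
  | B :: L, hB, hg => by
    simp only [start, keyOf, List.map_cons, List.all_cons, Bool.and_eq_true] at hg
    refine List.Forall₂.cons ?_ (start_holds L (fun C hC => hB C (List.mem_cons_of_mem _ hC)) hg.2)
    obtain ⟨hok, hne⟩ := hB B (List.mem_cons_self ..)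
    simp only [St.good, Bool.and_eq_true, Nat.ble_eq] at hg
    rcases lt_or_gt_of_ne hne with h | h
    · exact Or.inr (least_spec (by omega) (hok (-B.D) (-B.tv) (-B.β) (Or.inr ⟨rfl, rfl, rfl⟩) (by omega)) hg.1.2)
    · exact Or.inl (least_spec h (hok B.D B.tv B.β (Or.inl ⟨rfl, rfl, rfl⟩) h) hg.1.1)

/-- A checked certificate refutes the orbits. -/
theorem refute {L : List Blk} (hB : Blocks L) {t : Tree} (h : certOK (keyOf L) t = true) : False := by
  simp only [certOK, Bool.and_eq_true] at h
  have hfull : isFull (keyOf L) = true → (L.map fun B => ((typ B.t).n : ℤ) * B.β * B.β).sum = 15 := fun hf => by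
    simpa [isFull, keyOf, List.map_map, Function.comp_def] using hf
  refine check_sound (probOf (keyOf L)) (Ds := L.map Blk.D) ⟨?_, ?_, ?_⟩ t h.2 (fun s hs => List.all_eq_true.1 h.1 s hs)
    (start_holds L (fun B hL => ⟨hB.ok B hL, hB.ne B hL⟩) h.1)
  · intro e he
    simp only [probOf, List.mem_append, List.mem_cons, List.not_mem_nil, or_false] at he
    rcases he with (rfl | rfl) | he
    · simpa [dot_map] using hB.lin0
    · simpa [dot_map] using hB.lin1
    · split at he
      · rename_i hf
        simp only [List.mem_cons, List.not_mem_nil, or_false] at he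
        subst he
        simpa [dot_map] using (hB.full (hfull hf)).1
      · simp at he
  · intro e he
    simp only [probOf, List.mem_append, List.mem_cons, List.not_mem_nil, or_false] at he
    rcases he with rfl | he
    · simpa [rdot_map, keyTv, Blk.tv] using hB.req
    · split at he
      · rename_i hf
        simp only [List.mem_cons, List.not_mem_nil, or_false] at he
        subst he
        simpa [rdot_map, keyTv, Blk.tv] using (hB.full (hfull hf)).2
      · simp at he
  · intro e he
    simp only [probOf, List.mem_cons, List.not_mem_nil, or_false] at he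
    rcases he with rfl | rfl
    · simpa [rdot_map, keyTv, Blk.tv] using hB.rec0
    · simpa [rdot_map, keyTv, Blk.tv] using hB.rec1

end CfsgLib.Recog.UFourSylow.Cert
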