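import Cfsg.Agent.Lib.Recog.UFourSylow.Cert.Data
import Mathlib.Data.List.Sort
import Mathlib.Algebra.Group.End
import Mathlib.Algebra.BigOperators.Group.List.Basic
import Mathlib.Data.Finset.Sort
import Mathlib.Tactic.Linarith
import Mathlib.Tactic.Abel
import Mathlib.Tactic.Ring

set_option autoImplicit false

/-!
The characters fall into Galois orbits of the listed types (owner: helper25).
-/

namespace CfsgLib.Recog.UFourSylow.Cert

open Finset

theorem toFinset_range (n : ℕ) : (List.range n).toFinset = range n := by ext; simp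

theorem sum_map_sub' {α M : Type*} [AddCommGroup M] (f g : α → M) :
    ∀ l : List α, (l.map fun x => f x - g x).sum = (l.map f).sum - (l.map g).sum
  | [] => by simp
  | x :: l => by simp only [List.map_cons, List.sum_cons, sum_map_sub' f g l]; abel

theorem typs_ne_ok : (List.range 75).all (fun t => (List.range (typ t).n).all fun p =>
    decide (Vec.rotN p (typ t).rep ≠ Vec.nul ∧ (Vec.rotN p (typ t).rep).opp ≠ Vec.nul)) = true := by decide +kernel

/-- The members are not zero. -/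
theorem typs_ne (t : ℕ) (ht : t < 75) (p : ℕ) (hp : p < (typ t).n) :
    Vec.rotN p (typ t).rep ≠ Vec.nul ∧ (Vec.rotN p (typ t).rep).opp ≠ Vec.nul := by
  have h := typs_ne_ok
  simp only [List.all_eq_true, List.mem_range, decide_eq_true_iff] at h
  exact h t ht p hp

namespace Fifteen

variable {ι : Type*} [Fintype ι] [DecidableEq ι] (X : Fifteen ι)

omit [DecidableEq ι] in
theorem pow_σ : ∀ (p : ℕ) (i : ι),
    X.w ((X.σ ^ p) i) = Vec.rotN p (X.w i) ∧ X.b ((X.σ ^ p) i) = X.b i ∧ X.d ((X.σ ^ p) i) = X.d i ∧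
      ((X.σ ^ p) i = X.one → i = X.one)
  | 0, i => by simp [Vec.rotN]
  | p + 1, i => by
    obtain ⟨h1, h2, h3, h4⟩ := pow_σ p i
    rw [pow_succ', Equiv.Perm.mul_apply]
    refine ⟨by rw [X.σ_w, h1, Vec.rotN], by rw [X.σ_b, h2], by rw [X.σ_d, h3], fun h => h4 ?_⟩
    rw [← X.σ_one] at h
    exact X.σ.injective h

theorem sum_ne {M : Type*} [AddCommGroup M] (F : ι → M) :
    ∑ i ∈ univ.erase X.one, F i = (∑ i, F i) - F X.one := by
  rw [eq_sub_iff_add_eq, add_comm, add_sum_erase _ _ (mem_univ _)]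

omit [DecidableEq ι] in
theorem sum_rot (F : Vec → ℤ) (G : ι → ℤ) (hG : ∀ i, G (X.σ i) = G i) (p : ℕ) :
    ∑ i, G i * F (Vec.rotN p (X.w i)) = ∑ i, G i * F (X.w i) := by
  induction p with
  | zero => rfl
  | succ p ih =>
    rw [← ih, ← Equiv.sum_comp X.σ (fun i => G i * F (Vec.rotN p (X.w i)))]
    refine sum_congr rfl fun i _ => ?_
    rw [hG, X.σ_w]
    congr 2
    clear ih
    induction p with
    | zero => rfl
    | succ p ih => rw [Vec.rotN, ih, Vec.rotN]

omit [DecidableEq ι] in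
/-- The entries are small. -/
theorem small (i : ι) : (-2 ≤ (X.w i).a0 ∧ (X.w i).a0 ≤ 2) ∧ (-2 ≤ (X.w i).a1 ∧ (X.w i).a1 ≤ 2) ∧
    (-2 ≤ (X.w i).a2 ∧ (X.w i).a2 ≤ 2) ∧ (-2 ≤ (X.w i).a3 ∧ (X.w i).a3 ≤ 2) ∧
    (-2 ≤ (X.w i).a4 ∧ (X.w i).a4 ≤ 2) := by
  have bnd : ∀ f : Vec → ℤ, ∑ j, 1 * (f (X.w j) * f (X.w j)) = 5 → -2 ≤ f (X.w i) ∧ f (X.w i) ≤ 2 := fun f h => by
    have := single_le_sum (f := fun j => 1 * (f (X.w j) * f (X.w j)))
      (fun j _ => by simpa using mul_self_nonneg (f (X.w j))) (mem_univ i)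
    rw [h] at this
    constructor <;> by_contra hh <;> push Not at hh <;> nlinarith
  have rot : ∀ p, ∑ j, 1 * ((Vec.rotN p (X.w j)).a1 * (Vec.rotN p (X.w j)).a1) = 5 := fun p => by
    rw [X.sum_rot (fun v => v.a1 * v.a1) (fun _ => 1) (fun _ => rfl) p]; simpa using X.g11
  refine ⟨bnd (fun v => v.a0) (by simpa using X.g00), bnd (fun v => v.a1) (rot 0), bnd (fun v => v.a2) (rot 3),
    bnd (fun v => v.a3) (rot 2), bnd (fun v => v.a4) (rot 1)⟩

theorem not_long {i : ι} (hi : i ≠ X.one) : long (X.w i) ≠ true := by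
  intro h
  simp only [long, decide_eq_true_iff] at h
  set L := ((List.range 4).map fun p => Vec.rotN p (X.w i)).dedup with hL
  have hnd : L.Nodup := List.nodup_dedup _
  have hch : ∀ u ∈ L.toFinset, ∃ j ∈ univ.erase X.one, X.w j = u := fun u hu => by
    rw [List.mem_toFinset, hL, List.mem_dedup, List.mem_map] at hu
    obtain ⟨p, -, rfl⟩ := hu
    exact ⟨(X.σ ^ p) i, mem_erase.2 ⟨fun e => hi ((X.pow_σ p i).2.2.2 e), mem_univ _⟩, (X.pow_σ p i).1⟩
  choose j hj hjw using hch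
  have key : ∀ f : Vec → ℤ, (∀ v, 0 ≤ f v) →
      (L.map f).sum ≤ (∑ k, f (X.w k)) - f (X.w X.one) := fun f hf => by
    rw [← X.sum_ne fun k => f (X.w k), ← List.sum_toFinset f hnd, ← Finset.sum_attach]
    calc ∑ u ∈ L.toFinset.attach, f u.1 = ∑ u ∈ L.toFinset.attach, f (X.w (j u.1 u.2)) :=
          sum_congr rfl fun u _ => by rw [hjw]
      _ = ∑ k ∈ L.toFinset.attach.image (fun u => j u.1 u.2), f (X.w k) := by
          rw [sum_image]
          intro u _ v _ e
          exact Subtype.ext (by rw [← hjw u.1 u.2, ← hjw v.1 v.2]; exact congrArg X.w e)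
      _ ≤ _ := sum_le_sum_of_subset_of_nonneg
          (fun k hk => by obtain ⟨u, -, rfl⟩ := mem_image.1 hk; exact hj u.1 u.2) fun k _ _ => hf _
  have h0 := key (fun v => v.a0 * v.a0) fun v => mul_self_nonneg _
  have h1 := key (fun v => v.a1 * v.a1) fun v => mul_self_nonneg _
  simp only [X.g00, X.g11, X.w_one] at h0 h1
  omega

/-- The characters at a member of a type. -/
def cls (t : ℕ) : Finset ι :=
  univ.filter fun i => i ≠ X.one ∧ ∃ ng : Bool, ((typ t).flip = true → ng = false) ∧ X.w i = (typ t).mem 0 ng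

/-- Sums over the characters other than the principal one, orbit by orbit. -/
theorem sum_split {M : Type*} [AddCommMonoid M] (F : ι → M) (h0 : ∀ i, i ≠ X.one → X.w i = Vec.nul → F i = 0) :
    ∑ i ∈ univ.erase X.one, F i =
      ∑ t ∈ range 75, ∑ j ∈ X.cls t, ∑ p ∈ range (typ t).n, F ((X.σ ^ p) j) := by
  have hdom : ∑ t ∈ range 75, ∑ j ∈ X.cls t, ∑ p ∈ range (typ t).n, F ((X.σ ^ p) j) =
      ∑ x ∈ (range 75).sigma (fun t => X.cls t ×ˢ range (typ t).n), F ((X.σ ^ x.2.2) x.2.1) := by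
    rw [sum_sigma]
    exact sum_congr rfl fun t _ => by rw [sum_product]
  rw [hdom, ← sum_filter_add_sum_filter_not (univ.erase X.one) (fun i => X.w i = Vec.nul),
    sum_eq_zero (fun i hi => h0 i (mem_erase.1 (mem_filter.1 hi).1).1 (mem_filter.1 hi).2), zero_add]
  symm
  refine sum_bij (fun x _ => (X.σ ^ x.2.2) x.2.1) ?_ ?_ ?_ (fun x _ => rfl)
  · rintro ⟨t, j, p⟩ hx
    simp only [mem_sigma, mem_product, mem_range, cls, mem_filter, mem_univ, true_and] at hx
    obtain ⟨ht, ⟨hj, ng, hng, hw⟩, hp⟩ := hx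
    refine mem_filter.2 ⟨mem_erase.2 ⟨fun e => hj ((X.pow_σ p j).2.2.2 e), mem_univ _⟩, fun e => ?_⟩
    rw [(X.pow_σ p j).1, hw] at e
    cases ng
    · exact (typs_ne t ht p hp).1 (by simpa [Typ.mem, Vec.rotN] using e)
    · exact (typs_ne t ht p hp).2 (by simpa [Typ.mem, Vec.rotN, Vec.rotN_opp] using e)
  · rintro ⟨t, j, p⟩ hx ⟨t', j', p'⟩ hx' he
    simp only [mem_sigma, mem_product, mem_range, cls, mem_filter, mem_univ, true_and] at hx hx'
    obtain ⟨ht, ⟨-, ng, hng, hw⟩, hp⟩ := hx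
    obtain ⟨ht', ⟨-, ng', hng', hw'⟩, hp'⟩ := hx'
    have e := congrArg X.w he
    rw [(X.pow_σ p j).1, (X.pow_σ p' j').1, hw, hw'] at e
    obtain ⟨rfl, rfl, -⟩ := mem_unique ht ht' hp hp' hng hng' (by
      cases ng <;> cases ng' <;> simpa [Typ.mem, Vec.rotN, Vec.rotN_opp] using e)
    have : j = j' := (X.σ ^ p).injective he
    subst this
    rfl
  · intro i hi
    obtain ⟨hi1, hi2⟩ := mem_filter.1 hi
    rcases cover (X.small i) with h | h | ⟨t, ht, p, hp, ng, hng, hm⟩
    · exact absurd h hi2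
    · exact absurd h (X.not_long (mem_erase.1 hi1).1)
    · refine ⟨⟨t, (X.σ ^ p).symm i, p⟩, ?_, by simp⟩
      have hw : X.w ((X.σ ^ p).symm i) = (typ t).mem 0 ng := by
        refine Vec.rotN_inj p ?_
        rw [← (X.pow_σ p _).1, Equiv.apply_symm_apply, ← hm]
        cases ng <;> simp [Typ.mem, Vec.rotN, Vec.rotN_opp]
      simp only [mem_sigma, mem_product, mem_range, cls, mem_filter, mem_univ, true_and]
      refine ⟨ht, ⟨fun e => (mem_erase.1 hi1).1 ?_, ng, hng, hw⟩, hp⟩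
      have hpone : ∀ q : ℕ, (X.σ ^ q) X.one = X.one := fun q => by
        induction q with
        | zero => rfl
        | succ q ih => rw [pow_succ', Equiv.Perm.mul_apply, ih, X.σ_one]
      rw [← hpone p, ← e, Equiv.apply_symm_apply]

/-- The sign of a member. -/
def sgn (t : ℕ) (j : ι) : ℤ := if X.w j = (typ t).rep then 1 else -1

/-- The block of a character. -/
def blk (t : ℕ) (j : ι) : Blk := ⟨t, X.sgn t j * X.b j, X.sgn t j * X.d j⟩

theorem cls_facts {t : ℕ} {j : ι} (hj : j ∈ X.cls t) : j ≠ X.one ∧ (X.sgn t j = 1 ∧ X.w j = (typ t).rep ∨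
    X.sgn t j = -1 ∧ X.w j = (typ t).rep.opp) := by
  simp only [cls, mem_filter, mem_univ, true_and] at hj
  obtain ⟨hj1, ng, -, hw⟩ := hj
  refine ⟨hj1, ?_⟩
  unfold sgn
  split_ifs with h
  · exact Or.inl ⟨rfl, h⟩
  · refine Or.inr ⟨rfl, ?_⟩
    cases ng
    · exact absurd hw (by simpa [Typ.mem, Vec.rotN] using h)
    · simpa [Typ.mem, Vec.rotN] using hw

/-- The orbit of one type, sorted. -/
noncomputable def part (t : ℕ) : List Blk :=
  ((X.cls t).toList.map (X.blk t)).insertionSort fun B C => B.β ≤ C.β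

/-- All orbits. -/
noncomputable def blocks : List Blk := (List.range 75).flatMap X.part

theorem sum_blocks {M : Type*} [AddCommMonoid M] (g : Blk → M) :
    (X.blocks.map g).sum = ∑ t ∈ range 75, ∑ j ∈ X.cls t, g (X.blk t j) := by
  rw [blocks, List.map_flatMap, List.flatMap_def, List.sum_flatten, List.map_map, ← List.sum_toFinset _ List.nodup_range,
    toFinset_range]
  refine sum_congr rfl fun t _ => ?_
  rw [Function.comp_apply, part, ((List.perm_insertionSort _ _).map g).sum_eq, List.map_map, sum_map_toList]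
  rfl

/-- A sum over the characters other than the principal one as a sum over blocks. -/
theorem transfer {M : Type*} [AddCommMonoid M] (F : ι → M) (g : Blk → M)
    (h0 : ∀ i, i ≠ X.one → X.w i = Vec.nul → F i = 0)
    (h : ∀ t < 75, ∀ j ∈ X.cls t, ∑ p ∈ range (typ t).n, F ((X.σ ^ p) j) = g (X.blk t j)) :
    ∑ i ∈ univ.erase X.one, F i = (X.blocks.map g).sum := by
  rw [X.sum_split F h0, X.sum_blocks g]
  exact sum_congr rfl fun t ht => sum_congr rfl fun j hj => h t (mem_range.1 ht) j hj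

theorem mem_blocks {B : Blk} (hB : B ∈ X.blocks) : ∃ t < 75, ∃ j ∈ X.cls t, B = X.blk t j := by
  simp only [blocks, part, List.mem_flatMap, List.mem_range] at hB
  obtain ⟨t, ht, hB⟩ := hB
  rw [List.mem_insertionSort, List.mem_map] at hB
  obtain ⟨j, hj, rfl⟩ := hB
  exact ⟨t, ht, j, Finset.mem_toList.1 hj, rfl⟩

/-- The orbit sums of a linear function of the coefficients. -/
theorem orb_lin (t : ℕ) (j : ι) (hj : j ∈ X.cls t) (f : Vec → ℤ) (hf : ∀ v, f v.opp = -f v) :
    ∑ p ∈ range (typ t).n, f (X.w ((X.σ ^ p) j)) = X.sgn t j * ((typ t).orb.map f).sum := by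
  rw [Typ.orb, List.map_map, ← List.sum_toFinset _ List.nodup_range, toFinset_range, mul_sum]
  refine sum_congr rfl fun p _ => ?_
  rw [(X.pow_σ p j).1]
  rcases (X.cls_facts hj).2 with ⟨e, h⟩ | ⟨e, h⟩ <;> rw [e, h]
  · simp
  · rw [Vec.rotN_opp, hf]; simp

/-- The orbit sums of an even function of the coefficients. -/
theorem orb_even (t : ℕ) (j : ι) (hj : j ∈ X.cls t) (f : Vec → ℤ) (hf : ∀ v, f v.opp = f v) :
    ∑ p ∈ range (typ t).n, f (X.w ((X.σ ^ p) j)) = ((typ t).orb.map f).sum := by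
  rw [Typ.orb, List.map_map, ← List.sum_toFinset _ List.nodup_range, toFinset_range]
  refine sum_congr rfl fun p _ => ?_
  rw [(X.pow_σ p j).1]
  rcases (X.cls_facts hj).2 with ⟨-, h⟩ | ⟨-, h⟩ <;> rw [h]
  · rfl
  · rw [Vec.rotN_opp, hf]; rfl

theorem total_rot : ∀ (p : ℕ) (v : Vec), (Vec.rotN p v).total = v.total
  | 0, _ => rfl
  | p + 1, v => by
    rw [← total_rot p v]
    simp only [Vec.rotN, Vec.rot, Vec.total]
    omega

theorem tv_orbit (t : ℕ) (j : ι) (hj : j ∈ X.cls t) (p : ℕ) :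
    5 * X.b ((X.σ ^ p) j) - 4 * (X.w ((X.σ ^ p) j)).total = X.sgn t j * (X.blk t j).tv := by
  rw [(X.pow_σ p j).2.1, (X.pow_σ p j).1, total_rot]
  rcases (X.cls_facts hj).2 with ⟨e, h⟩ | ⟨e, h⟩ <;> simp only [Blk.tv, blk, e, h, Vec.total, Vec.opp] <;> ring

/-- The orbits satisfy their relations, if the degree lemma fails. -/
theorem blocks_ok (hneg : ∀ i, i ≠ X.one →
    5 * X.b i - 4 * (X.w i).total + 32 ≤ X.d i ∨ 1 ≤ 5 * X.b i - 4 * (X.w i).total) : Blocks X.blocks := by
  have one_T : 5 * X.b X.one - 4 * (X.w X.one).total = 1 := by rw [X.b_one, X.w_one]; rfl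
  have quad : ∀ (f : Vec → ℤ), (∀ v, f v.opp = f v) → f Vec.nul = 0 →
      (X.blocks.map fun B => ((typ B.t).orb.map f).sum).sum = (∑ i, f (X.w i)) - f (X.w X.one) := fun f hf h0 => by
    rw [← X.sum_ne fun i => f (X.w i),
      X.transfer (fun i => f (X.w i)) (fun B => ((typ B.t).orb.map f).sum) (fun i _ h => by rw [h, h0])
        fun t _ j hj => X.orb_even t j hj f hf]
  have lind : ∀ (f : Vec → ℤ), (∀ v, f v.opp = -f v) → f Vec.nul = 0 →
      (X.blocks.map fun B => ((typ B.t).orb.map f).sum * B.D).sum =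
        (∑ i, f (X.w i) * X.d i) - f (X.w X.one) * X.d X.one := fun f hf h0 => by
    rw [← X.sum_ne fun i => f (X.w i) * X.d i,
      X.transfer (fun i => f (X.w i) * X.d i) (fun B => ((typ B.t).orb.map f).sum * B.D)
        (fun i _ h => by rw [h, h0, zero_mul]) fun t _ j hj => by
          simp only [fun p => (X.pow_σ p j).2.2.1, ← sum_mul, X.orb_lin t j hj f hf, blk]
          ring]
  have linb : ∀ (f : Vec → ℤ), (∀ v, f v.opp = -f v) → f Vec.nul = 0 →
      (X.blocks.map fun B => B.β * ((typ B.t).orb.map f).sum).sum =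
        (∑ i, X.b i * f (X.w i)) - X.b X.one * f (X.w X.one) := fun f hf h0 => by
    rw [← X.sum_ne fun i => X.b i * f (X.w i),
      X.transfer (fun i => X.b i * f (X.w i)) (fun B => B.β * ((typ B.t).orb.map f).sum)
        (fun i _ h => by rw [h, h0, mul_zero]) fun t _ j hj => by
          simp only [fun p => (X.pow_σ p j).2.1, ← mul_sum, X.orb_lin t j hj f hf, blk]
          ring]
  have recd : ∀ (f : Vec → ℤ), (∀ v, f v.opp = -f v) → f Vec.nul = 0 →
      (X.blocks.map fun B => ((B.tv ^ 2 * ((typ B.t).orb.map f).sum : ℤ) : ℚ) / B.D).sum =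
        (∑ i, ((((5 * X.b i - 4 * (X.w i).total) ^ 2 * f (X.w i) : ℤ) : ℚ) / X.d i)) -
          ((f (X.w X.one) : ℤ) : ℚ) := fun f hf h0 => by
    have e : (((5 * X.b X.one - 4 * (X.w X.one).total) ^ 2 * f (X.w X.one) : ℤ) : ℚ) / X.d X.one =
        ((f (X.w X.one) : ℤ) : ℚ) := by rw [one_T, X.d_one]; simp
    rw [← e, ← X.sum_ne fun i => ((((5 * X.b i - 4 * (X.w i).total) ^ 2 * f (X.w i) : ℤ) : ℚ) / X.d i),
      X.transfer _ (fun B => ((B.tv ^ 2 * ((typ B.t).orb.map f).sum : ℤ) : ℚ) / B.D)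
        (fun i _ h => by rw [h, h0]; simp) fun t _ j hj => by
          simp only [fun p => X.tv_orbit t j hj p, fun p => (X.pow_σ p j).2.2.1, ← sum_div, ← Int.cast_sum,
            ← mul_sum, X.orb_lin t j hj f hf]
          rcases (X.cls_facts hj).2 with ⟨e, -⟩ | ⟨e, -⟩ <;> simp [blk, e, div_neg, neg_div]]
  have hb : (X.blocks.map fun B => ((typ B.t).n : ℤ) * B.β * B.β).sum =
      15 - ∑ i ∈ (univ.erase X.one).filter (fun i => X.w i = Vec.nul), X.b i * X.b i := by
    have h := X.transfer (fun i => if X.w i = Vec.nul then 0 else X.b i * X.b i)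
      (fun B => ((typ B.t).n : ℤ) * B.β * B.β) (fun i _ hi => if_pos hi) fun t ht j hj => by
        have hne : ∀ p ∈ range (typ t).n, X.w ((X.σ ^ p) j) ≠ Vec.nul := fun p hp => by
          rw [(X.pow_σ p j).1]
          rcases (X.cls_facts hj).2 with ⟨-, h⟩ | ⟨-, h⟩ <;> rw [h]
          · exact (typs_ne t ht p (mem_range.1 hp)).1
          · rw [Vec.rotN_opp]; exact (typs_ne t ht p (mem_range.1 hp)).2
        rw [sum_congr rfl fun p hp => by rw [if_neg (hne p hp), (X.pow_σ p j).2.1]]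
        rcases (X.cls_facts hj).2 with ⟨e, -⟩ | ⟨e, -⟩ <;> simp [blk, e] <;> ring
    rw [← h, sum_filter, eq_sub_iff_add_eq, ← sum_add_distrib]
    rw [sum_congr rfl (g := fun i => X.b i * X.b i) fun i _ => by split_ifs <;> simp]
    rw [X.sum_ne fun i => X.b i * X.b i, X.gbb, X.b_one]
    rfl
  refine
    { idx := fun B hB => by obtain ⟨t, ht, j, -, rfl⟩ := X.mem_blocks hB; exact ht
      sorted := ?_
      gram := ⟨?_, ?_, ?_, ?_, ?_⟩
      gb0 := ?_
      gb1 := ?_
      gbb := ?_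
      ne := fun B hB => by
        obtain ⟨t, -, j, hj, rfl⟩ := X.mem_blocks hB
        rcases (X.cls_facts hj).2 with ⟨e, -⟩ | ⟨e, -⟩ <;> simp [blk, e, (X.dpos j).ne']
      ok := ?_
      lin0 := ?_
      lin1 := ?_
      rec0 := ?_
      rec1 := ?_
      req := ?_
      full := ?_ }
  · simp only [blocks]
    rw [List.pairwise_flatMap]
    refine ⟨fun t _ => ?_, ?_⟩
    · have hs : (X.part t).Pairwise fun B C => B.β ≤ C.β := by
        have : Std.Total fun B C : Blk => B.β ≤ C.β := ⟨fun B C => le_total _ _⟩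
        have : IsTrans Blk fun B C => B.β ≤ C.β := ⟨fun _ _ _ => le_trans⟩
        exact List.pairwise_insertionSort _ _
      refine hs.imp_of_mem fun {B C} hB hC hle => Or.inr ⟨?_, hle⟩
      simp only [part, List.mem_insertionSort, List.mem_map] at hB hC
      obtain ⟨_, -, rfl⟩ := hB
      obtain ⟨_, -, rfl⟩ := hC
      rfl
    · refine List.pairwise_lt_range.imp fun {a b} hab B hB C hC => Or.inl ?_
      simp only [part, List.mem_insertionSort, List.mem_map] at hB hC
      obtain ⟨_, -, rfl⟩ := hB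
      obtain ⟨_, -, rfl⟩ := hC
      exact hab
  · show (X.blocks.map fun B => ((typ B.t).orb.map fun u => u.a0 * u.a0).sum).sum = 4
    rw [quad _ (fun v => by simp [Vec.opp]) rfl, X.g00, X.w_one]; rfl
  · show (X.blocks.map fun B => ((typ B.t).orb.map fun u => u.a1 * u.a1).sum).sum = 5
    rw [quad _ (fun v => by simp [Vec.opp]) rfl, X.g11, X.w_one]; rfl
  · show (X.blocks.map fun B => ((typ B.t).orb.map fun u => u.a0 * u.a1).sum).sum = 1
    rw [quad _ (fun v => by simp [Vec.opp]) rfl, X.g01, X.w_one]; rfl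
  · show (X.blocks.map fun B => ((typ B.t).orb.map fun u => u.a1 * u.a2).sum).sum = 1
    rw [quad _ (fun v => by simp [Vec.opp]) rfl, X.g12, X.w_one]; rfl
  · show (X.blocks.map fun B => ((typ B.t).orb.map fun u => u.a1 * u.a3).sum).sum = 1
    rw [quad _ (fun v => by simp [Vec.opp]) rfl, X.g13, X.w_one]; rfl
  · show (X.blocks.map fun B => B.β * ((typ B.t).orb.map fun u => u.a0).sum).sum = 3
    rw [linb _ (fun v => rfl) rfl, X.gb0, X.b_one, X.w_one]; rfl
  · show (X.blocks.map fun B => B.β * ((typ B.t).orb.map fun u => u.a1).sum).sum = 4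
    rw [linb _ (fun v => rfl) rfl, X.gb1, X.b_one, X.w_one]; rfl
  · rw [hb]
    have := sum_nonneg (s := (univ.erase X.one).filter fun i => X.w i = Vec.nul)
      (f := fun i => X.b i * X.b i) fun i _ => mul_self_nonneg _
    omega
  · intro B hB
    obtain ⟨t, -, j, hj, rfl⟩ := X.mem_blocks hB
    obtain ⟨hj1, hj2⟩ := X.cls_facts hj
    have htv := X.tv_orbit t j hj 0
    simp only [pow_zero, Equiv.Perm.one_apply] at htv
    intro d tt c hc hd
    have h1 := X.faith j hj1
    have h2 := hneg j hj1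
    have h3 := X.mult1 j
    have h4 := X.mult2 j
    have h5 := X.cong j
    have h6 := X.dpos j
    rw [htv] at h1 h2 h3 h4 h5
    rcases hj2 with ⟨e, -⟩ | ⟨e, -⟩ <;> simp only [blk, e] at hc h1 h2 h3 h4 h5 <;>
      rcases hc with ⟨rfl, rfl, rfl⟩ | ⟨rfl, rfl, rfl⟩ <;>
      simp only [neg_mul, one_mul, neg_neg, Blk.tv] at * <;>
      exact ⟨by omega, by omega, by omega, by omega, by omega⟩
  · show (X.blocks.map fun B => ((typ B.t).orb.map fun u => u.a0).sum * B.D).sum = -1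
    rw [lind _ (fun v => rfl) rfl, X.lin0, X.d_one, X.w_one]; rfl
  · show (X.blocks.map fun B => ((typ B.t).orb.map fun u => u.a1).sum * B.D).sum = 0
    rw [lind _ (fun v => rfl) rfl, X.lin1, X.d_one, X.w_one]; rfl
  · show (X.blocks.map fun B => ((B.tv ^ 2 * ((typ B.t).orb.map fun u => u.a0).sum : ℤ) : ℚ) / B.D).sum < -1
    rw [recd _ (fun v => rfl) rfl, X.w_one]
    have := X.rneg
    simp only [Int.cast_one]
    linarith
  · show (X.blocks.map fun B => ((B.tv ^ 2 * ((typ B.t).orb.map fun u => u.a1).sum : ℤ) : ℚ) / B.D).sum < 0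
    rw [recd _ (fun v => rfl) rfl, X.req, X.w_one]
    simpa using X.rneg
  · have h : ∀ B : Blk, ((B.tv ^ 2 * ((typ B.t).s0 - (typ B.t).s1) : ℤ) : ℚ) / B.D =
        ((B.tv ^ 2 * ((typ B.t).orb.map fun u => u.a0).sum : ℤ) : ℚ) / B.D -
          ((B.tv ^ 2 * ((typ B.t).orb.map fun u => u.a1).sum : ℤ) : ℚ) / B.D := fun B => by
      rw [Typ.s0, Typ.s1, mul_sub, Int.cast_sub, sub_div]
    rw [List.map_congr_left fun B _ => h B, sum_map_sub', recd _ (fun v => rfl) rfl, recd _ (fun v => rfl) rfl,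
      X.req, X.w_one]
    simp
  · intro h15
    have hz0 : ∀ i, i ≠ X.one → X.w i = Vec.nul → X.b i = 0 := fun i hi hw => by
      have hsum : ∑ i ∈ (univ.erase X.one).filter (fun i => X.w i = Vec.nul), X.b i * X.b i = 0 := by
        rw [hb] at h15; omega
      exact mul_self_eq_zero.1 ((sum_eq_zero_iff_of_nonneg fun k _ => mul_self_nonneg _).1 hsum i
        (mem_filter.2 ⟨mem_erase.2 ⟨hi, mem_univ _⟩, hw⟩))
    constructor
    · rw [← X.transfer (fun i => X.b i * X.d i) (fun B => ((typ B.t).n : ℤ) * B.β * B.D)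
        (fun i hi h => by rw [hz0 i hi h, zero_mul]) fun t _ j hj => by
          simp only [fun p => (X.pow_σ p j).2.1, fun p => (X.pow_σ p j).2.2.1, sum_const, card_range, blk]
          rcases (X.cls_facts hj).2 with ⟨e, -⟩ | ⟨e, -⟩ <;> simp [e] <;> ring,
        X.sum_ne fun i => X.b i * X.d i, X.linb, X.b_one, X.d_one]
      rfl
    · rw [← X.transfer (fun i => (((5 * X.b i - 4 * (X.w i).total) ^ 2 * X.b i : ℤ) : ℚ) / X.d i)
          (fun B => ((B.tv ^ 2 * ((typ B.t).n * B.β) : ℤ) : ℚ) / B.D)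
        (fun i hi h => by rw [hz0 i hi h]; simp) fun t _ j hj => by
          rw [sum_congr rfl fun p _ => by rw [X.tv_orbit t j hj p, (X.pow_σ p j).2.1, (X.pow_σ p j).2.2.1],
            sum_const, card_range]
          rcases (X.cls_facts hj).2 with ⟨e, -⟩ | ⟨e, -⟩ <;> simp [blk, e, div_neg, neg_div] <;> ring,
        X.sum_ne fun i => (((5 * X.b i - 4 * (X.w i).total) ^ 2 * X.b i : ℤ) : ℚ) / X.d i, X.recb, one_T,
        X.b_one, X.d_one]
      simp

end Fifteen

end CfsgLib.Recog.UFourSylow.Cert
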