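import Mathlib.Algebra.BigOperators.Field
import Mathlib.Algebra.BigOperators.Fin
import Mathlib.Algebra.Order.BigOperators.Group.Finset
import Mathlib.Data.Rat.Lemmas
import Mathlib.Data.Fintype.Fin
import Mathlib.Tactic.Linarith
import Mathlib.Tactic.NormNum
import Mathlib.Tactic.IntervalCases
import Mathlib.Tactic.Ring

set_option autoImplicit false

/-!
The principal block is impossible if `N(S)/S` has odd part three (owner: helper25; by hand).

`v j` is the coefficient at the vanishing character `L - psi j` of norm four, `q` the one at `4 psi 0 - eta` of norm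
seventeen; `T` is then the value at the involutions and `C` the sum of the values at the five classes of elements
of order four.
-/

namespace CfsgLib.Recog.UFourSylow.Cert

open Finset

/-- The data of the case three. -/
structure Three (ι : Type*) [Fintype ι] where
  one : ι
  v : Fin 5 → ι → ℤ
  q : ι → ℤ
  d : ι → ℤ
  v_one : ∀ j, v j one = 1
  q_one : q one = 0
  d_one : d one = 1
  vv : ∀ j k, ∑ i, v j i * v k i = if j = k then 4 else 3
  qq : ∑ i, q i * q i = 17
  qv : ∀ j, ∑ i, q i * v j i = if j = 0 then -4 else 0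
  recC : ∑ i, ((((-3 * ∑ j, v j i) + 16 * v 0 i + 4 * q i) ^ 2 * ∑ j, v j i : ℤ) : ℚ) / d i = 0
  cong : ∀ i, (64 : ℤ) ∣ d i + 3 * ((-3 * ∑ j, v j i) + 16 * v 0 i + 4 * q i) + 12 * ∑ j, v j i
  dpos : ∀ i, 0 < d i
  not_linear : ∀ i, i ≠ one → d i ≠ 1
  faith : ∀ i, i ≠ one → d i ≠ (-3 * ∑ j, v j i) + 16 * v 0 i + 4 * q i

/-- Five sets of size three meeting in pairs have a common pair. -/
theorem sunflower {ι : Type*} [DecidableEq ι] (A : Fin 5 → Finset ι) (h3 : ∀ j, (A j).card = 3)
    (h2 : ∀ j k, j ≠ k → (A j ∩ A k).card = 2) (j : Fin 5) : A 0 ∩ A 1 ⊆ A j := by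
  set K := A 0 ∩ A 1 with hK
  have hKc : K.card = 2 := h2 0 1 (by decide)
  obtain ⟨a, ha⟩ := card_eq_one.1 (by rw [card_sdiff_of_subset inter_subset_left, h3, hKc] : (A 0 \ K).card = 1)
  obtain ⟨b, hb⟩ := card_eq_one.1 (by rw [card_sdiff_of_subset inter_subset_right, h3, hKc] : (A 1 \ K).card = 1)
  have ha0 : a ∈ A 0 ∧ a ∉ K := mem_sdiff.1 (ha ▸ mem_singleton_self a)
  have hb1 : b ∈ A 1 ∧ b ∉ K := mem_sdiff.1 (hb ▸ mem_singleton_self b)
  have hab : a ≠ b := fun e => ha0.2 (mem_inter.2 ⟨ha0.1, e ▸ hb1.1⟩)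
  -- a set without `K` contains `a` and `b`
  have out : ∀ l, l ≠ 0 → l ≠ 1 → ¬ K ⊆ A l → a ∈ A l ∧ b ∈ A l := by
    intro l hl0 hl1 hKl
    have hlt : (K ∩ A l).card ≤ 1 := by
      by_contra hc
      exact hKl fun x hx => (mem_inter.1
        ((eq_of_subset_of_card_le (inter_subset_left : K ∩ A l ⊆ K) (by omega)).symm ▸ hx)).2
    constructor <;> by_contra hna
    · have : A 0 ∩ A l ⊆ K ∩ A l := fun x hx => by
        obtain ⟨x0, xl⟩ := mem_inter.1 hx
        refine mem_inter.2 ⟨?_, xl⟩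
        by_contra hxK
        exact hna (mem_singleton.1 (ha ▸ mem_sdiff.2 ⟨x0, hxK⟩) ▸ xl)
      have := card_le_card this
      rw [h2 0 l (Ne.symm hl0)] at this
      omega
    · have : A 1 ∩ A l ⊆ K ∩ A l := fun x hx => by
        obtain ⟨x0, xl⟩ := mem_inter.1 hx
        refine mem_inter.2 ⟨?_, xl⟩
        by_contra hxK
        exact hna (mem_singleton.1 (hb ▸ mem_sdiff.2 ⟨x0, hxK⟩) ▸ xl)
      have := card_le_card this
      rw [h2 1 l (Ne.symm hl1)] at this
      omega
  intro x hx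
  by_contra hxj
  have hj0 : j ≠ 0 := fun e => hxj (e ▸ (mem_inter.1 hx).1)
  have hj1 : j ≠ 1 := fun e => hxj (e ▸ (mem_inter.1 hx).2)
  obtain ⟨l, m, hlm, hl, hm⟩ : ∃ l m : Fin 5, l ≠ m ∧ (l ≠ 0 ∧ l ≠ 1 ∧ l ≠ j) ∧ (m ≠ 0 ∧ m ≠ 1 ∧ m ≠ j) :=
    (by decide : ∀ j : Fin 5, j ≠ 0 → j ≠ 1 →
      ∃ l m : Fin 5, l ≠ m ∧ (l ≠ 0 ∧ l ≠ 1 ∧ l ≠ j) ∧ (m ≠ 0 ∧ m ≠ 1 ∧ m ≠ j)) j hj0 hj1
  obtain ⟨haj, hbj⟩ := out j hj0 hj1 fun hs => hxj (hs hx)
  -- all sets live on `K`, `a`, `b`
  set U := insert a (insert b K)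
  have hsub : ∀ n, n ≠ 0 → n ≠ 1 → A n ⊆ U := by
    intro n hn0 hn1 y hy
    by_cases hKn : K ⊆ A n
    · by_contra hyU
      simp only [U, mem_insert, not_or] at hyU
      have hAn : A n = insert y K := by
        refine (eq_of_subset_of_card_le (insert_subset hy hKn) ?_).symm
        rw [h3, card_insert_of_notMem hyU.2.2, hKc]
      have hne : n ≠ j := fun e => hxj (e ▸ hKn hx)
      have hAj : A j ∩ A n ⊆ ((A j).erase a).erase b := fun z hz => by
        obtain ⟨zj, zn⟩ := mem_inter.1 hz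
        rw [hAn, mem_insert] at zn
        refine mem_erase.2 ⟨fun e => ?_, mem_erase.2 ⟨fun e => ?_, zj⟩⟩
        · rcases zn with q | q
          · exact hyU.2.1 (q.symm.trans e)
          · exact hb1.2 (e ▸ q)
        · rcases zn with q | q
          · exact hyU.1 (q.symm.trans e)
          · exact ha0.2 (e ▸ q)
      have := card_le_card hAj
      rw [h2 j n hne.symm, card_erase_of_mem (mem_erase.2 ⟨hab.symm, hbj⟩), card_erase_of_mem haj, h3] at this
      omega
    · obtain ⟨hna, hnb⟩ := out n hn0 hn1 hKn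
      obtain ⟨z, hzn, hzK⟩ : ∃ z ∈ A n, z ∈ K := by
        by_contra hc
        push Not at hc
        have : A 0 ∩ A n ⊆ {a} := fun z hz => by
          obtain ⟨z0, zn⟩ := mem_inter.1 hz
          exact ha ▸ mem_sdiff.2 ⟨z0, hc z zn⟩
        have := card_le_card this
        rw [h2 0 n (Ne.symm hn0), card_singleton] at this
        omega
      have hAn : A n = insert a (insert b {z}) := by
        refine (eq_of_subset_of_card_le (insert_subset hna (insert_subset hnb (singleton_subset_iff.2 hzn))) ?_).symm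
        rw [h3, card_insert_of_notMem, card_insert_of_notMem, card_singleton]
        · simpa using fun e : b = z => hb1.2 (e ▸ hzK)
        · simpa using ⟨hab, fun e : a = z => ha0.2 (e ▸ hzK)⟩
      rw [hAn, mem_insert, mem_insert, mem_singleton] at hy
      rcases hy with rfl | rfl | rfl <;> simp [U, hzK]
  have hU : U.card = 4 := by
    rw [card_insert_of_notMem (by simp [hab, ha0.2]), card_insert_of_notMem hb1.2, hKc]
  have hsub' : ∀ n, A n ⊆ U := fun n => by
    by_cases h0 : n = 0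
    · subst h0; intro y hy
      by_cases hyK : y ∈ K
      · simp [U, hyK]
      · simp [U, mem_singleton.1 (ha ▸ mem_sdiff.2 ⟨hy, hyK⟩)]
    by_cases h1 : n = 1
    · subst h1; intro y hy
      by_cases hyK : y ∈ K
      · simp [U, hyK]
      · simp [U, mem_singleton.1 (hb ▸ mem_sdiff.2 ⟨hy, hyK⟩)]
    exact hsub n h0 h1
  have hinj : Function.Injective A := fun n m e => by
    by_contra hne
    have := h2 n m hne
    rw [e, inter_self, h3] at this
    omega
  have h5 := card_le_card_of_injOn A (s := (univ : Finset (Fin 5))) (t := U.powersetCard 3)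
    (fun n _ => mem_coe.2 (mem_powersetCard.2 ⟨hsub' n, h3 n⟩)) hinj.injOn
  rw [card_univ, Fintype.card_fin, card_powersetCard, hU] at h5
  have : Nat.choose 4 3 = 4 := rfl
  omega

namespace Three

variable {ι : Type*} [Fintype ι] (X : Three ι)

/-- The value at the involutions. -/
def T (i : ι) : ℤ := (-3 * ∑ j, X.v j i) + 16 * X.v 0 i + 4 * X.q i

/-- The sum of the values at the elements of order four. -/
def C (i : ι) : ℤ := ∑ j, X.v j i

include X in
/-- The data is contradictory. -/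
theorem impossible : False := by
  classical
  set S := univ.erase X.one
  have split : ∀ F : ι → ℤ, ∑ i ∈ S, F i = (∑ i, F i) - F X.one := fun F => by
    rw [eq_sub_iff_add_eq, add_comm, add_sum_erase _ _ (mem_univ _)]
  set A : Fin 5 → Finset ι := fun j => S.filter fun i => X.v j i ≠ 0
  have memA : ∀ j i, i ∈ A j ↔ i ∈ S ∧ X.v j i ≠ 0 := fun j i => mem_filter
  have gram : ∀ j k, ∑ i ∈ A j ∩ A k, X.v j i * X.v k i = if j = k then 3 else 2 := fun j k => by
    rw [sum_subset (s₂ := S) (inter_subset_left.trans (filter_subset _ _)) fun i hi hni => ?_,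
      split fun i => X.v j i * X.v k i, X.vv, X.v_one, X.v_one]
    · split_ifs <;> rfl
    · rw [mem_inter, memA, memA] at hni
      by_contra hc
      exact hni ⟨⟨hi, left_ne_zero_of_mul hc⟩, ⟨hi, right_ne_zero_of_mul hc⟩⟩
  have unit : ∀ j, ∀ i ∈ A j, X.v j i = 1 ∨ X.v j i = -1 := fun j i hi => by
    have h := gram j j
    rw [if_pos rfl, inter_self] at h
    have h' := single_le_sum (f := fun i => X.v j i * X.v j i) (fun i _ => mul_self_nonneg _) hi
    rw [h] at h'
    have hne := ((memA j i).1 hi).2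
    rcases (by constructor <;> by_contra hh <;> push Not at hh <;> nlinarith : -1 ≤ X.v j i ∧ X.v j i ≤ 1) with ⟨a, b⟩
    omega
  have h3 : ∀ j, (A j).card = 3 := fun j => by
    have h := gram j j
    rw [if_pos rfl, inter_self, sum_congr rfl fun i hi => (by rcases unit j i hi with e | e <;> rw [e] <;> rfl :
      X.v j i * X.v j i = 1), sum_const, nsmul_one] at h
    exact_mod_cast h
  have h2 : ∀ j k, j ≠ k → (A j ∩ A k).card = 2 := fun j k hne => by
    have h := gram j k
    rw [if_neg hne] at h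
    have hub : ∀ i ∈ A j ∩ A k, X.v j i * X.v k i = 1 ∨ X.v j i * X.v k i = -1 := fun i hi => by
      rcases unit j i (mem_inter.1 hi).1 with e | e <;> rcases unit k i (mem_inter.1 hi).2 with e' | e' <;>
        rw [e, e'] <;> decide
    have hle : (A j ∩ A k).card ≤ 3 := h3 j ▸ card_le_card inter_subset_left
    have hge : ∑ i ∈ A j ∩ A k, X.v j i * X.v k i ≤ ∑ i ∈ A j ∩ A k, (1 : ℤ) :=
      sum_le_sum fun i hi => by rcases hub i hi with e | e <;> omega
    rw [h, sum_const, nsmul_one] at hge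
    rcases (by omega : (A j ∩ A k).card = 2 ∨ (A j ∩ A k).card = 3) with e | e
    · exact e
    · exfalso
      obtain ⟨x, y, z, hxy, hxz, hyz, hs⟩ := card_eq_three.1 e
      rw [hs, sum_insert (by simp [hxy, hxz]), sum_insert (by simp [hyz]), sum_singleton] at h
      have hx := hub x (by rw [hs]; simp)
      have hy := hub y (by rw [hs]; simp)
      have hz := hub z (by rw [hs]; simp)
      omega
  have hsun := sunflower A h3 h2
  set K := A 0 ∩ A 1
  have hKc : K.card = 2 := h2 0 1 (by decide)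
  have hone : ∀ j, ∃ x, x ∉ K ∧ A j = insert x K := fun j => by
    obtain ⟨x, hx⟩ := card_eq_one.1 (by rw [card_sdiff_of_subset (hsun j), h3, hKc] : (A j \ K).card = 1)
    have hxm := mem_sdiff.1 (hx ▸ mem_singleton_self x : x ∈ A j \ K)
    refine ⟨x, hxm.2, (eq_of_subset_of_card_le (insert_subset hxm.1 (hsun j)) ?_).symm⟩
    rw [h3, card_insert_of_notMem hxm.2, hKc]
  choose x hxK hA using hone
  have hinter : ∀ j k, j ≠ k → A j ∩ A k = K := fun j k hne =>
    (eq_of_subset_of_card_le (subset_inter (hsun j) (hsun k)) (by rw [h2 j k hne, hKc])).symm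
  have hxinj : Function.Injective x := fun j k e => by
    by_contra hne
    refine hxK j ?_
    rw [← hinter j k hne, mem_inter, hA j, hA k, e]
    exact ⟨mem_insert_self .., mem_insert_self ..⟩
  have hK : ∀ i ∈ K, ∀ j, X.v j i = X.v 0 i := fun i hi j => by
    by_cases hj : j = 0
    · rw [hj]
    have h := gram j 0
    rw [if_neg hj, hinter j 0 hj] at h
    obtain ⟨y, z, hyz, hs⟩ := card_eq_two.1 hKc
    rw [hs, sum_pair hyz] at h
    rw [hs, mem_insert, mem_singleton] at hi
    have hy1 : y ∈ K := by rw [hs]; simp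
    have hz1 : z ∈ K := by rw [hs]; simp
    rcases unit j y (hsun j hy1) with a | a <;> rcases unit 0 y (hsun 0 hy1) with b | b <;>
      rcases unit j z (hsun j hz1) with c | c <;> rcases unit 0 z (hsun 0 hz1) with e | e <;>
      rw [a, b, c, e] at h <;> first | omega | (rcases hi with rfl | rfl <;> simp [*])
  have hzero : ∀ j, ∀ i ∈ S, i ∉ A j → X.v j i = 0 := fun j i hi hn => by
    by_contra hc; exact hn ((memA j i).2 ⟨hi, hc⟩)
  have hxA : ∀ j, x j ∈ A j := fun j => by rw [hA]; exact mem_insert_self ..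
  have hCx : ∀ j, X.C (x j) = X.v j (x j) := fun j => by
    refine sum_eq_single j (fun k _ hk => hzero k _ ((memA j _).1 (hxA j)).1 fun hm => ?_) (by simp)
    rw [hA k, mem_insert] at hm
    exact hm.elim (fun e => hk (hxinj e).symm) (hxK j)
  have hCK : ∀ i ∈ K, X.C i = 5 * X.v 0 i := fun i hi => by
    show ∑ j, X.v j i = _
    rw [sum_congr rfl fun j _ => hK i hi j, sum_const, card_univ, Fintype.card_fin]
    simp
  obtain ⟨y, z, hyz, hKs⟩ := card_eq_two.1 hKc
  have hyK : y ∈ K := by rw [hKs]; simp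
  have hzK : z ∈ K := by rw [hKs]; simp
  have hv0x : ∀ j, j ≠ 0 → X.v 0 (x j) = 0 := fun j hj => hzero 0 _ ((memA j _).1 (hxA j)).1 fun hm => by
    rw [hA 0, mem_insert] at hm
    exact hm.elim (fun e => hj (hxinj e)) (hxK j)
  -- the coefficients of `q`
  set p : ℤ := -(X.q y * X.v 0 y + X.q z * X.v 0 z)
  have hqx : ∀ j, X.q (x j) * X.v j (x j) = p - if j = 0 then 4 else 0 := fun j => by
    have h := X.qv j
    have e : ∑ i ∈ A j, X.q i * X.v j i = ∑ i, X.q i * X.v j i := by
      refine sum_subset (subset_univ _) fun i _ hn => ?_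
      by_cases hi : i = X.one
      · rw [hi, X.q_one, zero_mul]
      · rw [hzero j i (mem_erase.2 ⟨hi, mem_univ _⟩) hn, mul_zero]
    rw [← e, hA j, sum_insert (hxK j), hKs, sum_pair hyz, hK y hyK j, hK z hzK j] at h
    split_ifs at h ⊢ <;> simp only [p] <;> omega
  have hq17 : (p - 4) * (p - 4) + 4 * (p * p) + (X.q y * X.q y + X.q z * X.q z) ≤ 17 := by
    have hsq : ∀ j, X.q (x j) * X.q (x j) = (p - if j = 0 then 4 else 0) * (p - if j = 0 then 4 else 0) := fun j => by
      rw [← hqx j]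
      rcases unit j _ (hxA j) with e | e <;> rw [e] <;> ring
    have hle : ∑ i ∈ univ.image x ∪ K, X.q i * X.q i ≤ ∑ i, X.q i * X.q i :=
      sum_le_sum_of_subset_of_nonneg (subset_univ _) fun i _ _ => mul_self_nonneg _
    rw [sum_union (disjoint_left.2 fun i hi hiK => by
        obtain ⟨j, -, rfl⟩ := mem_image.1 hi; exact hxK j hiK),
      sum_image (fun a _ b _ e => hxinj e), X.qq, hKs, sum_pair hyz, sum_congr rfl fun j _ => hsq j,
      Fin.sum_univ_five] at hle
    simp only [Fin.reduceEq, if_true, if_false, sub_zero] at hle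
    linarith
  have hp : p = 0 ∨ p = 1 := by
    have h1 : -1 < p := by by_contra hc; push Not at hc; nlinarith [mul_self_nonneg (X.q y), mul_self_nonneg (X.q z)]
    have h2 : p < 2 := by by_contra hc; push Not at hc; nlinarith [mul_self_nonneg (X.q y), mul_self_nonneg (X.q z)]
    omega
  -- the reciprocal equation
  have hrec : (5 : ℚ) + ((∑ j, ((X.T (x j) ^ 2 * X.C (x j) : ℤ) : ℚ) / X.d (x j)) +
      (((X.T y ^ 2 * X.C y : ℤ) : ℚ) / X.d y + ((X.T z ^ 2 * X.C z : ℤ) : ℚ) / X.d z)) = 0 := by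
    have h : ∑ i, ((X.T i ^ 2 * X.C i : ℤ) : ℚ) / X.d i = 0 := X.recC
    have e1 : X.T X.one = 1 := by simp [T, X.v_one, X.q_one]
    have e2 : X.C X.one = 5 := by simp [C, X.v_one]
    rw [← add_sum_erase _ _ (mem_univ X.one), e1, e2, X.d_one] at h
    have hsub : univ.image x ∪ K ⊆ S := fun i hi => by
      rcases mem_union.1 hi with hi | hi
      · obtain ⟨j, -, rfl⟩ := mem_image.1 hi; exact ((memA j _).1 (hxA j)).1
      · exact ((memA 0 i).1 (hsun 0 hi)).1
    rw [← sum_subset hsub fun i hi hni => ?_] at h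
    · rw [sum_union (disjoint_left.2 fun i hi hiK => by
          obtain ⟨j, -, rfl⟩ := mem_image.1 hi; exact hxK j hiK),
        sum_image (fun a _ b _ e => hxinj e), hKs, sum_pair hyz] at h
      simpa using h
    · have hC : X.C i = 0 := sum_eq_zero fun j _ => hzero j i hi fun hm => hni (by
        rw [hA j, mem_insert] at hm
        exact hm.elim (fun e => mem_union.2 (Or.inl (mem_image.2 ⟨j, mem_univ _, e.symm⟩)))
          fun e => mem_union.2 (Or.inr e))
      simp [hC]
  -- bounds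
  have low : ∀ (i : ι) (m M : ℤ), 0 < m → m ≤ X.d i → (-M ≤ X.T i ^ 2 * X.C i) → 0 ≤ M →
      -((M : ℚ) / m) ≤ ((X.T i ^ 2 * X.C i : ℤ) : ℚ) / X.d i := fun i m M hm hd hM hM0 => by
    have hm' : (0 : ℚ) < m := by exact_mod_cast hm
    have hd' : (m : ℚ) ≤ X.d i := by exact_mod_cast hd
    have hM' : -(M : ℚ) ≤ ((X.T i ^ 2 * X.C i : ℤ) : ℚ) := by exact_mod_cast hM
    have hM0' : (0 : ℚ) ≤ M := by exact_mod_cast hM0
    rw [le_div_iff₀ (lt_of_lt_of_le hm' hd')]
    refine le_trans ?_ hM'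
    have : (M : ℚ) ≤ M / m * X.d i := by
      rw [div_mul_eq_mul_div, le_div_iff₀ hm']
      exact mul_le_mul_of_nonneg_left hd' hM0'
    linarith
  have memS : ∀ i, i ∈ univ.image x ∪ K → i ≠ X.one := fun i hi e => by
    rcases mem_union.1 hi with hi | hi
    · obtain ⟨j, -, rfl⟩ := mem_image.1 hi; exact (mem_erase.1 ((memA j _).1 (hxA j)).1).1 e
    · exact (mem_erase.1 ((memA 0 i).1 (hsun 0 hi)).1).1 e
  have facts : ∀ i, i ∈ univ.image x ∪ K → X.d i ≠ 1 ∧ X.d i ≠ X.T i ∧ 0 < X.d i ∧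
      (64 : ℤ) ∣ X.d i + 3 * X.T i + 12 * X.C i := fun i hi =>
    ⟨X.not_linear i (memS i hi), X.faith i (memS i hi), X.dpos i, X.cong i⟩
  have hx' : ∀ j, X.T (x j) = X.v j (x j) * (4 * p - 3) := fun j => by
    have hq := hqx j
    show (-3 * X.C (x j)) + 16 * X.v 0 (x j) + 4 * X.q (x j) = _
    rw [hCx]
    by_cases hj : j = 0
    · subst hj
      rw [if_pos rfl] at hq
      rcases unit 0 _ (hxA 0) with e | e <;> rw [e] at hq ⊢ <;> omega
    · rw [if_neg hj] at hq
      rw [hv0x j hj]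
      rcases unit j _ (hxA j) with e | e <;> rw [e] at hq ⊢ <;> omega
  have hK' : ∀ i ∈ K, X.T i = X.v 0 i + 4 * X.q i := fun i hi => by
    show (-3 * X.C i) + 16 * X.v 0 i + 4 * X.q i = _
    rw [hCK i hi]; ring
  rcases hp with hp | hp
  · -- `p = 0`
    have hqy : X.q y = 0 ∧ X.q z = 0 := by
      rw [hp] at hq17
      have h1 := mul_self_nonneg (X.q y)
      have h2 := mul_self_nonneg (X.q z)
      have hsum : X.q y * X.v 0 y + X.q z * X.v 0 z = 0 := by simp only [p] at hp; omega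
      have a : -1 ≤ X.q y ∧ X.q y ≤ 1 := by constructor <;> by_contra hc <;> push Not at hc <;> nlinarith
      have b : -1 ≤ X.q z ∧ X.q z ≤ 1 := by constructor <;> by_contra hc <;> push Not at hc <;> nlinarith
      obtain ⟨a1, a2⟩ := a
      obtain ⟨b1, b2⟩ := b
      interval_cases X.q y <;> interval_cases X.q z <;>
        first
        | exact ⟨rfl, rfl⟩
        | omega
        | (rcases unit 0 y (hsun 0 hyK) with e | e <;> rcases unit 0 z (hsun 0 hzK) with e' | e' <;>
            rw [e, e'] at hsum <;> omega)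
    have bK : ∀ i ∈ K, X.q i = 0 → -((5 : ℚ) / 63) ≤ ((X.T i ^ 2 * X.C i : ℤ) : ℚ) / X.d i := fun i hi hqi => by
      obtain ⟨f1, f2, f3, f4⟩ := facts i (mem_union_right _ hi)
      rw [hK' i hi, hqi, hCK i hi] at f4
      refine le_trans (by norm_num) (low i 63 5 (by norm_num) ?_ ?_ (by norm_num))
      · rcases unit 0 i (hsun 0 hi) with e | e <;> rw [e] at f4 <;> omega
      · rw [hK' i hi, hqi, hCK i hi]; rcases unit 0 i (hsun 0 hi) with e | e <;> rw [e] <;> norm_num
    have bx : ∀ j, -((9 : ℚ) / 61) ≤ ((X.T (x j) ^ 2 * X.C (x j) : ℤ) : ℚ) / X.d (x j) := fun j => by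
      obtain ⟨f1, f2, f3, f4⟩ := facts (x j) (mem_union_left _ (mem_image_of_mem x (mem_univ j)))
      rw [hx', hp] at f2
      rw [hx', hp, hCx] at f4
      refine le_trans (by norm_num) (low (x j) 61 9 (by norm_num) ?_ ?_ (by norm_num))
      · rcases unit j _ (hxA j) with e | e <;> rw [e] at f2 f4 <;> omega
      · rw [hx', hp, hCx]; rcases unit j _ (hxA j) with e | e <;> rw [e] <;> norm_num
    have := bK y hyK hqy.1
    have := bK z hzK hqy.2
    rw [Fin.sum_univ_five] at hrec
    linarith [bx 0, bx 1, bx 2, bx 3, bx 4]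
  · -- `p = 1`
    have bx : ∀ j, -((1 : ℚ) / 15) ≤ ((X.T (x j) ^ 2 * X.C (x j) : ℤ) : ℚ) / X.d (x j) := fun j => by
      obtain ⟨f1, f2, f3, f4⟩ := facts (x j) (mem_union_left _ (mem_image_of_mem x (mem_univ j)))
      rw [hx', hp, hCx] at f4
      refine le_trans (by norm_num) (low (x j) 15 1 (by norm_num) ?_ ?_ (by norm_num))
      · rcases unit j _ (hxA j) with e | e <;> rw [e] at f4 <;> omega
      · rw [hx', hp, hCx]; rcases unit j _ (hxA j) with e | e <;> rw [e] <;> norm_num
    -- one of the two has `q = -v`, the other `q = 0`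
    have hyz' : X.q y = -X.v 0 y ∧ X.q z = 0 ∨ X.q y = 0 ∧ X.q z = -X.v 0 z := by
      rw [hp] at hq17
      have hsum : X.q y * X.v 0 y + X.q z * X.v 0 z = -1 := by simp only [p] at hp; omega
      have a : -2 ≤ X.q y ∧ X.q y ≤ 2 := by
        constructor <;> by_contra hc <;> push Not at hc <;> nlinarith [mul_self_nonneg (X.q z)]
      have b : -2 ≤ X.q z ∧ X.q z ≤ 2 := by
        constructor <;> by_contra hc <;> push Not at hc <;> nlinarith [mul_self_nonneg (X.q y)]
      obtain ⟨a1, a2⟩ := a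
      obtain ⟨b1, b2⟩ := b
      rcases unit 0 y (hsun 0 hyK) with e | e <;> rcases unit 0 z (hsun 0 hzK) with e' | e' <;>
        rw [e, e'] at hsum ⊢ <;> interval_cases X.q y <;> interval_cases X.q z <;> omega
    have bneg : ∀ i ∈ K, X.q i = -X.v 0 i → -((45 : ℚ) / 13) ≤ ((X.T i ^ 2 * X.C i : ℤ) : ℚ) / X.d i :=
      fun i hi hqi => by
        obtain ⟨f1, f2, f3, f4⟩ := facts i (mem_union_right _ hi)
        rw [hK' i hi, hqi, hCK i hi] at f4
        refine le_trans (by norm_num) (low i 13 45 (by norm_num) ?_ ?_ (by norm_num))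
        · rcases unit 0 i (hsun 0 hi) with e | e <;> rw [e] at f4 <;> omega
        · rw [hK' i hi, hqi, hCK i hi]; rcases unit 0 i (hsun 0 hi) with e | e <;> rw [e] <;> norm_num
    have bzero : ∀ i ∈ K, X.q i = 0 → -((5 : ℚ) / 63) ≤ ((X.T i ^ 2 * X.C i : ℤ) : ℚ) / X.d i := fun i hi hqi => by
      obtain ⟨f1, f2, f3, f4⟩ := facts i (mem_union_right _ hi)
      rw [hK' i hi, hqi, hCK i hi] at f4
      refine le_trans (by norm_num) (low i 63 5 (by norm_num) ?_ ?_ (by norm_num))
      · rcases unit 0 i (hsun 0 hi) with e | e <;> rw [e] at f4 <;> omega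
      · rw [hK' i hi, hqi, hCK i hi]; rcases unit 0 i (hsun 0 hi) with e | e <;> rw [e] <;> norm_num
    rw [Fin.sum_univ_five] at hrec
    rcases hyz' with ⟨h1, h2⟩ | ⟨h1, h2⟩
    · linarith [bx 0, bx 1, bx 2, bx 3, bx 4, bneg y hyK h1, bzero z hzK h2]
    · linarith [bx 0, bx 1, bx 2, bx 3, bx 4, bneg z hzK h2, bzero y hyK h1]

end Three

end CfsgLib.Recog.UFourSylow.Cert
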