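import Cfsg.Agent.Lib.Recog.UFourSylow.Cert.TypesData
import Mathlib.Algebra.Order.Group.Int
import Mathlib.Data.List.Dedup
import Mathlib.Tactic.Tauto

set_option autoImplicit false
set_option maxRecDepth 100000

/-!
Every coefficient vector lies in one orbit of the list, or is too long (owner: helper25).
-/

namespace CfsgLib.Recog.UFourSylow.Cert

namespace Vec

/-- The Galois action. -/
def rot (v : Vec) : Vec := ⟨v.a0, v.a4, v.a1, v.a2, v.a3⟩

/-- The negative. -/
def opp (v : Vec) : Vec := ⟨-v.a0, -v.a1, -v.a2, -v.a3, -v.a4⟩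

/-- The sum of the coefficients. -/
def total (v : Vec) : ℤ := v.a0 + v.a1 + v.a2 + v.a3 + v.a4

/-- The zero vector. -/
def nul : Vec := ⟨0, 0, 0, 0, 0⟩

/-- A power of the action. -/
def rotN : ℕ → Vec → Vec
  | 0, v => v
  | p + 1, v => (rotN p v).rot

/-- The code of a vector with entries between `-2` and `2`. -/
def code (v : Vec) : ℕ :=
  ((v.a0 + 2) + 5 * ((v.a1 + 2) + 5 * ((v.a2 + 2) + 5 * ((v.a3 + 2) + 5 * (v.a4 + 2))))).toNat

/-- The vector of a code. -/
def ofCode (c : ℕ) : Vec :=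
  ⟨((c % 5 : ℕ) : ℤ) - 2, ((c / 5 % 5 : ℕ) : ℤ) - 2, ((c / 25 % 5 : ℕ) : ℤ) - 2, ((c / 125 % 5 : ℕ) : ℤ) - 2,
    ((c / 625 % 5 : ℕ) : ℤ) - 2⟩

theorem rot_opp (v : Vec) : v.opp.rot = v.rot.opp := rfl

theorem rot_inj {u v : Vec} (h : u.rot = v.rot) : u = v := by
  cases u; cases v; simp only [rot, mk.injEq] at h ⊢; tauto

theorem rotN_inj : ∀ (p : ℕ) {u v : Vec}, rotN p u = rotN p v → u = v
  | 0, _, _, h => h
  | p + 1, _, _, h => rotN_inj p (rot_inj h)

theorem rotN_opp : ∀ (p : ℕ) (v : Vec), rotN p v.opp = (rotN p v).opp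
  | 0, _ => rfl
  | p + 1, v => by rw [rotN, rotN, rotN_opp p v, rot_opp]

theorem ofCode_code {v : Vec} (h : (-2 ≤ v.a0 ∧ v.a0 ≤ 2) ∧ (-2 ≤ v.a1 ∧ v.a1 ≤ 2) ∧ (-2 ≤ v.a2 ∧ v.a2 ≤ 2) ∧
    (-2 ≤ v.a3 ∧ v.a3 ≤ 2) ∧ (-2 ≤ v.a4 ∧ v.a4 ≤ 2)) : v.code < 3125 ∧ ofCode v.code = v := by
  obtain ⟨a, b, c, d, e⟩ := v
  simp only [code, ofCode, mk.injEq] at h ⊢
  omega

end Vec

/-- The orbit of a type, with true signs. -/
def Typ.orb (t : Typ) : List Vec := (List.range t.n).map fun p => Vec.rotN p t.rep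

/-- A member with a sign. -/
def Typ.mem (t : Typ) (p : ℕ) (ng : Bool) : Vec :=
  if ng then (Vec.rotN p t.rep).opp else Vec.rotN p t.rep

/-- The raw tag of a code. -/
def rawTag (c : ℕ) : ℕ := tagData / 2 ^ (10 * c) % 1024

/-- The type with an index. -/
def typ (i : ℕ) : Typ := typs.getD i ⟨Vec.nul, 0, false⟩

/-- Too long for the norms four and five. -/
def long (v : Vec) : Bool :=
  let L := ((List.range 4).map fun p => Vec.rotN p v).dedup
  decide (4 < (L.map fun u => u.a0 * u.a0).sum ∨ 5 < (L.map fun u => u.a1 * u.a1).sum)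

/-- The check of one code: a tag points back to it, else it is zero or too long. -/
def covOne (c : ℕ) : Bool :=
  let x := rawTag c
  let v := Vec.ofCode c
  if x % 128 = 0 then decide (v = Vec.nul) || long v
  else decide (x % 128 - 1 < 75) && (decide (x / 128 % 4 < (typ (x % 128 - 1)).n) &&
    ((!((typ (x % 128 - 1)).flip && decide (x / 512 = 1))) &&
      decide ((typ (x % 128 - 1)).mem (x / 128 % 4) (decide (x / 512 = 1)) = v)))

/-- The members of a type have their tags. -/
def invOne (i : ℕ) : Bool :=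
  decide ((typ i).n ≤ 4) && (List.range (typ i).n).all fun p =>
    decide (rawTag ((typ i).mem p false).code = i + 1 + 128 * p) &&
      ((typ i).flip || decide (rawTag ((typ i).mem p true).code = i + 1 + 128 * p + 512))

theorem inv_ok : (List.range 75).all invOne = true := by decide +kernel

theorem cov_ok0 : (List.range 625).all (fun c => covOne c) = true := by decide +kernel
theorem cov_ok1 : (List.range 625).all (fun c => covOne (c + 625)) = true := by decide +kernel
theorem cov_ok2 : (List.range 625).all (fun c => covOne (c + 1250)) = true := by decide +kernel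
theorem cov_ok3 : (List.range 625).all (fun c => covOne (c + 1875)) = true := by decide +kernel
theorem cov_ok4 : (List.range 625).all (fun c => covOne (c + 2500)) = true := by decide +kernel

theorem cov_ok {c : ℕ} (hc : c < 3125) : covOne c = true := by
  rcases (by omega : c < 625 ∨ (625 ≤ c ∧ c < 1250) ∨ (1250 ≤ c ∧ c < 1875) ∨ (1875 ≤ c ∧ c < 2500) ∨ 2500 ≤ c) with
    h | h | h | h | h
  · exact List.all_eq_true.1 cov_ok0 c (List.mem_range.2 h)
  · simpa [show c - 625 + 625 = c by omega] using List.all_eq_true.1 cov_ok1 (c - 625) (List.mem_range.2 (by omega))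
  · simpa [show c - 1250 + 1250 = c by omega] using List.all_eq_true.1 cov_ok2 (c - 1250) (List.mem_range.2 (by omega))
  · simpa [show c - 1875 + 1875 = c by omega] using List.all_eq_true.1 cov_ok3 (c - 1875) (List.mem_range.2 (by omega))
  · simpa [show c - 2500 + 2500 = c by omega] using List.all_eq_true.1 cov_ok4 (c - 2500) (List.mem_range.2 (by omega))

/-- Every small vector is zero, too long, or a member with a sign. -/
theorem cover {v : Vec} (h : (-2 ≤ v.a0 ∧ v.a0 ≤ 2) ∧ (-2 ≤ v.a1 ∧ v.a1 ≤ 2) ∧ (-2 ≤ v.a2 ∧ v.a2 ≤ 2) ∧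
    (-2 ≤ v.a3 ∧ v.a3 ≤ 2) ∧ (-2 ≤ v.a4 ∧ v.a4 ≤ 2)) :
    v = Vec.nul ∨ long v = true ∨
      ∃ i < 75, ∃ p < (typ i).n, ∃ ng : Bool, ((typ i).flip = true → ng = false) ∧ (typ i).mem p ng = v := by
  obtain ⟨hc, hv⟩ := Vec.ofCode_code h
  have hk := cov_ok hc
  simp only [covOne, hv] at hk
  split_ifs at hk with h0
  · rw [Bool.or_eq_true, decide_eq_true_iff] at hk
    exact hk.imp_right Or.inl
  · simp only [Bool.and_eq_true, decide_eq_true_iff, Bool.not_eq_true', Bool.and_eq_false_iff,
      decide_eq_false_iff_not] at hk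
    refine Or.inr (Or.inr ⟨_, hk.1, _, hk.2.1, _, fun hf => ?_, hk.2.2.2⟩)
    exact decide_eq_false (hk.2.2.1.resolve_left (by simp [hf]))

/-- A member determines its type, position and sign. -/
theorem mem_unique {i j p q : ℕ} {ng mg : Bool} (hi : i < 75) (hj : j < 75) (hp : p < (typ i).n) (hq : q < (typ j).n)
    (hn : (typ i).flip = true → ng = false) (hm : (typ j).flip = true → mg = false)
    (h : (typ i).mem p ng = (typ j).mem q mg) : i = j ∧ p = q ∧ ng = mg := by
  have key : ∀ i p ng, i < 75 → p < (typ i).n → ((typ i).flip = true → ng = false) →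
      rawTag ((typ i).mem p ng).code = i + 1 + 128 * p + (if ng then 512 else 0) ∧ p < 4 := fun i p ng hi hp hn => by
    have := List.all_eq_true.1 inv_ok i (List.mem_range.2 hi)
    simp only [invOne, Bool.and_eq_true, decide_eq_true_iff, List.all_eq_true, List.mem_range, Bool.or_eq_true] at this
    obtain ⟨hle, hall⟩ := this
    refine ⟨?_, lt_of_lt_of_le hp hle⟩
    cases ng with
    | false => simpa using (hall p hp).1
    | true => simpa using (hall p hp).2.resolve_left (fun hf => by simpa using hn hf)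
  obtain ⟨a, ha⟩ := key i p ng hi hp hn
  obtain ⟨b, hb⟩ := key j q mg hj hq hm
  rw [h, b] at a
  cases ng <;> cases mg <;> simp at a ⊢ <;> omega

end CfsgLib.Recog.UFourSylow.Cert
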